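import Mathlib

/-!
# (E) for helper1's S2140 (helper69): a subgroup of `PSL_n(q)` of index `(q^n - 1)/(q - 1)`

The stabiliser of a point of the projective space, for Mathlib's primitive action of `PSL` on it.
-/

set_option autoImplicit false

namespace Cfsg.Agent.Helper69.MinDeg

open Matrix

variable {F : Type*} [Field F] {n : ℕ}

/-- (E) the point stabiliser has index `(q^n - 1)/(q - 1)`. -/
theorem exists_index_eq [Fintype F] (hn : 2 ≤ n) :
    ∃ H : Subgroup (ProjectiveSpecialLinearGroup (Fin n) F),
      H.index = ∑ i ∈ Finset.range n, Fintype.card F ^ i := by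
  classical
  have hne : (Pi.single (⟨0, by omega⟩ : Fin n) (1 : F) : Fin n → F) ≠ 0 := by
    intro h
    have := congrFun h ⟨0, by omega⟩
    simp at this
  let P : Projectivization F (Fin n → F) := Projectivization.mk F _ hne
  refine ⟨MulAction.stabilizer (ProjectiveSpecialLinearGroup (Fin n) F) P, ?_⟩
  haveI : MulAction.IsPretransitive (ProjectiveSpecialLinearGroup (Fin n) F)
      (Projectivization F (Fin n → F)) :=
    (inferInstance : MulAction.IsPreprimitive (ProjectiveSpecialLinearGroup (Fin n) F)
      (Projectivization F (Fin n → F))).toIsPretransitive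
  rw [MulAction.index_stabilizer_of_transitive,
    Projectivization.card_of_finrank (k := F) (V := Fin n → F) (n := n) (by simp),
    Nat.card_eq_fintype_card]

end Cfsg.Agent.Helper69.MinDeg
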