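import Cfsg.Agent.Helper71.Alp.Defs

/-!
# (A0) for helper71's S3782 (helper69): fibre count for `x ↦ x⁻¹ φ(x)`
-/

set_option autoImplicit false

namespace Cfsg.Agent.Helper69.Alp

open Cfsg.Agent.Helper71.Alp

theorem card_twisted_le {G : Type*} [Group G] [Finite G] (φ : MulAut G) (Y : Subgroup G) :
    Nat.card {x : G // x⁻¹ * φ x ∈ Y} ≤ Nat.card Y * Nat.card {g : G // φ g = g} := by
  classical
  haveI : Nonempty {x : G // x⁻¹ * φ x ∈ Y} := ⟨⟨1, by simp⟩⟩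
  obtain ⟨f, hf⟩ : ∃ f : {x : G // x⁻¹ * φ x ∈ Y} → Y, ∀ x, (f x : G) = x.1⁻¹ * φ x.1 :=
    ⟨fun x => ⟨x.1⁻¹ * φ x.1, x.2⟩, fun _ => rfl⟩
  have hbase : ∀ x, f (Function.invFun f (f x)) = f x := fun x => Function.invFun_eq ⟨x, rfl⟩
  have hfix : ∀ x : {x : G // x⁻¹ * φ x ∈ Y},
      φ (x.1 * (Function.invFun f (f x)).1⁻¹) = x.1 * (Function.invFun f (f x)).1⁻¹ := by
    intro x
    have h1 : (f (Function.invFun f (f x)) : G) = (f x : G) := congrArg Subtype.val (hbase x)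
    rw [hf, hf] at h1
    -- b⁻¹ φ b = x⁻¹ φ x
    have hb : φ (Function.invFun f (f x)).1 = (Function.invFun f (f x)).1 * (x.1⁻¹ * φ x.1) := by
      rw [← h1]; group
    rw [map_mul, map_inv, hb]
    group
  rw [← Nat.card_prod]
  refine Nat.card_le_card_of_injective
    (fun x => (f x, (⟨x.1 * (Function.invFun f (f x)).1⁻¹, hfix x⟩ : {g : G // φ g = g}))) ?_
  intro x x' hxx'
  have h1 : f x = f x' := congrArg Prod.fst hxx'
  have h2 : x.1 * (Function.invFun f (f x)).1⁻¹ = x'.1 * (Function.invFun f (f x')).1⁻¹ :=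
    congrArg Subtype.val (congrArg Prod.snd hxx')
  rw [h1] at h2
  exact Subtype.ext (mul_right_cancel h2)

end Cfsg.Agent.Helper69.Alp
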