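import Cfsg.Agent.Helper16.DT.Defs

/-!
# DT farm (helper16 #13881, target S4641), leaf (INc) `linearIndependent_of_resC` (helper69)

Route: a left inverse of the linear-combination map of the residue vectors gives dual vectors;
lifting them to `Rloc M` yields an `r × r` matrix over `Rloc M` whose residue is the identity, so its
determinant is nonzero; a relation among the `v i` gives a vector killed by that matrix.
-/

set_option autoImplicit false

namespace Cfsg.Agent.Helper69.DT

open Cfsg Cfsg.Agent.Helper16 Cfsg.Agent.Helper16.DT Polynomial Matrix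

universe u v w

section Res

variable {p : ℕ} [Fact p.Prime] {M : Ideal AlgInt} [M.IsMaximal] {G : Type u} [Group G]

/-- (INc) vectors with local integer coordinates whose residues are linearly independent are
linearly independent. -/
theorem linearIndependent_of_resC {X : Type*} [Fintype X] {r : ℕ} (v : Fin r → X → ℂ)
    (hv : ∀ i x, MemLocalRing M (v i x))
    (h : LinearIndependent (AlgInt ⧸ M) (fun i : Fin r => fun x : X => resC M (v i x))) :
    LinearIndependent ℂ v := by
  classical
  -- notation
  set w : Fin r → X → AlgInt ⧸ M := fun i x => resC M (v i x) with hw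
  let v' : Fin r → X → Rloc M := fun i x => ⟨v i x, hv i x⟩
  have hv' : ∀ i x, res M (v' i x) = w i x := fun i x => rfl
  -- a left inverse of the linear combination map
  let T : (Fin r → AlgInt ⧸ M) →ₗ[AlgInt ⧸ M] (X → AlgInt ⧸ M) :=
    Fintype.linearCombination (AlgInt ⧸ M) w
  have hT : LinearMap.ker T = ⊥ := by
    rw [LinearMap.ker_eq_bot']
    intro c hc
    rw [Fintype.linearCombination_apply] at hc
    funext i
    exact (Fintype.linearIndependent_iff.mp h) c hc i
  obtain ⟨S, hS⟩ := LinearMap.exists_leftInverse_of_injective T hT
  have hSw : ∀ i, S (w i) = Pi.single i 1 := by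
    intro i
    have h1 : T (Pi.single i 1) = w i := by
      rw [Fintype.linearCombination_apply_single, one_smul]
    rw [← h1]
    exact LinearMap.congr_fun hS (Pi.single i 1)
  -- dual vectors and lifts
  let a : Fin r → X → AlgInt ⧸ M := fun j x => S (fun y => if x = y then 1 else 0) j
  have ha : ∀ (u : X → AlgInt ⧸ M) (j : Fin r), S u j = ∑ x, u x * a j x := by
    intro u j
    have := congrFun (LinearMap.pi_apply_eq_sum_univ S u) j
    rw [this, Finset.sum_apply]
    rfl
  choose a' ha' using fun (j : Fin r) (x : X) => res_surjective (M := M) (a j x)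
  -- the matrix
  let B' : Matrix (Fin r) (Fin r) (Rloc M) := fun i j => ∑ x, v' i x * a' j x
  have hB'res : (res M).mapMatrix B' = 1 := by
    ext i j
    rw [RingHom.mapMatrix_apply, Matrix.map_apply]
    show res M (∑ x, v' i x * a' j x) = _
    rw [map_sum]
    simp only [map_mul, hv', ha']
    rw [← ha (w i) j, hSw i, Matrix.one_apply, Pi.single_apply]
    simp only [eq_comm]
  have hdet' : B'.det ≠ 0 := by
    intro h0
    have := RingHom.map_det (res M) B'
    rw [hB'res, Matrix.det_one, h0, map_zero] at this
    exact zero_ne_one this
  let B : Matrix (Fin r) (Fin r) ℂ := (Rloc M).subtype.mapMatrix B'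
  have hdet : B.det ≠ 0 := by
    have := RingHom.map_det (Rloc M).subtype B'
    rw [← this]
    intro h0
    apply hdet'
    exact Subtype.ext h0
  -- conclude
  rw [Fintype.linearIndependent_iff]
  intro c hc i
  have hvec : Matrix.vecMul c B = 0 := by
    funext j
    rw [Matrix.vecMul, dotProduct]
    show ∑ i, c i * (((∑ x, v' i x * a' j x : Rloc M)) : ℂ) = 0
    have hx : ∀ x, ∑ i, c i * v i x = 0 := by
      intro x
      have := congrFun hc x
      simpa [Finset.sum_apply, Pi.smul_apply, smul_eq_mul] using this
    calc ∑ i, c i * (((∑ x, v' i x * a' j x : Rloc M)) : ℂ)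
        = ∑ i, c i * ∑ x, v i x * ((a' j x : Rloc M) : ℂ) := by
          apply Finset.sum_congr rfl
          intro i _
          congr 1
          push_cast
          rfl
      _ = ∑ x, ((a' j x : Rloc M) : ℂ) * ∑ i, c i * v i x := by
          simp only [Finset.mul_sum]
          rw [Finset.sum_comm]
          apply Finset.sum_congr rfl
          intro x _
          apply Finset.sum_congr rfl
          intro i _
          ring
      _ = 0 := by simp [hx]
  exact congrFun (Matrix.eq_zero_of_vecMul_eq_zero hdet hvec) i

end Res

end Cfsg.Agent.Helper69.DT
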