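import Mathlib
import Cfsg.Agent.Helper13.MonoA

/-!
# Piece (MONO) of helper13's plan for S5634 (board posts #6100/#6219)

A monomial matrix of the form `A * diagonal t * A⁻¹` with `t = 1` off a set `S`, `2 |S| < n`, has a
column equal to the corresponding column of `1`.
-/

set_option autoImplicit false

namespace Cfsg.Agent.Helper69.MonoFixed

open Matrix Cfsg.Agent.Helper13.Mono Module

variable {ι : Type*} [Fintype ι] [DecidableEq ι] {F : Type*} [Field F]

/-- a vector with `v (σ j) = c j * v j` vanishing at all `j` with `r j (σ j)` is zero, if there is no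
`j` with `σ j = j`, `c j = 1`. -/
theorem fix_zero_of (σ : Equiv.Perm ι) (c : ι → F) (hc : ∀ j, c j ≠ 0)
    (hG : ∀ j, σ j = j → c j ≠ 1) (r : ι → ι → Prop) (hwf : WellFounded r)
    (htri : ∀ a b, r a b ∨ a = b ∨ r b a) (v : ι → F) (hv : ∀ j, v (σ j) = c j * v j)
    (h0 : ∀ j, r j (σ j) → v j = 0) : ∀ j, v j = 0 := by
  intro j
  refine hwf.induction (C := fun j => v j = 0) j ?_
  intro j ih
  rcases htri j (σ j) with h | h | h
  · exact h0 j h
  · have h1 := hv j
    rw [← h] at h1
    have h2 : (c j - 1) * v j = 0 := by rw [sub_mul, one_mul, ← h1, sub_self]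
    rcases mul_eq_zero.1 h2 with h3 | h3
    · exact absurd (sub_eq_zero.1 h3) (hG j h.symm)
    · exact h3
  · have h1 := hv j
    rw [ih (σ j) h] at h1
    rcases mul_eq_zero.1 h1.symm with h3 | h3
    · exact absurd h3 (hc j)
    · exact h3

theorem finrank_le_card_of_restrict_inj (K : Submodule F (ι → F)) (T : Finset ι)
    (h : ∀ v ∈ K, (∀ j ∈ T, v j = 0) → v = 0) : finrank F K ≤ T.card := by
  have hinj : Function.Injective
      ((LinearMap.funLeft F F (Subtype.val : T → ι)).comp K.subtype) := by
    rw [← LinearMap.ker_eq_bot, LinearMap.ker_eq_bot']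
    intro v hv
    apply Subtype.ext
    apply h v v.2
    intro j hj
    have := congrFun hv ⟨j, hj⟩
    simpa [LinearMap.funLeft_apply] using this
  have := LinearMap.finrank_le_finrank_of_injective hinj
  rwa [Module.finrank_fintype_fun_eq_card, Fintype.card_coe] at this

theorem card_le_finrank_ker_add (B : Matrix ι ι F) (S : Finset ι) :
    Fintype.card ι ≤ finrank F (LinearMap.ker
      ((LinearMap.funLeft F F (Subtype.val : S → ι)).comp (Matrix.toLin' B))) + S.card := by
  have h1 := LinearMap.finrank_range_add_finrank_ker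
    ((LinearMap.funLeft F F (Subtype.val : S → ι)).comp (Matrix.toLin' B))
  rw [Module.finrank_fintype_fun_eq_card] at h1
  have h2 : finrank F (LinearMap.range
      ((LinearMap.funLeft F F (Subtype.val : S → ι)).comp (Matrix.toLin' B))) ≤ S.card := by
    have := Submodule.finrank_le (LinearMap.range
      ((LinearMap.funLeft F F (Subtype.val : S → ι)).comp (Matrix.toLin' B)))
    rwa [Module.finrank_fintype_fun_eq_card, Fintype.card_coe] at this
  omega

theorem mono_fixed (S : Finset ι) (A B : Matrix ι ι F) (hAB : A * B = 1) (hBA : B * A = 1)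
    (t : ι → F) (ht0 : ∀ i, t i ≠ 0) (ht : ∀ i, i ∉ S → t i = 1)
    (hy : IsMonoMat (A * diagonal t * B)) (hS : 2 * S.card < Fintype.card ι) :
    ∃ j, ∀ i, (A * diagonal t * B) i j = (1 : Matrix ι ι F) i j := by
  classical
  obtain ⟨y, hyd⟩ : ∃ y : Matrix ι ι F, y = A * diagonal t * B := ⟨_, rfl⟩
  rw [← hyd] at hy ⊢
  obtain ⟨σ, hσ⟩ := hy
  by_contra hcon
  push Not at hcon
  -- a left inverse of `y`
  have hinv : (A * diagonal (fun i => (t i)⁻¹) * B) * y = 1 := by
    rw [hyd]
    calc (A * diagonal (fun i => (t i)⁻¹) * B) * (A * diagonal t * B)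
        = A * diagonal (fun i => (t i)⁻¹) * (B * A) * diagonal t * B := by
          simp only [Matrix.mul_assoc]
      _ = A * (diagonal (fun i => (t i)⁻¹) * diagonal t) * B := by
          rw [hBA]; simp only [Matrix.mul_one, Matrix.mul_assoc]
      _ = 1 := by
          rw [Matrix.diagonal_mul_diagonal]
          have : (fun i => (t i)⁻¹ * t i) = fun _ => (1 : F) :=
            funext (fun i => inv_mul_cancel₀ (ht0 i))
          rw [this, Matrix.diagonal_one, Matrix.mul_one, hAB]
  have hcol : ∀ i j, i ≠ σ j → y i j = 0 := fun i j h => by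
    by_contra h'
    exact h (hσ i j h')
  have hc : ∀ j, y (σ j) j ≠ 0 := by
    intro j h0
    have hz : ∀ i, y i j = 0 := fun i => by
      by_cases h : i = σ j
      · rw [h]; exact h0
      · exact hcol i j h
    have := congrFun (congrFun hinv j) j
    rw [Matrix.mul_apply, Matrix.one_apply_eq,
      Finset.sum_eq_zero (fun k _ => by rw [hz k, mul_zero])] at this
    exact zero_ne_one this
  have hG : ∀ j, σ j = j → y (σ j) j ≠ 1 := by
    intro j hj h1
    obtain ⟨i, hi⟩ := hcon j
    apply hi
    by_cases h : i = j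
    · rw [h, Matrix.one_apply_eq]
      rw [hj] at h1
      exact h1
    · rw [Matrix.one_apply_ne h]
      exact hcol i j (by rw [hj]; exact h)
  -- the fixed space of `y`
  obtain ⟨K, hKd⟩ : ∃ K : Submodule F (ι → F), K = LinearMap.ker (Matrix.toLin' (y - 1)) :=
    ⟨_, rfl⟩
  have hK : ∀ v, v ∈ K ↔ y *ᵥ v = v := by
    intro v
    rw [hKd, LinearMap.mem_ker, Matrix.toLin'_apply, Matrix.sub_mulVec, Matrix.one_mulVec,
      sub_eq_zero]
  have hF2 : ∀ v ∈ K, ∀ j, v (σ j) = y (σ j) j * v j := by
    intro v hv j
    have h1 := congrFun ((hK v).1 hv) (σ j)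
    rw [← h1]
    change ∑ k, y (σ j) k * v k = _
    apply Finset.sum_eq_single j
    · intro k _ hk
      rw [hcol (σ j) k (fun h => hk (σ.injective h).symm), zero_mul]
    · intro h
      exact absurd (Finset.mem_univ j) h
  have htri : ∀ a b : ι, Fintype.equivFin ι a < Fintype.equivFin ι b ∨ a = b ∨
      Fintype.equivFin ι b < Fintype.equivFin ι a := by
    intro a b
    rcases lt_trichotomy (Fintype.equivFin ι a) (Fintype.equivFin ι b) with h | h | h
    · exact Or.inl h
    · exact Or.inr (Or.inl ((Fintype.equivFin ι).injective h))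
    · exact Or.inr (Or.inr h)
  have b1 : finrank F K ≤ (Finset.univ.filter
      (fun j => Fintype.equivFin ι j < Fintype.equivFin ι (σ j))).card := by
    apply finrank_le_card_of_restrict_inj
    intro v hv h0
    funext j
    exact fix_zero_of σ (fun j => y (σ j) j) hc hG
      (fun a b => Fintype.equivFin ι a < Fintype.equivFin ι b)
      (InvImage.wf (Fintype.equivFin ι) wellFounded_lt) htri v (hF2 v hv)
      (fun j hj => h0 j (by simp [hj])) j
  have b2 : finrank F K ≤ (Finset.univ.filter
      (fun j => Fintype.equivFin ι (σ j) < Fintype.equivFin ι j)).card := by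
    apply finrank_le_card_of_restrict_inj
    intro v hv h0
    funext j
    exact fix_zero_of σ (fun j => y (σ j) j) hc hG
      (fun a b => Fintype.equivFin ι b < Fintype.equivFin ι a)
      (InvImage.wf (Fintype.equivFin ι) wellFounded_gt)
      (fun a b => by
        rcases htri a b with h | h | h
        · exact Or.inr (Or.inr h)
        · exact Or.inr (Or.inl h)
        · exact Or.inl h) v (hF2 v hv)
      (fun j hj => h0 j (by simp [hj])) j
  have b3 : Fintype.card ι ≤ finrank F K + S.card := by
    have h1 := card_le_finrank_ker_add B S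
    have h2 : LinearMap.ker ((LinearMap.funLeft F F (Subtype.val : S → ι)).comp
        (Matrix.toLin' B)) ≤ K := by
      intro v hv
      rw [LinearMap.mem_ker] at hv
      have hv' : ∀ i ∈ S, (B *ᵥ v) i = 0 := by
        intro i hi
        have := congrFun hv ⟨i, hi⟩
        simpa [LinearMap.funLeft_apply] using this
      rw [hK, hyd, ← Matrix.mulVec_mulVec, ← Matrix.mulVec_mulVec]
      have hD : diagonal t *ᵥ (B *ᵥ v) = B *ᵥ v := by
        funext i
        rw [Matrix.mulVec_diagonal]
        by_cases hi : i ∈ S
        · rw [hv' i hi, mul_zero]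
        · rw [ht i hi, one_mul]
      rw [hD, Matrix.mulVec_mulVec, hAB, Matrix.one_mulVec]
    have h3 := Submodule.finrank_mono h2
    omega
  have b4 : (Finset.univ.filter
      (fun j => Fintype.equivFin ι j < Fintype.equivFin ι (σ j))).card + (Finset.univ.filter
      (fun j => Fintype.equivFin ι (σ j) < Fintype.equivFin ι j)).card ≤ Fintype.card ι := by
    have hdisj : Disjoint (Finset.univ.filter
      (fun j => Fintype.equivFin ι j < Fintype.equivFin ι (σ j))) (Finset.univ.filter
      (fun j => Fintype.equivFin ι (σ j) < Fintype.equivFin ι j)) :=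
      Finset.disjoint_filter.2 (fun j _ h1 h2 => lt_asymm h1 h2)
    rw [← Finset.card_union_of_disjoint hdisj]
    exact Finset.card_le_univ _
  omega

end Cfsg.Agent.Helper69.MonoFixed
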