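import Mathlib
import Cfsg.Prelude.Def_GeometricClasses
import Cfsg.Agent.Helper13.MonoA

/-!
# Piece (R) of helper13's plan for S5634 (board post #6101): coordinates adapted to an `m`-decomposition

For an `m`-decomposition `D_1 ⊕ ... ⊕ D_t` of `F^n` we choose a basis adapted to it, indexed by
`Fin t × Fin m`; base change is an isomorphism `GL_n(F) ≃* GL_{t × m}(F)` preserving determinants and
carrying the stabiliser of the decomposition onto the block-monomial matrices.
-/

set_option autoImplicit false

namespace Cfsg.Agent.Helper69.GeoR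

open Matrix Cfsg.Agent.Helper13.Mono Module

variable {F : Type*} [Field F] {n t m : ℕ}

/-- base change along a basis `B` of `F^n` indexed by `κ`, as an algebra isomorphism of matrix
algebras. -/
noncomputable def coordAlgEquiv {κ : Type*} [Fintype κ] [DecidableEq κ]
    (B : Basis κ F (Fin n → F)) : Matrix (Fin n) (Fin n) F ≃ₐ[F] Matrix κ κ F :=
  Matrix.toLinAlgEquiv'.trans (LinearMap.toMatrixAlgEquiv B)

theorem coordAlgEquiv_apply {κ : Type*} [Fintype κ] [DecidableEq κ]
    (B : Basis κ F (Fin n → F)) (A : Matrix (Fin n) (Fin n) F) (p q : κ) :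
    coordAlgEquiv B A p q = B.repr (A *ᵥ B q) p := by
  simp [coordAlgEquiv, LinearMap.toMatrixAlgEquiv_apply]

theorem det_coordAlgEquiv {κ : Type*} [Fintype κ] [DecidableEq κ]
    (B : Basis κ F (Fin n → F)) (A : Matrix (Fin n) (Fin n) F) :
    (coordAlgEquiv B A).det = A.det := by
  have h : coordAlgEquiv B A = LinearMap.toMatrix B B (Matrix.toLin' A) := by
    ext p q
    rw [coordAlgEquiv_apply, LinearMap.toMatrix_apply, Matrix.toLin'_apply]
  rw [h, LinearMap.det_toMatrix, LinearMap.det_toLin']

/-- the induced isomorphism of general linear groups. -/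
noncomputable def coordGL {κ : Type*} [Fintype κ] [DecidableEq κ]
    (B : Basis κ F (Fin n → F)) : GL (Fin n) F ≃* GL κ F :=
  Units.mapEquiv (coordAlgEquiv B).toRingEquiv.toMulEquiv

theorem coordGL_val {κ : Type*} [Fintype κ] [DecidableEq κ]
    (B : Basis κ F (Fin n → F)) (g : GL (Fin n) F) :
    ((coordGL B g : GL κ F) : Matrix κ κ F) = coordAlgEquiv B (g : Matrix (Fin n) (Fin n) F) :=
  rfl

/-- the linear automorphism of `F^n` given by an invertible matrix. -/
noncomputable def glEquiv (g : GL (Fin n) F) : (Fin n → F) ≃ₗ[F] (Fin n → F) :=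
  LinearEquiv.ofLinear (Matrix.toLin' (g : Matrix (Fin n) (Fin n) F))
    (Matrix.toLin' ((g⁻¹ : GL (Fin n) F) : Matrix (Fin n) (Fin n) F))
    (by rw [← Matrix.toLin'_mul, ← Units.val_mul, mul_inv_cancel, Units.val_one, Matrix.toLin'_one])
    (by rw [← Matrix.toLin'_mul, ← Units.val_mul, inv_mul_cancel, Units.val_one, Matrix.toLin'_one])

theorem finrank_map_toLin' (g : GL (Fin n) F) (W : Submodule F (Fin n → F)) :
    finrank F (W.map (Matrix.toLin' (g : Matrix (Fin n) (Fin n) F))) = finrank F W :=
  LinearEquiv.finrank_map_eq (glEquiv g) W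

theorem exists_coord_equiv (m : ℕ) (D : Fin t → Submodule F (Fin n → F))
    (hD : Cfsg.Geo.IsMDecomposition m D) :
    t * m = n ∧ ∃ Φ : GL (Fin n) F ≃* GL (Fin t × Fin m) F,
      (∀ g, ((Φ g : GL (Fin t × Fin m) F) : Matrix (Fin t × Fin m) (Fin t × Fin m) F).det
          = (g : Matrix (Fin n) (Fin n) F).det) ∧
      ∀ g, g ∈ Cfsg.Geo.decompositionStabilizer D ↔
        IsBlockMono (Prod.fst : Fin t × Fin m → Fin t)
          ((Φ g : GL (Fin t × Fin m) F) : Matrix (Fin t × Fin m) (Fin t × Fin m) F) := by
  classical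
  -- the adapted basis
  have hint : DirectSum.IsInternal D :=
    DirectSum.isInternal_submodule_of_iSupIndep_of_iSup_eq_top hD.indep hD.iSup_eq_top
  obtain ⟨b, -⟩ : ∃ b : ∀ i, Basis (Fin m) F (D i), True :=
    ⟨fun i => Module.finBasisOfFinrankEq F (D i) (hD.finrank_eq i), trivial⟩
  obtain ⟨B, hBdef⟩ : ∃ B : Basis (Fin t × Fin m) F (Fin n → F),
      B = (hint.collectedBasis b).reindex (Equiv.sigmaEquivProd (Fin t) (Fin m)) := ⟨_, rfl⟩
  have hBmem : ∀ q : Fin t × Fin m, B q ∈ D q.1 := by
    intro q
    rw [hBdef, Basis.reindex_apply]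
    exact hint.collectedBasis_mem b ((Equiv.sigmaEquivProd (Fin t) (Fin m)).symm q)
  -- coordinates of a vector of `D c` vanish off block `c`
  have C1 : ∀ (c : Fin t) (v : Fin n → F), v ∈ D c → ∀ p : Fin t × Fin m, p.1 ≠ c →
      B.repr v p = 0 := by
    intro c v hv p hp
    rw [hBdef, Basis.repr_reindex_apply]
    exact hint.collectedBasis_repr_of_mem_ne b (Ne.symm hp) hv
  -- conversely
  have C2 : ∀ (c : Fin t) (v : Fin n → F), (∀ p : Fin t × Fin m, p.1 ≠ c → B.repr v p = 0) →
      v ∈ D c := by
    intro c v hv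
    rw [← B.sum_repr v]
    apply Submodule.sum_mem
    intro p _
    by_cases hp : p.1 = c
    · exact Submodule.smul_mem _ _ (hp ▸ hBmem p)
    · rw [hv p hp, zero_smul]
      exact Submodule.zero_mem _
  refine ⟨?_, coordGL B, fun g => ?_, fun g => ?_⟩
  · have h1 := Module.finrank_eq_card_basis B
    rw [Module.finrank_fin_fun, Fintype.card_prod, Fintype.card_fin, Fintype.card_fin] at h1
    exact h1.symm
  · rw [coordGL_val, det_coordAlgEquiv]
  · rw [coordGL_val]
    constructor
    · rintro ⟨σ, hσ⟩
      refine ⟨σ, fun p q hpq => ?_⟩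
      rw [coordAlgEquiv_apply] at hpq
      by_contra hne
      apply hpq
      apply C1 (σ q.1) _ _ p hne
      rw [← hσ q.1]
      exact ⟨B q, hBmem q, by rw [Matrix.toLin'_apply]⟩
    · rintro ⟨σ, hσ⟩
      refine ⟨σ, fun j => ?_⟩
      have hle : (D j).map (Matrix.toLin' (g : Matrix (Fin n) (Fin n) F)) ≤ D (σ j) := by
        -- images of the basis vectors of block `j`
        have hbas : ∀ q : Fin t × Fin m, q.1 = j →
            (g : Matrix (Fin n) (Fin n) F) *ᵥ B q ∈ D (σ j) := by
          intro q hq
          apply C2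
          intro p hp
          by_contra hne
          have := hσ p q (by rw [coordAlgEquiv_apply]; exact hne)
          rw [hq] at this
          exact hp this
        rintro _ ⟨v, hv, rfl⟩
        rw [← B.sum_repr v, map_sum]
        apply Submodule.sum_mem
        intro q _
        rw [map_smul]
        by_cases hq : q.1 = j
        · apply Submodule.smul_mem
          rw [Matrix.toLin'_apply]
          exact hbas q hq
        · rw [C1 j v hv q hq, zero_smul]
          exact Submodule.zero_mem _
      apply Submodule.eq_of_le_of_finrank_eq hle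
      rw [finrank_map_toLin', hD.finrank_eq, hD.finrank_eq]

end Cfsg.Agent.Helper69.GeoR
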