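import Mathlib
import Cfsg.Agent.Helper5.OmBN.Defs

/-!
# (OMI) for helper5's S2549 farm (#11880): the root elements of kind I are commutators
(helper69)
-/

set_option autoImplicit false

namespace Cfsg.Agent.Helper69.OmBN

open Matrix Cfsg Cfsg.Agent.Helper5.OmBN

variable {F : Type*} [Field F] {m : ℕ} {α β : F}

/-- the inverse of a Siegel element of the group -/
theorem omi_mat_inv (hSM : ∀ (e : Fin (2 * m + 2)), e ≠ c1 → e ≠ c2 → ∀ (w1 w2 v1 v2 : F),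
      sgMat α β e w1 w2 * sgMat α β e v1 v2 = sgMat α β e (w1 + v1) (w2 + v2))
    (hS0 : ∀ (e : Fin (2 * m + 2)), sgMat α β e 0 0 = 1)
    (e : Fin (2 * m + 2)) (he1 : e ≠ c1) (he2 : e ≠ c2) (w1 w2 : F) (g : OG m α β)
    (hg : mat g = sgMat α β e w1 w2) : mat g⁻¹ = sgMat α β e (-w1) (-w2) := by
  rw [mat_inv_eq, hg]
  apply Matrix.inv_eq_left_inv
  rw [hSM e he1 he2, neg_add_cancel, neg_add_cancel, hS0]

/-- solving `-(2 v₁ + α v₂) = t` -/
theorem omi_solve (hdisc : 4 * β - α ^ 2 ≠ 0) (t : F) :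
    ∃ v1 v2 : F, -(Nb α β 1 0 v1 v2) = t := by
  by_cases h2 : (2 : F) = 0
  · have hα : α ≠ 0 := by
      intro hα
      apply hdisc
      have h4 : (4 : F) = 2 * 2 := by norm_num
      rw [hα, h4, h2]
      ring
    refine ⟨0, -t / α, ?_⟩
    unfold Nb
    field_simp
    ring
  · refine ⟨-t / 2, 0, ?_⟩
    unfold Nb
    field_simp
    ring

/-- (OMI) the root elements of kind I are commutators -/
theorem XsetI_subset_commutator (hSG : HasSG m α β)
    (hCS : ∀ (e f : Fin (2 * m + 2)), e ≠ c1 → e ≠ c2 → f ≠ c1 → f ≠ c2 → e ≠ f → e ≠ Fin.rev f →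
      ∀ (z1 z2 v1 v2 : F),
      sgMat α β e z1 z2 * sgMat α β f v1 v2 * sgMat α β e (-z1) (-z2) * sgMat α β f (-v1) (-v2) =
        xMat e (Fin.rev f) (-(Nb α β z1 z2 v1 v2)))
    (hSM : ∀ (e : Fin (2 * m + 2)), e ≠ c1 → e ≠ c2 → ∀ (w1 w2 v1 v2 : F),
      sgMat α β e w1 w2 * sgMat α β e v1 v2 = sgMat α β e (w1 + v1) (w2 + v2))
    (hS0 : ∀ (e : Fin (2 * m + 2)), sgMat α β e 0 0 = 1)
    (hdisc : 4 * β - α ^ 2 ≠ 0) (k : Fin m) (hk : k.val + 1 < m) :
    Xset α β k ⊆ ((commutator (OG m α β) : Subgroup (OG m α β)) : Set (OG m α β)) := by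
  intro x hx
  rcases hx with ⟨-, t, ht⟩ | ⟨hk', -⟩
  swap
  · omega
  obtain ⟨v1, v2, hv⟩ := omi_solve (α := α) (β := β) hdisc t
  have hkm := k.2
  -- the positions
  have hf_val : (Fin.rev (ib k) : Fin (2 * m + 2)).val = 2 * m + 1 - (k.val + 1) := by
    rw [val_rev, val_ib]
  have he1 : lo k ≠ c1 := lo_ne_c1 k
  have he2 : lo k ≠ c2 := lo_ne_c2 k
  have hf1 : Fin.rev (ib k) ≠ (c1 : Fin (2 * m + 2)) := by
    intro h
    have h1 := congrArg Fin.val h
    rw [hf_val, val_c1] at h1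
    omega
  have hf2 : Fin.rev (ib k) ≠ (c2 : Fin (2 * m + 2)) := by
    intro h
    have h1 := congrArg Fin.val h
    rw [hf_val, val_c2] at h1
    omega
  have hef : lo k ≠ Fin.rev (ib k) := by
    intro h
    have h1 := congrArg Fin.val h
    rw [hf_val, val_lo] at h1
    omega
  have hef' : lo k ≠ Fin.rev (Fin.rev (ib k)) := by
    rw [Fin.rev_rev]
    intro h
    have h1 := congrArg Fin.val h
    rw [val_ib, val_lo] at h1
    omega
  obtain ⟨gz, hgz⟩ := hSG (lo k) he1 he2 1 0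
  obtain ⟨gv, hgv⟩ := hSG (Fin.rev (ib k)) hf1 hf2 v1 v2
  have hx : x = gz * gv * gz⁻¹ * gv⁻¹ := by
    apply mat_injective
    rw [mat_mul, mat_mul, mat_mul, hgz, hgv,
      omi_mat_inv hSM hS0 _ he1 he2 1 0 gz hgz, omi_mat_inv hSM hS0 _ hf1 hf2 v1 v2 gv hgv,
      hCS _ _ he1 he2 hf1 hf2 hef hef', Fin.rev_rev, hv, ht]
  rw [hx, ← commutatorElement_def]
  exact Subgroup.commutator_mem_commutator (Subgroup.mem_top _) (Subgroup.mem_top _)

end Cfsg.Agent.Helper69.OmBN
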