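import Mathlib
import Cfsg.Agent.Helper5.OmBN.Defs

/-!
# (ROTSG) for helper5's S2549 farm (#11880): a rotation of norm one conjugates a Siegel element
(helper69)
-/

set_option autoImplicit false

namespace Cfsg.Agent.Helper69.OmBN

open Matrix Cfsg.Agent.Helper5.OmBN

variable {F : Type*} [Field F] {m : ℕ} {α β : F}

theorem rs_rev_ne_c1 (e : Fin (2 * m + 2)) (he2 : e ≠ c2) : Fin.rev e ≠ c1 := by
  intro h
  apply he2
  rw [← Fin.rev_rev e, h, rev_c1]

theorem rs_rev_ne_c2 (e : Fin (2 * m + 2)) (he1 : e ≠ c1) : Fin.rev e ≠ c2 := by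
  intro h
  apply he1
  rw [← Fin.rev_rev e, h, rev_c2]

theorem rs_rotMat_eq (x y : F) :
    (rotMat α β x y : Matrix (Fin (2 * m + 2)) (Fin (2 * m + 2)) F) =
      1 + (x - 1) • Matrix.single c1 c1 (1 : F) + (-β * y) • Matrix.single c1 c2 (1 : F)
        + y • Matrix.single c2 c1 (1 : F) + (x + α * y - 1) • Matrix.single c2 c2 (1 : F) := by
  ext i j
  rw [rotMat_apply]
  simp only [Matrix.add_apply, Matrix.smul_apply, Matrix.single_apply, Matrix.one_apply,
    smul_eq_mul, mul_ite, mul_one, mul_zero]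
  have h12 : (c1 : Fin (2 * m + 2)) ≠ c2 := c1_ne_c2
  by_cases hi1 : i = c1
  · subst hi1
    by_cases hj1 : j = c1
    · subst hj1
      simp [h12.symm]
    · by_cases hj2 : j = c2
      · subst hj2
        simp [h12, h12.symm]
      · simp [h12, h12.symm, hj1, hj2, Ne.symm hj1, Ne.symm hj2]
  · by_cases hi2 : i = c2
    · subst hi2
      by_cases hj1 : j = c1
      · subst hj1
        simp [h12, h12.symm]
      · by_cases hj2 : j = c2
        · subst hj2
          simp [h12, h12.symm]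
        · simp [h12, h12.symm, hj1, hj2, Ne.symm hj1, Ne.symm hj2]
    · simp [hi1, hi2, Ne.symm hi1, Ne.symm hi2]

/-- (ROTSG) a rotation of norm one conjugates `E_{e,w}` to `E_{e,Rw}` -/
theorem rotMat_mul_sgMat (x y : F) (h : Nf α β x y = 1) (e : Fin (2 * m + 2)) (he1 : e ≠ c1)
    (he2 : e ≠ c2) (w1 w2 : F) :
    rotMat α β x y * sgMat α β e w1 w2 =
      sgMat α β e (x * w1 - β * y * w2) (y * w1 + (x + α * y) * w2) * rotMat α β x y := by
  have hf1 := rs_rev_ne_c1 e he2
  have hf2 := rs_rev_ne_c2 e he1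
  have h12 : (c1 : Fin (2 * m + 2)) ≠ c2 := c1_ne_c2
  rw [rs_rotMat_eq]
  unfold sgMat
  simp only [mul_add, add_mul, mul_sub, sub_mul, mul_one, one_mul, Matrix.smul_mul,
    Matrix.mul_smul, Matrix.single_mul_single_same, Matrix.single_mul_single_of_ne, ne_eq,
    he1.symm, he2.symm, hf1, hf2, h12, h12.symm, not_false_eq_true,
    smul_zero, sub_zero, add_zero]
  unfold Nf at h ⊢
  match_scalars
  all_goals first
    | ring1
    | linear_combination (-(2 * w1 + α * w2)) * h
    | linear_combination (-(α * w1 + 2 * β * w2)) * h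
    | linear_combination (w1 ^ 2 + α * w1 * w2 + β * w2 ^ 2) * h

end Cfsg.Agent.Helper69.OmBN
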