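import Mathlib
import Cfsg.Agent.Helper15.CSGDefs
import Cfsg.Agent.S4160

/-!
# (D1) for helper15's S4257: Ito's count (helper69)

If no class size of the finite group `G` is divisible by `p * q` (`p ≠ q` primes), then the Sylow
`p`-subgroups or the Sylow `q`-subgroups of `G` are central in their normalizers.
-/

set_option autoImplicit false

namespace Cfsg.Agent.Helper69.CSGD1

open Subgroup Cfsg.Agent.Helper15.CSG

variable {G : Type*} [Group G] [Finite G]

/-- (D1) Ito's count. -/
theorem good_or_good {p q : ℕ} (hp : p.Prime) (hq : q.Prime) (hpq : p ≠ q)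
    (h : ∀ x : G, ¬ p * q ∣ cs x) : Good G p ∨ Good G q := by
  classical
  haveI : Fact p.Prime := ⟨hp⟩
  haveI : Fact q.Prime := ⟨hq⟩
  by_contra hcon
  push Not at hcon
  obtain ⟨hgp, hgq⟩ := hcon
  unfold Good at hgp hgq
  push Not at hgp hgq
  obtain ⟨P, hP⟩ := hgp
  obtain ⟨Q, hQ⟩ := hgq
  set NP := Subgroup.normalizer ((P : Subgroup G) : Set G) with hNP
  set CP := Subgroup.centralizer ((P : Subgroup G) : Set G) with hCP
  set NQ := Subgroup.normalizer ((Q : Subgroup G) : Set G) with hNQ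
  set CQ := Subgroup.centralizer ((Q : Subgroup G) : Set G) with hCQ
  have ha : CP.relIndex NP ≠ 1 := fun h1 => hP (Subgroup.relIndex_eq_one.mp h1)
  have hb : CQ.relIndex NQ ≠ 1 := fun h1 => hQ (Subgroup.relIndex_eq_one.mp h1)
  have ha0 : CP.relIndex NP ≠ 0 :=
    show (CP.subgroupOf NP).index ≠ 0 from Subgroup.index_ne_zero_of_finite
  have hb0 : CQ.relIndex NQ ≠ 0 :=
    show (CQ.subgroupOf NQ).index ≠ 0 from Subgroup.index_ne_zero_of_finite
  -- the covering map
  let F : (G ⧸ NP) × CP ⊕ (G ⧸ NQ) × CQ → G := fun d =>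
    match d with
    | Sum.inl tc => tc.1.out * (tc.2 : G) * tc.1.out⁻¹
    | Sum.inr tc => tc.1.out * (tc.2 : G) * tc.1.out⁻¹
  have hsurj : Function.Surjective F := by
    intro x
    by_cases hxp : p ∣ (Subgroup.centralizer ({x} : Set G)).index
    · have hxq : ¬ q ∣ (Subgroup.centralizer ({x} : Set G)).index := by
        intro hxq
        exact h x (Nat.Coprime.mul_dvd_of_dvd_of_dvd ((Nat.coprime_primes hp hq).mpr hpq) hxp hxq)
      obtain ⟨t, c, htc⟩ := Cfsg.Agent.S4160.exists_rep Q x hxq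
      exact ⟨Sum.inr (t, c), htc⟩
    · obtain ⟨t, c, htc⟩ := Cfsg.Agent.S4160.exists_rep P x hxp
      exact ⟨Sum.inl (t, c), htc⟩
  have hninj : ¬ Function.Injective F := by
    intro hinj
    have h1 : F (Sum.inl (QuotientGroup.mk 1, 1)) = F (Sum.inr (QuotientGroup.mk 1, 1)) := by
      change (QuotientGroup.mk 1 : G ⧸ NP).out * ((1 : CP) : G) * (QuotientGroup.mk 1 : G ⧸ NP).out⁻¹ =
        (QuotientGroup.mk 1 : G ⧸ NQ).out * ((1 : CQ) : G) * (QuotientGroup.mk 1 : G ⧸ NQ).out⁻¹
      simp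
    exact Sum.inl_ne_inr (hinj h1)
  have hcard : Nat.card G < NP.index * Nat.card CP + NQ.index * Nat.card CQ := by
    by_contra hle
    push Not at hle
    apply hninj
    refine (hsurj.bijective_of_nat_card_le ?_).1
    rw [Nat.card_sum, Nat.card_prod, Nat.card_prod, ← Subgroup.index_eq_card,
      ← Subgroup.index_eq_card]
    exact hle
  have e1 : NP.index * (Nat.card CP * CP.relIndex NP) = Nat.card G := by
    rw [Cfsg.Agent.S4160.card_centralizer_mul_relIndex, mul_comm]
    exact Subgroup.card_mul_index NP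
  have e2 : NQ.index * (Nat.card CQ * CQ.relIndex NQ) = Nat.card G := by
    rw [Cfsg.Agent.S4160.card_centralizer_mul_relIndex, mul_comm]
    exact Subgroup.card_mul_index NQ
  have ha2 : 2 ≤ CP.relIndex NP := by omega
  have hb2 : 2 ≤ CQ.relIndex NQ := by omega
  have e3 : NP.index * Nat.card CP * 2 ≤ Nat.card G := by
    rw [← e1, mul_assoc]
    exact Nat.mul_le_mul_left _ (Nat.mul_le_mul_left _ ha2)
  have e4 : NQ.index * Nat.card CQ * 2 ≤ Nat.card G := by
    rw [← e2, mul_assoc]
    exact Nat.mul_le_mul_left _ (Nat.mul_le_mul_left _ hb2)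
  omega

end Cfsg.Agent.Helper69.CSGD1
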