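-- helper69: groups with two conjugacy class sizes (Ito), basic lemmas.
import Mathlib
import Cfsg.Agent.S4127
import Cfsg.Agent.Helper67.Conj

set_option autoImplicit false

namespace Cfsg.Agent.Helper69

open Subgroup

/-- All conjugacy classes have size `1` or `n`. -/
def TwoSizes (G : Type*) [Group G] (n : ℕ) : Prop :=
  ∀ x : G, (centralizer ({x} : Set G)).index = 1 ∨ (centralizer ({x} : Set G)).index = n

variable {G : Type*} [Group G]

theorem index_cent_eq_one_iff (y : G) :
    (centralizer ({y} : Set G)).index = 1 ↔ y ∈ center G := by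
  rw [Subgroup.index_eq_one, Subgroup.centralizer_eq_top_iff_subset, Set.singleton_subset_iff]
  rfl

theorem index_cent_of_not_mem {n : ℕ} (h : TwoSizes G n) {y : G} (hy : y ∉ center G) :
    (centralizer ({y} : Set G)).index = n := by
  rcases h y with h1 | h1
  · exact absurd ((index_cent_eq_one_iff y).mp h1) hy
  · exact h1

theorem card_cent_mul {n : ℕ} (h : TwoSizes G n) {y : G} (hy : y ∉ center G) :
    Nat.card (centralizer ({y} : Set G)) * n = Nat.card G := by
  rw [← index_cent_of_not_mem h hy]
  exact Subgroup.card_mul_index _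

theorem card_cent_eq [Finite G] {n : ℕ} (hn : 1 < n) (h : TwoSizes G n) {y y' : G}
    (hy : y ∉ center G) (hy' : y' ∉ center G) :
    Nat.card (centralizer ({y} : Set G)) = Nat.card (centralizer ({y'} : Set G)) := by
  have h1 := card_cent_mul h hy
  have h2 := card_cent_mul h hy'
  have hpos : 0 < n := by omega
  exact Nat.eq_of_mul_eq_mul_right hpos (h1.trans h2.symm)

/-- No proper inclusions between noncentral centralizers. -/
theorem cent_eq_of_le [Finite G] {n : ℕ} (hn : 1 < n) (h : TwoSizes G n) {g k : G}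
    (hg : g ∉ center G) (hk : k ∉ center G)
    (hle : centralizer ({g} : Set G) ≤ centralizer ({k} : Set G)) :
    centralizer ({g} : Set G) = centralizer ({k} : Set G) := by
  apply le_antisymm hle
  have h1 := Subgroup.relIndex_mul_index hle
  rw [index_cent_of_not_mem h hg, index_cent_of_not_mem h hk] at h1
  have h2 : (centralizer ({g} : Set G)).relIndex (centralizer ({k} : Set G)) = 1 :=
    Nat.eq_of_mul_eq_mul_right (by omega : 0 < n) (by simpa using h1)
  exact Subgroup.relIndex_eq_one.mp h2

theorem cent_le_of_mem_zpowers {g x : G} (hx : x ∈ zpowers g) :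
    centralizer ({g} : Set G) ≤ centralizer ({x} : Set G) := by
  intro c hc
  rw [Subgroup.mem_centralizer_singleton_iff] at hc ⊢
  obtain ⟨j, rfl⟩ := Subgroup.mem_zpowers_iff.mp hx
  exact ((show Commute c g from hc).zpow_right j).eq

/-- If `x` is noncentral and `y` commutes with `x` and has coprime order, then `y` is central in
the centralizer of `x`. -/
theorem cent_le_of_coprime [Finite G] {n : ℕ} (hn : 1 < n) (h : TwoSizes G n) {x y : G}
    (hx : x ∉ center G) (hyx : y * x = x * y) (hcop : (orderOf x).Coprime (orderOf y)) :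
    centralizer ({x} : Set G) ≤ centralizer ({y} : Set G) := by
  have hx' : x ∈ zpowers (x * y) := Cfsg.Agent.S4127.mem_zpowers_mul_of_coprime hyx.symm hcop
  have hy' : y ∈ zpowers (x * y) := by
    have := Cfsg.Agent.S4127.mem_zpowers_mul_of_coprime hyx hcop.symm
    rwa [hyx] at this
  have hxy : x * y ∉ center G := fun hc => hx ((Subgroup.zpowers_le.mpr hc) hx')
  have h1 := cent_eq_of_le hn h hxy hx (cent_le_of_mem_zpowers hx')
  rw [← h1]
  exact cent_le_of_mem_zpowers hy'

theorem coprime_orderOf_of_pow {p q : ℕ} [hp : Fact p.Prime] [hq : Fact q.Prime] (hpq : p ≠ q)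
    {x a : G} (hxp : ∃ k : ℕ, x ^ (p ^ k) = 1) (haq : ∃ k : ℕ, a ^ (q ^ k) = 1) :
    (orderOf x).Coprime (orderOf a) := by
  obtain ⟨k, hk⟩ := hxp
  obtain ⟨l, hl⟩ := haq
  have h1 : orderOf x ∣ p ^ k := orderOf_dvd_of_pow_eq_one hk
  have h2 : orderOf a ∣ q ^ l := orderOf_dvd_of_pow_eq_one hl
  have h3 : (p ^ k).Coprime (q ^ l) :=
    Nat.Coprime.pow k l ((Nat.coprime_primes hp.out hq.out).mpr hpq)
  exact Nat.Coprime.coprime_dvd_left h1 (Nat.Coprime.coprime_dvd_right h2 h3)

/-- A commuting pair of noncentral elements of coprime prime power orders has a common abelian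
centralizer. -/
theorem cent_abelian_of_pair [Finite G] {n : ℕ} (hn : 1 < n) (h : TwoSizes G n) {p q : ℕ}
    [hp : Fact p.Prime] [hq : Fact q.Prime] (hpq : p ≠ q) {x a : G}
    (hx : x ∉ center G) (ha : a ∉ center G) (hxp : ∃ k : ℕ, x ^ (p ^ k) = 1)
    (haq : ∃ k : ℕ, a ^ (q ^ k) = 1) (hax : a * x = x * a) :
    centralizer ({x} : Set G) = centralizer ({a} : Set G) ∧
      ∀ c ∈ centralizer ({x} : Set G), ∀ d ∈ centralizer ({x} : Set G), c * d = d * c := by
  have hcop := coprime_orderOf_of_pow hpq hxp haq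
  have heq : centralizer ({x} : Set G) = centralizer ({a} : Set G) :=
    cent_eq_of_le hn h hx ha (cent_le_of_coprime hn h hx hax hcop)
  refine ⟨heq, ?_⟩
  intro c hc d hd
  obtain ⟨y, z, hy, hz, hcyz, hyp, hzp⟩ :=
    Cfsg.Agent.Helper67.exists_pprime_ppart p (isOfFinOrder_of_finite c)
  have hyC : y ∈ centralizer ({x} : Set G) := (Subgroup.zpowers_le.mpr hc) hy
  have hzC : z ∈ centralizer ({x} : Set G) := (Subgroup.zpowers_le.mpr hc) hz
  -- `y` has order coprime to that of `x`
  have h1 : (orderOf x).Coprime (orderOf y) := by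
    obtain ⟨k, hk⟩ := hxp
    have h1 : orderOf x ∣ p ^ k := orderOf_dvd_of_pow_eq_one hk
    exact Nat.Coprime.coprime_dvd_left h1 (Nat.Coprime.pow_left k hyp.symm)
  have hyx : y * x = x * y := Subgroup.mem_centralizer_singleton_iff.mp hyC
  have hdy := cent_le_of_coprime hn h hx hyx h1 hd
  rw [Subgroup.mem_centralizer_singleton_iff] at hdy
  -- `z` has order coprime to that of `a`
  have h2 : (orderOf a).Coprime (orderOf z) := (coprime_orderOf_of_pow hpq hzp haq).symm
  have hza : z * a = a * z := by
    rw [heq] at hzC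
    exact Subgroup.mem_centralizer_singleton_iff.mp hzC
  have hdz := cent_le_of_coprime hn h ha hza h2 (heq ▸ hd)
  rw [Subgroup.mem_centralizer_singleton_iff] at hdz
  -- conclude
  rw [hcyz]
  calc y * z * d = y * (z * d) := by group
    _ = y * (d * z) := by rw [hdz]
    _ = (y * d) * z := by group
    _ = (d * y) * z := by rw [hdy]
    _ = d * (y * z) := by group

end Cfsg.Agent.Helper69
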