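-- helper69: π-elements, π-decomposition of elements of finite groups.
import Mathlib
import Cfsg.Agent.Helper67.Conj

set_option autoImplicit false

namespace Cfsg.Agent.Helper69

variable {G : Type*} [Group G]

/-- `g` is a `π`-element: every prime divisor of its order lies in `π`. -/
def IsPi (π : Set ℕ) (g : G) : Prop := ∀ q : ℕ, q.Prime → q ∣ orderOf g → q ∈ π

theorem isPi_one (π : Set ℕ) : IsPi π (1 : G) := by
  intro q hq hdvd
  rw [orderOf_one] at hdvd
  exact absurd (Nat.dvd_one.mp hdvd) hq.ne_one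

theorem IsPi.mul {π : Set ℕ} {a b : G} (hab : Commute a b) (ha : IsPi π a) (hb : IsPi π b) :
    IsPi π (a * b) := by
  intro q hq hdvd
  have h1 := hdvd.trans hab.orderOf_mul_dvd_mul_orderOf
  rcases (Nat.Prime.dvd_mul hq).mp h1 with h | h
  · exact ha q hq h
  · exact hb q hq h

theorem IsPi.inv {π : Set ℕ} {a : G} (ha : IsPi π a) : IsPi π a⁻¹ := by
  intro q hq hdvd
  rw [orderOf_inv] at hdvd
  exact ha q hq hdvd

theorem IsPi.of_mem_zpowers {π : Set ℕ} {a b : G} (ha : IsPi π a) (hb : b ∈ Subgroup.zpowers a) :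
    IsPi π b := by
  intro q hq hdvd
  exact ha q hq (hdvd.trans (orderOf_dvd_of_mem_zpowers hb))

theorem orderOf_conj_eq (g x : G) : orderOf (g * x * g⁻¹) = orderOf x := by
  have := MulEquiv.orderOf_eq (MulAut.conj g) x
  rwa [MulAut.conj_apply] at this

theorem isPi_conj {π : Set ℕ} (g x : G) : IsPi π (g * x * g⁻¹) ↔ IsPi π x := by
  unfold IsPi
  rw [orderOf_conj_eq]

theorem IsPi.map {π : Set ℕ} {H : Type*} [Group H] (f : G →* H) {a : G} (ha : IsPi π a) :
    IsPi π (f a) := by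
  intro q hq hdvd
  exact ha q hq (hdvd.trans (orderOf_map_dvd f a))

theorem eq_one_of_isPi_of_isPi_compl {π : Set ℕ} {a : G} (h1 : IsPi π a) (h2 : IsPi πᶜ a) :
    a = 1 := by
  by_contra hne
  have h3 : orderOf a ≠ 1 := by rwa [Ne, orderOf_eq_one_iff]
  obtain ⟨q, hq, hdvd⟩ := Nat.exists_prime_and_dvd h3
  exact h2 q hq hdvd (h1 q hq hdvd)

theorem commute_of_mem_zpowers {g a b : G} (ha : a ∈ Subgroup.zpowers g)
    (hb : b ∈ Subgroup.zpowers g) : Commute a b := by
  obtain ⟨i, rfl⟩ := Subgroup.mem_zpowers_iff.mp ha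
  obtain ⟨j, rfl⟩ := Subgroup.mem_zpowers_iff.mp hb
  exact (Commute.refl g).zpow_zpow i j

theorem commute_of_mem_zpowers_right {g a x : G} (ha : a ∈ Subgroup.zpowers g)
    (hx : Commute x g) : Commute x a := by
  obtain ⟨i, rfl⟩ := Subgroup.mem_zpowers_iff.mp ha
  exact hx.zpow_right i

/-- Existence of the `π`-decomposition. -/
theorem exists_pi_decomp [Finite G] (π : Set ℕ) (g : G) :
    ∃ u v : G, u ∈ Subgroup.zpowers g ∧ v ∈ Subgroup.zpowers g ∧ g = u * v ∧
      IsPi π u ∧ IsPi πᶜ v := by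
  induction hm : orderOf g using Nat.strong_induction_on generalizing g with
  | _ m ih =>
    by_cases hg : IsPi π g
    · exact ⟨g, 1, Subgroup.mem_zpowers g, one_mem _, (mul_one g).symm, hg, isPi_one _⟩
    · unfold IsPi at hg
      push Not at hg
      obtain ⟨q, hq, hqd, hqπ⟩ := hg
      haveI : Fact q.Prime := ⟨hq⟩
      obtain ⟨y, z, hy, hz, hgyz, hyq, k, hzk⟩ :=
        Cfsg.Agent.Helper67.exists_pprime_ppart q (isOfFinOrder_of_finite g)
      have hdvd : orderOf y ∣ m := by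
        rw [← hm]; exact orderOf_dvd_of_mem_zpowers hy
      have hlt : orderOf y < m := by
        apply lt_of_le_of_ne (Nat.le_of_dvd (by rw [← hm]; exact orderOf_pos g) hdvd)
        intro heq
        rw [heq, ← hm] at hyq
        exact (Nat.Prime.coprime_iff_not_dvd hq).mp hyq.symm hqd
      obtain ⟨u, v, hu, hv, hyuv, hup, hvp⟩ := ih (orderOf y) hlt y rfl
      have hle : Subgroup.zpowers y ≤ Subgroup.zpowers g := Subgroup.zpowers_le.mpr hy
      refine ⟨u, v * z, hle hu, mul_mem (hle hv) hz, ?_, hup, ?_⟩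
      · rw [hgyz, hyuv, mul_assoc]
      · apply IsPi.mul (commute_of_mem_zpowers (hle hv) hz) hvp
        intro r hr hrd
        have h1 : r ∣ q ^ k := hrd.trans (orderOf_dvd_of_pow_eq_one hzk)
        have h2 : r = q := (Nat.prime_dvd_prime_iff_eq hr hq).mp (hr.dvd_of_dvd_pow h1)
        rw [h2]; exact hqπ

/-- The `π`-part of an element. -/
noncomputable def piPart [Finite G] (π : Set ℕ) (g : G) : G := (exists_pi_decomp π g).choose

/-- The `π'`-part of an element. -/
noncomputable def piPart' [Finite G] (π : Set ℕ) (g : G) : G :=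
  (exists_pi_decomp π g).choose_spec.choose

theorem piPart_spec [Finite G] (π : Set ℕ) (g : G) :
    piPart π g ∈ Subgroup.zpowers g ∧ piPart' π g ∈ Subgroup.zpowers g ∧
      g = piPart π g * piPart' π g ∧ IsPi π (piPart π g) ∧ IsPi πᶜ (piPart' π g) :=
  (exists_pi_decomp π g).choose_spec.choose_spec

theorem coprime_orderOf_of_isPi {π : Set ℕ} {x v : G} (hx : IsPi π x) (hv : IsPi πᶜ v) :
    (orderOf x).Coprime (orderOf v) :=
  Nat.Coprime.symm (Nat.coprime_of_dvd fun k hk h1 h2 => hv k hk h1 (hx k hk h2))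

theorem mem_zpowers_mul_of_isPi {π : Set ℕ} {x v : G} (hx : IsPi π x) (hv : IsPi πᶜ v)
    (hc : Commute x v) : x ∈ Subgroup.zpowers (x * v) ∧ v ∈ Subgroup.zpowers (x * v) := by
  have hcop := coprime_orderOf_of_isPi hx hv
  constructor
  · have hex : ∃ t : ℕ, (x ^ orderOf v) ^ t = x := exists_pow_eq_self_of_coprime hcop.symm
    obtain ⟨t, ht⟩ := hex
    have h1 : (x * v) ^ orderOf v = x ^ orderOf v := by
      rw [hc.mul_pow, pow_orderOf_eq_one, mul_one]
    have hmem : ((x * v) ^ orderOf v) ^ t ∈ Subgroup.zpowers (x * v) :=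
      Subgroup.pow_mem _ (Subgroup.pow_mem _ (Subgroup.mem_zpowers _) _) _
    rwa [h1, ht] at hmem
  · have hex : ∃ t : ℕ, (v ^ orderOf x) ^ t = v := exists_pow_eq_self_of_coprime hcop
    obtain ⟨t, ht⟩ := hex
    have h1 : (x * v) ^ orderOf x = v ^ orderOf x := by
      rw [hc.mul_pow, pow_orderOf_eq_one, one_mul]
    have hmem : ((x * v) ^ orderOf x) ^ t ∈ Subgroup.zpowers (x * v) :=
      Subgroup.pow_mem _ (Subgroup.pow_mem _ (Subgroup.mem_zpowers _) _) _
    rwa [h1, ht] at hmem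

/-- Uniqueness of the `π`-decomposition. -/
theorem pi_decomp_unique {π : Set ℕ} {x v x' v' : G} (hx : IsPi π x) (hx' : IsPi π x')
    (hv : IsPi πᶜ v) (hv' : IsPi πᶜ v') (hc : Commute x v) (hc' : Commute x' v')
    (h : x * v = x' * v') : x = x' ∧ v = v' := by
  obtain ⟨hxw, hvw⟩ := mem_zpowers_mul_of_isPi hx hv hc
  have hx'w : Commute x' (x * v) := by
    rw [h]; exact (Commute.refl x').mul_right hc'
  have hv'w : Commute v' (x * v) := by
    rw [h]; exact hc'.symm.mul_right (Commute.refl v')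
  have c1 : Commute x' x := commute_of_mem_zpowers_right hxw hx'w
  have c2 : Commute v' v := commute_of_mem_zpowers_right hvw hv'w
  have key : x'⁻¹ * x = v' * v⁻¹ := by
    have : x = x' * v' * v⁻¹ := by rw [← h]; group
    rw [this]; group
  have h1 : IsPi π (x'⁻¹ * x) := IsPi.mul c1.inv_left hx'.inv hx
  have h2 : IsPi πᶜ (x'⁻¹ * x) := by
    rw [key]; exact IsPi.mul c2.inv_right hv' hv.inv
  have h3 : x'⁻¹ * x = 1 := eq_one_of_isPi_of_isPi_compl h1 h2
  have h4 : v' * v⁻¹ = 1 := by rw [← key]; exact h3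
  constructor
  · exact (inv_mul_eq_one.mp h3).symm
  · exact (mul_inv_eq_one.mp h4).symm

end Cfsg.Agent.Helper69
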