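-- helper69: coprime conjugacy class sizes (Bertram–Herzog–Mann / Kazarin style lemmas), part 1.
import Mathlib
import Cfsg.Agent.Helper69.Ito1
import Cfsg.Agent.Helper69.PiElem
import Cfsg.Agent.Helper9.ComplementSystem

set_option autoImplicit false

namespace Cfsg.Agent.Helper69.Bhm

open Subgroup

variable {G : Type*} [Group G]

/-- centralizer of an element -/
abbrev cz (g : G) : Subgroup G := centralizer ({g} : Set G)

/-- index of the centralizer (= class size) -/
noncomputable abbrev ci (g : G) : ℕ := (cz g).index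

/-- all prime divisors of `n` lie in `π` -/
def PiNat (π : Set ℕ) (n : ℕ) : Prop := ∀ p : ℕ, p.Prime → p ∣ n → p ∈ π

theorem PiNat.of_dvd {π : Set ℕ} {m n : ℕ} (h : PiNat π n) (hd : m ∣ n) : PiNat π m :=
  fun p hp hpm => h p hp (hpm.trans hd)

theorem piNat_one (π : Set ℕ) : PiNat π 1 := by
  intro p hp hd
  exact absurd (Nat.dvd_one.mp hd) hp.ne_one

theorem PiNat.coprime {π : Set ℕ} {m n : ℕ} (hm : PiNat π m) (hn : PiNat πᶜ n) :
    Nat.Coprime m n :=
  Nat.coprime_of_dvd fun k hk h1 h2 => hn k hk h2 (hm k hk h1)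

theorem PiNat.eq_one {π : Set ℕ} {n : ℕ} (h1 : PiNat π n) (h2 : PiNat πᶜ n) : n = 1 := by
  have := (PiNat.coprime h1 h2)
  rwa [Nat.coprime_self] at this

theorem mem_cz_iff {g k : G} : k ∈ cz g ↔ k * g = g * k := mem_centralizer_singleton_iff

theorem self_mem_cz (g : G) : g ∈ cz g := mem_cz_iff.mpr rfl

theorem center_le_cz (g : G) : center G ≤ cz g := Subgroup.center_le_centralizer _

theorem ci_eq_one_iff (g : G) : ci g = 1 ↔ g ∈ center G := index_cent_eq_one_iff g

theorem cz_conj (g x : G) : cz (g * x * g⁻¹) = (cz x).map (MulAut.conj g).toMonoidHom := by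
  ext k
  rw [mem_cz_iff, Subgroup.mem_map]
  constructor
  · intro hk
    refine ⟨g⁻¹ * k * g, ?_, ?_⟩
    · rw [mem_cz_iff]
      have : g⁻¹ * (k * (g * x * g⁻¹)) * g = g⁻¹ * ((g * x * g⁻¹) * k) * g := by rw [hk]
      calc g⁻¹ * k * g * x = g⁻¹ * (k * (g * x * g⁻¹)) * g := by group
        _ = g⁻¹ * ((g * x * g⁻¹) * k) * g := this
        _ = x * (g⁻¹ * k * g) := by group
    · simp only [MulEquiv.coe_toMonoidHom, MulAut.conj_apply]
      group
  · rintro ⟨j, hj, rfl⟩
    rw [mem_cz_iff] at hj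
    simp only [MulEquiv.coe_toMonoidHom, MulAut.conj_apply]
    calc g * j * g⁻¹ * (g * x * g⁻¹) = g * (j * x) * g⁻¹ := by group
      _ = g * (x * j) * g⁻¹ := by rw [hj]
      _ = g * x * g⁻¹ * (g * j * g⁻¹) := by group

theorem ci_conj (g x : G) : ci (g * x * g⁻¹) = ci x := by
  unfold ci
  rw [cz_conj]
  exact Subgroup.index_map_equiv (cz x) (MulAut.conj g)

theorem cz_inv (x : G) : cz x⁻¹ = cz x := by
  ext k
  rw [mem_cz_iff, mem_cz_iff]
  constructor
  · intro h
    calc k * x = x * (x⁻¹ * k) * x := by group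
      _ = x * (k * x⁻¹) * x := by rw [h]
      _ = x * k := by group
  · intro h
    calc k * x⁻¹ = x⁻¹ * (x * k) * x⁻¹ := by group
      _ = x⁻¹ * (k * x) * x⁻¹ := by rw [h]
      _ = x⁻¹ * k := by group

theorem ci_inv (x : G) : ci x⁻¹ = ci x := by
  unfold ci; rw [cz_inv]

theorem cz_le_of_mem_zpowers {g x : G} (hx : x ∈ zpowers g) : cz g ≤ cz x :=
  cent_le_of_mem_zpowers hx

theorem ci_dvd_of_mem_zpowers {g x : G} (hx : x ∈ zpowers g) : ci x ∣ ci g :=
  Subgroup.index_dvd_of_le (cz_le_of_mem_zpowers hx)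

theorem cz_inf_le_cz_mul (a b : G) : cz a ⊓ cz b ≤ cz (a * b) := by
  intro k hk
  rw [Subgroup.mem_inf, mem_cz_iff, mem_cz_iff] at hk
  rw [mem_cz_iff, ← mul_assoc, hk.1, mul_assoc, hk.2, mul_assoc]

theorem cz_inf_cz_mul (a b : G) : cz a ⊓ cz (a * b) = cz a ⊓ cz b := by
  ext k
  simp only [Subgroup.mem_inf, mem_cz_iff]
  constructor
  · rintro ⟨h1, h2⟩
    refine ⟨h1, ?_⟩
    have h3 : a * (k * b) = a * (b * k) := by
      calc a * (k * b) = (a * k) * b := by rw [mul_assoc]
        _ = (k * a) * b := by rw [h1]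
        _ = k * (a * b) := by rw [mul_assoc]
        _ = a * b * k := h2
        _ = a * (b * k) := by rw [mul_assoc]
    exact mul_left_cancel h3
  · rintro ⟨h1, h2⟩
    exact ⟨h1, by rw [← mul_assoc, h1, mul_assoc, h2, mul_assoc]⟩

theorem cz_inf_cz_mul' (a b : G) : cz b ⊓ cz (a * b) = cz a ⊓ cz b := by
  ext k
  simp only [Subgroup.mem_inf, mem_cz_iff]
  constructor
  · rintro ⟨h1, h2⟩
    refine ⟨?_, h1⟩
    have h3 : (k * a) * b = (a * k) * b := by
      calc (k * a) * b = k * (a * b) := by rw [mul_assoc]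
        _ = a * b * k := h2
        _ = a * (b * k) := by rw [mul_assoc]
        _ = a * (k * b) := by rw [h1]
        _ = (a * k) * b := by rw [mul_assoc]
    exact mul_right_cancel h3
  · rintro ⟨h1, h2⟩
    exact ⟨h2, by rw [← mul_assoc, h1, mul_assoc, h2, mul_assoc]⟩

section finite
variable [Finite G]

theorem ci_pos (g : G) : 0 < ci g := Nat.pos_of_ne_zero Subgroup.index_ne_zero_of_finite

theorem relIndex_le_index' (K H : Subgroup G) : K.relIndex H ≤ K.index := by
  have h1 : (K ⊓ H).relIndex H * H.index = (K ⊓ H).index :=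
    Subgroup.relIndex_mul_index inf_le_right
  rw [Subgroup.inf_relIndex_right] at h1
  have h2 : (K ⊓ H).index ≤ K.index * H.index := Subgroup.index_inf_le
  rw [← h1] at h2
  exact Nat.le_of_mul_le_mul_right h2 (Nat.pos_of_ne_zero Subgroup.index_ne_zero_of_finite)

/-- Relative index when the indices are coprime. -/
theorem relIndex_eq_index_of_coprime' (K H : Subgroup G)
    (hcop : Nat.Coprime K.index H.index) : K.relIndex H = K.index := by
  have h1 : (K ⊓ H).relIndex H * H.index = (K ⊓ H).index :=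
    Subgroup.relIndex_mul_index inf_le_right
  rw [Cfsg.Agent.Helper9.index_inf_of_coprime_index K H hcop, Subgroup.inf_relIndex_right] at h1
  exact Nat.eq_of_mul_eq_mul_right (Nat.pos_of_ne_zero Subgroup.index_ne_zero_of_finite) h1

/-- For coprime class sizes, `|(ab)^G|` divides `|a^G||b^G|`. -/
theorem ci_mul_dvd {a b : G} (h : Nat.Coprime (ci a) (ci b)) : ci (a * b) ∣ ci a * ci b := by
  rw [← Cfsg.Agent.Helper9.index_inf_of_coprime_index (cz a) (cz b) h]
  exact Subgroup.index_dvd_of_le (cz_inf_le_cz_mul a b)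

theorem ci_le_ci_mul_right {a b : G} (h : Nat.Coprime (ci a) (ci b)) : ci b ≤ ci (a * b) := by
  have h1 : (cz b).relIndex (cz a) = ci b :=
    relIndex_eq_index_of_coprime' (cz b) (cz a) h.symm
  have h2 : (cz b).relIndex (cz a) = (cz (a * b)).relIndex (cz a) := by
    rw [← Subgroup.inf_relIndex_right (cz b), ← Subgroup.inf_relIndex_right (cz (a * b)),
      inf_comm (cz (a * b)), cz_inf_cz_mul, inf_comm]
  rw [← h1, h2]
  exact relIndex_le_index' _ _

theorem ci_le_ci_mul_left {a b : G} (h : Nat.Coprime (ci a) (ci b)) : ci a ≤ ci (a * b) := by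
  have h1 : (cz a).relIndex (cz b) = ci a :=
    relIndex_eq_index_of_coprime' (cz a) (cz b) h
  have h2 : (cz a).relIndex (cz b) = (cz (a * b)).relIndex (cz b) := by
    rw [← Subgroup.inf_relIndex_right (cz a), ← Subgroup.inf_relIndex_right (cz (a * b)),
      inf_comm (cz (a * b)), cz_inf_cz_mul']
  rw [← h1, h2]
  exact relIndex_le_index' _ _

/-- The class product lemma for coprime class sizes. -/
theorem conj_mul_conj {a b : G} (h : Nat.Coprime (ci a) (ci b)) (g k : G) :
    ∃ t : G, (g * a * g⁻¹) * (k * b * k⁻¹) = t * (a * b) * t⁻¹ := by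
  obtain ⟨d, hd, c, hc, hw⟩ :=
    Cfsg.Agent.Helper9.exists_mul_of_coprime_index (cz b) (cz a) h.symm (k⁻¹ * g)
  rw [mem_cz_iff] at hd hc
  refine ⟨k * d, ?_⟩
  have h1 : g = k * (d * c) := by rw [← hw]; group
  have h2 : c * a * c⁻¹ = a := by rw [hc]; group
  have h3 : d * b * d⁻¹ = b := by rw [hd]; group
  calc g * a * g⁻¹ * (k * b * k⁻¹)
      = k * (d * (c * a * c⁻¹) * d⁻¹ * b) * k⁻¹ := by rw [h1]; group
    _ = k * (d * a * d⁻¹ * (d * b * d⁻¹)) * k⁻¹ := by rw [h2, h3]
    _ = k * d * (a * b) * (k * d)⁻¹ := by group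

end finite

end Cfsg.Agent.Helper69.Bhm
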