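-- helper69: coprime conjugacy class sizes (Bertram–Herzog–Mann / Kazarin style lemmas), part 2:
-- the abstract two-sided setting, classes as sets, left multiplications preserving a class.
import Mathlib
import Cfsg.Agent.Helper69.Bhm1

set_option autoImplicit false

namespace Cfsg.Agent.Helper69.Bhm

open Subgroup

variable {G : Type*} [Group G]

/-- `σ` and `τ` share no prime -/
def PDisj (σ τ : Set ℕ) : Prop := ∀ p : ℕ, p.Prime → p ∈ σ → p ∈ τ → False

theorem PDisj.symm {σ τ : Set ℕ} (h : PDisj σ τ) : PDisj τ σ := fun p hp h1 h2 => h p hp h2 h1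

theorem pDisj_compl (σ : Set ℕ) : PDisj σ σᶜ := fun _ _ h1 h2 => h2 h1

theorem pDisj_compl' (σ : Set ℕ) : PDisj σᶜ σ := fun _ _ h1 h2 => h1 h2

theorem PiNat.coprime' {σ τ : Set ℕ} (h : PDisj σ τ) {m n : ℕ} (hm : PiNat σ m) (hn : PiNat τ n) :
    Nat.Coprime m n :=
  Nat.coprime_of_dvd fun k hk h1 h2 => h k hk (hm k hk h1) (hn k hk h2)

theorem PiNat.eq_one' {σ τ : Set ℕ} (h : PDisj σ τ) {n : ℕ} (h1 : PiNat σ n) (h2 : PiNat τ n) :
    n = 1 := by
  have := PiNat.coprime' h h1 h2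
  rwa [Nat.coprime_self] at this

/-- noncentral with `σ`-index -/
def IsA (σ : Set ℕ) (a : G) : Prop := ci a ≠ 1 ∧ PiNat σ (ci a)

theorem IsA.conj {σ : Set ℕ} {a : G} (h : IsA σ a) (g : G) : IsA σ (g * a * g⁻¹) := by
  unfold IsA; rw [ci_conj]; exact h

theorem IsA.inv {σ : Set ℕ} {a : G} (h : IsA σ a) : IsA σ a⁻¹ := by
  unfold IsA; rw [ci_inv]; exact h

theorem IsA.not_mem_center {σ : Set ℕ} {a : G} (h : IsA σ a) : a ∉ center G := fun hc =>
  h.1 ((ci_eq_one_iff a).mpr hc)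

/-- every class size is a `σ`-number or a `τ`-number -/
def Dich (G : Type*) [Group G] (σ τ : Set ℕ) : Prop := ∀ g : G, PiNat σ (ci g) ∨ PiNat τ (ci g)

theorem Dich.symm {σ τ : Set ℕ} (h : Dich G σ τ) : Dich G τ σ := fun g => (h g).symm

theorem ci_ne_of_isA {σ τ : Set ℕ} (hd : PDisj σ τ) {a b : G} (ha : IsA σ a) (hb : IsA τ b) :
    ci a ≠ ci b := by
  intro h
  apply ha.1
  apply PiNat.eq_one' hd ha.2
  rw [h]; exact hb.2

theorem isA_of_not_piNat {σ τ : Set ℕ} (hD : Dich G σ τ) {g : G} (h : ¬ PiNat σ (ci g)) :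
    IsA τ g := by
  refine ⟨fun h1 => h ?_, (hD g).resolve_left h⟩
  rw [h1]; exact piNat_one σ

/-- the class of `v` as a set -/
def cls (v : G) : Set G := Set.range (fun t : G => t * v * t⁻¹)

theorem mem_cls {v x : G} : x ∈ cls v ↔ ∃ t : G, t * v * t⁻¹ = x := Iff.rfl

section finite
variable [Finite G]

theorem ci_mul_of_lt {σ τ : Set ℕ} (hd : PDisj σ τ) (hD : Dich G σ τ) {u v : G}
    (hu : PiNat σ (ci u)) (hv : IsA τ v) (hlt : ci u < ci v) : ci (u * v) = ci v := by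
  have hcop : Nat.Coprime (ci u) (ci v) := PiNat.coprime' hd hu hv.2
  have h1 := ci_mul_dvd hcop
  have h2 := ci_le_ci_mul_right hcop
  rcases hD (u * v) with h | h
  · have hc : Nat.Coprime (ci (u * v)) (ci v) := PiNat.coprime' hd h hv.2
    have h3 : ci (u * v) ∣ ci u := (Nat.Coprime.dvd_mul_right hc).mp h1
    have := Nat.le_of_dvd (ci_pos u) h3
    omega
  · have hc : Nat.Coprime (ci (u * v)) (ci u) := (PiNat.coprime' hd hu h).symm
    have h3 : ci (u * v) ∣ ci v := (Nat.Coprime.dvd_mul_left hc).mp h1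
    exact le_antisymm (Nat.le_of_dvd (ci_pos v) h3) h2

theorem isA_mul_of_lt {σ τ : Set ℕ} (hd : PDisj σ τ) (hD : Dich G σ τ) {u v : G}
    (hu : PiNat σ (ci u)) (hv : IsA τ v) (hlt : ci u < ci v) : IsA τ (u * v) := by
  unfold IsA
  rw [ci_mul_of_lt hd hD hu hv hlt]
  exact hv

/-- The key absorption lemma: `u⁻¹ u^g v` is conjugate to `v`. -/
theorem abs_conj {σ τ : Set ℕ} (hd : PDisj σ τ) (hD : Dich G σ τ) {u v : G}
    (hu : PiNat σ (ci u)) (hv : IsA τ v) (hlt : ci u < ci v) (g : G) :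
    ∃ c : G, u⁻¹ * (g * u * g⁻¹) * v = c * v * c⁻¹ := by
  have hcop : Nat.Coprime (ci u) (ci v) := PiNat.coprime' hd hu hv.2
  have heq := ci_mul_of_lt hd hD hu hv hlt
  obtain ⟨t, ht⟩ := conj_mul_conj hcop g 1
  have hcop2 : Nat.Coprime (ci u) (ci (u * v)) := by rw [heq]; exact hcop
  obtain ⟨c, hc, d, hdd, hw⟩ :=
    Cfsg.Agent.Helper9.exists_mul_of_coprime_index (cz u) (cz (u * v)) hcop2 t
  rw [mem_cz_iff] at hc hdd
  refine ⟨c, ?_⟩
  have h1 : g * u * g⁻¹ * v = t * (u * v) * t⁻¹ := by simpa using ht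
  have h2 : t * (u * v) * t⁻¹ = c * (u * v) * c⁻¹ := by
    have h4 : d * (u * v) * d⁻¹ = u * v := by rw [hdd]; group
    rw [hw]
    calc c * d * (u * v) * (c * d)⁻¹ = c * (d * (u * v) * d⁻¹) * c⁻¹ := by group
      _ = c * (u * v) * c⁻¹ := by rw [h4]
  have h3 : c * u * c⁻¹ = u := by rw [hc]; group
  calc u⁻¹ * (g * u * g⁻¹) * v = u⁻¹ * (g * u * g⁻¹ * v) := by group
    _ = u⁻¹ * (c * (u * v) * c⁻¹) := by rw [h1, h2]
    _ = u⁻¹ * ((c * u * c⁻¹) * (c * v * c⁻¹)) := by group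
    _ = c * v * c⁻¹ := by rw [h3]; group

theorem card_cls (v : G) : Nat.card (cls v) = ci v := by
  unfold ci
  rw [Subgroup.index_eq_card]
  symm
  apply Nat.card_congr
  refine Equiv.ofBijective
    (fun q : G ⧸ cz v => (⟨q.out * v * q.out⁻¹, ⟨q.out, rfl⟩⟩ : cls v)) ⟨?_, ?_⟩
  · intro q q' h
    have h1 : q.out * v * q.out⁻¹ = q'.out * v * q'.out⁻¹ := congrArg Subtype.val h
    have h2 : q.out⁻¹ * q'.out ∈ cz v := by
      rw [mem_cz_iff]
      calc q.out⁻¹ * q'.out * v = q.out⁻¹ * (q'.out * v * q'.out⁻¹) * q'.out := by group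
        _ = q.out⁻¹ * (q.out * v * q.out⁻¹) * q'.out := by rw [h1]
        _ = v * (q.out⁻¹ * q'.out) := by group
    have h3 : (QuotientGroup.mk q.out : G ⧸ cz v) = QuotientGroup.mk q'.out :=
      QuotientGroup.eq.mpr h2
    rwa [QuotientGroup.out_eq', QuotientGroup.out_eq'] at h3
  · rintro ⟨x, t, rfl⟩
    obtain ⟨c, hc⟩ := QuotientGroup.mk_out_eq_mul (cz v) t
    refine ⟨QuotientGroup.mk t, ?_⟩
    apply Subtype.ext
    show (QuotientGroup.mk t : G ⧸ cz v).out * v * (QuotientGroup.mk t : G ⧸ cz v).out⁻¹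
      = t * v * t⁻¹
    rw [hc]
    have h1 : (c : G) * v * (c : G)⁻¹ = v := by
      have := mem_cz_iff.mp c.2
      rw [this]; group
    calc t * (c : G) * v * (t * (c : G))⁻¹ = t * ((c : G) * v * (c : G)⁻¹) * t⁻¹ := by group
      _ = t * v * t⁻¹ := by rw [h1]

/-- the subgroup of elements whose left multiplication preserves the class of `v` -/
def presSubgroup (v : G) : Subgroup G where
  carrier := {k | ∀ x ∈ cls v, k * x ∈ cls v}
  one_mem' := by
    intro x hx
    simpa using hx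
  mul_mem' := by
    intro a b ha hb x hx
    rw [mul_assoc]
    exact ha _ (hb _ hx)
  inv_mem' := by
    intro a ha x hx
    have hpow : ∀ n : ℕ, ∀ x ∈ cls v, a ^ n * x ∈ cls v := by
      intro n
      induction n with
      | zero => intro x hx; simpa using hx
      | succ n ih =>
        intro x hx
        rw [pow_succ, mul_assoc]
        exact ih _ (ha _ hx)
    have h1 : a⁻¹ = a ^ (orderOf a - 1) := by
      apply inv_eq_of_mul_eq_one_right
      rw [← pow_succ', Nat.sub_add_cancel (orderOf_pos a), pow_orderOf_eq_one]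
    show a⁻¹ * x ∈ cls v
    rw [h1]
    exact hpow _ x hx

theorem mem_presSubgroup {v k : G} : k ∈ presSubgroup v ↔ ∀ x ∈ cls v, k * x ∈ cls v := Iff.rfl

theorem gen_mem_presSubgroup {σ τ : Set ℕ} (hd : PDisj σ τ) (hD : Dich G σ τ) {u v : G}
    (hu : PiNat σ (ci u)) (hv : IsA τ v) (hlt : ci u < ci v) (g : G) :
    u⁻¹ * (g * u * g⁻¹) ∈ presSubgroup v := by
  rintro x ⟨t, rfl⟩
  have hv' : IsA τ (t * v * t⁻¹) := hv.conj t
  have hlt' : ci u < ci (t * v * t⁻¹) := by rw [ci_conj]; exact hlt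
  obtain ⟨c, hc⟩ := abs_conj hd hD hu hv' hlt' g
  refine ⟨c * t, ?_⟩
  show c * t * v * (c * t)⁻¹ = u⁻¹ * (g * u * g⁻¹) * (t * v * t⁻¹)
  rw [hc]; group

/-- primes dividing the order of a class-preserving left multiplier divide the class size -/
theorem prime_dvd_ci_of_mem_pres {k v : G} (hk : k ∈ presSubgroup v) {r : ℕ} (hr : r.Prime)
    (hdvd : r ∣ orderOf k) : r ∣ ci v := by
  haveI : Fact r.Prime := ⟨hr⟩
  obtain ⟨k', hk'def⟩ : ∃ k' : G, k' = k ^ (orderOf k / r) := ⟨_, rfl⟩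
  have hord : orderOf k' = r := by
    rw [hk'def]; exact orderOf_pow_orderOf_div (orderOf_pos k).ne' hdvd
  have hk'mem : k' ∈ presSubgroup v := by rw [hk'def]; exact Subgroup.pow_mem _ hk _
  have hle : zpowers k' ≤ presSubgroup v := by
    rw [Subgroup.zpowers_le]; exact hk'mem
  letI act : MulAction (zpowers k') (cls v) :=
    { smul := fun a x => ⟨(a : G) * (x : G), hle a.2 _ x.2⟩
      one_smul := fun x => Subtype.ext (one_mul _)
      mul_smul := fun a b x => Subtype.ext (mul_assoc _ _ _) }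
  have hp : IsPGroup r (zpowers k') :=
    IsPGroup.of_card (n := 1) (by rw [Nat.card_zpowers, hord, pow_one])
  have hmod := hp.card_modEq_card_fixedPoints (cls v)
  have hempty : IsEmpty (MulAction.fixedPoints (zpowers k') (cls v)) := by
    constructor
    rintro ⟨x, hx⟩
    have h1 := hx ⟨k', mem_zpowers k'⟩
    have h2 : k' * (x : G) = x := congrArg Subtype.val h1
    have h3 : k' = 1 := by simpa using h2
    rw [h3, orderOf_one] at hord
    exact hr.one_lt.ne hord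
  have h0 : Nat.card (MulAction.fixedPoints (zpowers k') (cls v)) = 0 := Nat.card_of_isEmpty
  rw [h0, card_cls] at hmod
  exact (Nat.modEq_zero_iff_dvd).mp hmod

end finite

end Cfsg.Agent.Helper69.Bhm
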