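-- helper69: coprime conjugacy class sizes (Bertram–Herzog–Mann / Kazarin style lemmas), part 3:
-- the subgroup `K = ⟨a⁻¹ a^g⟩`, commutativity of the small side, the abelian normal subgroup `N`.
import Mathlib
import Cfsg.Agent.Helper69.Bhm2

set_option autoImplicit false

namespace Cfsg.Agent.Helper69.Bhm

open Subgroup

variable {G : Type*} [Group G]

/-- The configuration: every class size is a `σ`-number or a `τ`-number, both kinds occur
nontrivially, and the largest class size is a `τ`-number. -/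
structure Cfg (G : Type*) [Group G] (σ τ : Set ℕ) : Prop where
  disj : PDisj σ τ
  dich : Dich G σ τ
  exA : ∃ a : G, IsA σ a
  exB : ∃ b : G, IsA τ b ∧ ∀ g : G, ci g ≤ ci b

/-- generators of `K` -/
def kGen (G : Type*) [Group G] (σ : Set ℕ) : Set G :=
  {x | ∃ a g : G, IsA σ a ∧ x = a⁻¹ * (g * a * g⁻¹)}

/-- `K = ⟨a⁻¹ a^g⟩` -/
def kSub (G : Type*) [Group G] (σ : Set ℕ) : Subgroup G := closure (kGen G σ)

theorem gen_mem_kSub {σ : Set ℕ} {a : G} (ha : IsA σ a) (g : G) :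
    a⁻¹ * (g * a * g⁻¹) ∈ kSub G σ :=
  subset_closure ⟨a, g, ha, rfl⟩

instance kSub_normal (σ : Set ℕ) : (kSub G σ).Normal := by
  constructor
  intro n hn g
  refine Subgroup.closure_induction (p := fun x _ => g * x * g⁻¹ ∈ kSub G σ) ?_ ?_ ?_ ?_ hn
  · rintro x ⟨a, t, ha, rfl⟩
    have e : g * (a⁻¹ * (t * a * t⁻¹)) * g⁻¹ =
        (g * a * g⁻¹)⁻¹ * ((g * t * g⁻¹) * (g * a * g⁻¹) * (g * t * g⁻¹)⁻¹) := by group
    rw [e]
    exact gen_mem_kSub (ha.conj g) _
  · simp
  · intro x y _ _ hx hy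
    have e : g * (x * y) * g⁻¹ = (g * x * g⁻¹) * (g * y * g⁻¹) := by group
    rw [e]; exact mul_mem hx hy
  · intro x _ hx
    have e : g * x⁻¹ * g⁻¹ = (g * x * g⁻¹)⁻¹ := by group
    rw [e]; exact inv_mem hx

/-- `C_G(K)` -/
def dSub (G : Type*) [Group G] (σ : Set ℕ) : Subgroup G := centralizer (kSub G σ : Set G)

instance dSub_normal (σ : Set ℕ) : (dSub G σ).Normal := by
  unfold dSub; infer_instance

theorem ci_one : ci (1 : G) = 1 := (ci_eq_one_iff 1).mpr (one_mem _)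

theorem ci_central_mul {z : G} (hz : z ∈ center G) (y : G) : ci (z * y) = ci y := by
  have hzc : ∀ k : G, k * z = z * k := Subgroup.mem_center_iff.mp hz
  have e : cz (z * y) = cz y := by
    ext k
    rw [mem_cz_iff, mem_cz_iff]
    constructor
    · intro h
      have h1 : z * (k * y) = z * (y * k) := by
        calc z * (k * y) = (z * k) * y := by rw [mul_assoc]
          _ = (k * z) * y := by rw [hzc k]
          _ = k * (z * y) := by rw [mul_assoc]
          _ = z * y * k := h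
          _ = z * (y * k) := by rw [mul_assoc]
      exact mul_left_cancel h1
    · intro h
      calc k * (z * y) = (k * z) * y := by rw [mul_assoc]
        _ = (z * k) * y := by rw [hzc k]
        _ = z * (k * y) := by rw [mul_assoc]
        _ = z * (y * k) := by rw [h]
        _ = z * y * k := by rw [mul_assoc]
  unfold ci; rw [e]

section finite
variable [Finite G] {σ τ : Set ℕ}

/-- For `K` normal, `|K : K ∩ H|` divides `|G : H|`. -/
theorem relIndex_dvd_index_of_normal_right (H K : Subgroup G) [K.Normal] :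
    H.relIndex K ∣ H.index := by
  have e1 := Subgroup.relIndex_mul_relIndex (H ⊓ K) H (H ⊔ K) inf_le_left le_sup_left
  have e2 := Subgroup.relIndex_mul_relIndex (H ⊓ K) K (H ⊔ K) inf_le_right le_sup_right
  have e3 : K.relIndex (H ⊔ K) = K.relIndex H := Subgroup.relIndex_sup_right H K
  have e4 : (H ⊓ K).relIndex H = K.relIndex H := Subgroup.inf_relIndex_left H K
  have e5 : (H ⊓ K).relIndex K = H.relIndex K := Subgroup.inf_relIndex_right H K
  have hne : K.relIndex H ≠ 0 :=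
    show (K.subgroupOf H).index ≠ 0 from Subgroup.index_ne_zero_of_finite
  rw [e4] at e1
  rw [e5, e3] at e2
  have e6 : H.relIndex (H ⊔ K) = H.relIndex K := by
    apply Nat.eq_of_mul_eq_mul_left (Nat.pos_of_ne_zero hne)
    rw [e1, ← e2, mul_comm]
  rw [← e6]
  exact Subgroup.relIndex_dvd_index_of_le le_sup_left

theorem Cfg.lt_max (h : Cfg G σ τ) {a b : G} (ha : IsA σ a) (hb : IsA τ b)
    (hmax : ∀ g : G, ci g ≤ ci b) : ci a < ci b :=
  lt_of_le_of_ne (hmax a) (ci_ne_of_isA h.disj ha hb)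

theorem Cfg.kSub_le_pres (h : Cfg G σ τ) {b : G} (hb : IsA τ b) (hmax : ∀ g : G, ci g ≤ ci b) :
    kSub G σ ≤ presSubgroup b := by
  unfold kSub
  rw [closure_le]
  rintro x ⟨a, g, ha, rfl⟩
  exact gen_mem_presSubgroup h.disj h.dich ha.2 hb (h.lt_max ha hb hmax) g

theorem Cfg.piNat_orderOf (h : Cfg G σ τ) {k : G} (hk : k ∈ kSub G σ) : PiNat τ (orderOf k) := by
  obtain ⟨b, hb, hmax⟩ := h.exB
  intro r hr hdvd
  exact hb.2 r hr (prime_dvd_ci_of_mem_pres (h.kSub_le_pres hb hmax hk) hr hdvd)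

theorem Cfg.piNat_card_kSub (h : Cfg G σ τ) : PiNat τ (Nat.card (kSub G σ)) := by
  intro r hr hdvd
  haveI : Fact r.Prime := ⟨hr⟩
  obtain ⟨x, hx⟩ := exists_prime_orderOf_dvd_card' r hdvd
  have h1 : r ∣ orderOf (x : G) := by rw [Subgroup.orderOf_coe, hx]
  exact h.piNat_orderOf x.2 r hr h1

theorem Cfg.kSub_le_cz (h : Cfg G σ τ) {a : G} (ha : IsA σ a) : kSub G σ ≤ cz a := by
  rw [← Subgroup.relIndex_eq_one]
  have h1 : (cz a).relIndex (kSub G σ) ∣ Nat.card (kSub G σ) := Subgroup.relIndex_dvd_card _ _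
  have h2 : (cz a).relIndex (kSub G σ) ∣ ci a := relIndex_dvd_index_of_normal_right _ _
  exact PiNat.eq_one' h.disj (ha.2.of_dvd h2) (h.piNat_card_kSub.of_dvd h1)

theorem Cfg.mem_dSub (h : Cfg G σ τ) {a : G} (ha : IsA σ a) : a ∈ dSub G σ := by
  rw [dSub, mem_centralizer_iff]
  intro k hk
  exact mem_cz_iff.mp (h.kSub_le_cz ha hk)

theorem Cfg.dSub_le_cz (h : Cfg G σ τ) {a : G} (ha : IsA σ a) : dSub G σ ≤ cz a := by
  have hmemK : ∀ d : G, a⁻¹ * (d * a * d⁻¹) ∈ kSub G σ := fun d => gen_mem_kSub ha d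
  let f : dSub G σ →* G := MonoidHom.mk' (fun d => a⁻¹ * ((d : G) * a * (d : G)⁻¹)) (by
    intro d e
    have hc : Commute (a⁻¹ * ((e : G) * a * (e : G)⁻¹)) (d : G) :=
      (mem_centralizer_iff.mp d.2 _ (hmemK e))
    have hc' := hc.inv_right.eq
    show a⁻¹ * (((d * e : dSub G σ) : G) * a * ((d * e : dSub G σ) : G)⁻¹) = _
    simp only [Subgroup.coe_mul]
    calc a⁻¹ * ((d : G) * (e : G) * a * ((d : G) * (e : G))⁻¹)
        = a⁻¹ * (d : G) * a * ((a⁻¹ * ((e : G) * a * (e : G)⁻¹)) * (d : G)⁻¹) := by group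
      _ = a⁻¹ * (d : G) * a * ((d : G)⁻¹ * (a⁻¹ * ((e : G) * a * (e : G)⁻¹))) := by rw [hc']
      _ = (a⁻¹ * ((d : G) * a * (d : G)⁻¹)) * (a⁻¹ * ((e : G) * a * (e : G)⁻¹)) := by group)
  have hker : f.ker = (cz a).subgroupOf (dSub G σ) := by
    ext d
    rw [MonoidHom.mem_ker, Subgroup.mem_subgroupOf, mem_cz_iff]
    show a⁻¹ * ((d : G) * a * (d : G)⁻¹) = 1 ↔ (d : G) * a = a * (d : G)
    constructor
    · intro h1
      have h2 : (d : G) * a * (d : G)⁻¹ = a := by
        have h3 : a * (a⁻¹ * ((d : G) * a * (d : G)⁻¹)) = a * 1 := by rw [h1]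
        rwa [mul_inv_cancel_left, mul_one] at h3
      calc (d : G) * a = ((d : G) * a * (d : G)⁻¹) * (d : G) := by group
        _ = a * (d : G) := by rw [h2]
    · intro h1
      rw [h1]; group
  have hrange : f.range ≤ kSub G σ := by
    rintro x ⟨d, rfl⟩
    exact hmemK d
  have h1 : (cz a).relIndex (dSub G σ) ∣ Nat.card (kSub G σ) := by
    rw [Subgroup.relIndex, ← hker, Subgroup.index_ker]
    exact Subgroup.card_dvd_of_le hrange
  have h2 : (cz a).relIndex (dSub G σ) ∣ ci a := relIndex_dvd_index_of_normal_right _ _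
  rw [← Subgroup.relIndex_eq_one]
  exact PiNat.eq_one' h.disj (ha.2.of_dvd h2) (h.piNat_card_kSub.of_dvd h1)

/-- The elements of the small side commute pairwise. -/
theorem Cfg.comm_of_isA (h : Cfg G σ τ) {a a' : G} (ha : IsA σ a) (ha' : IsA σ a') :
    a * a' = a' * a :=
  (mem_cz_iff.mp (h.dSub_le_cz ha (h.mem_dSub ha'))).symm

/-- The small side contains no `σ`-elements. -/
theorem Cfg.not_isPi_of_isA (h : Cfg G σ τ) {a : G} (ha : IsA σ a) : ¬ IsPi σ a := by
  intro hpi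
  apply ha.not_mem_center
  rw [Subgroup.mem_center_iff]
  intro g
  obtain ⟨k, hk⟩ : ∃ k : G, k = a⁻¹ * (g * a * g⁻¹) := ⟨_, rfl⟩
  have hkK : k ∈ kSub G σ := by rw [hk]; exact gen_mem_kSub ha g
  have hcomm : k * a = a * k := mem_cz_iff.mp (h.kSub_le_cz ha hkK)
  have hga : g * a * g⁻¹ = a * k := by rw [hk]; group
  have hpow : k ^ orderOf a = 1 := by
    have h1 : (g * a * g⁻¹) ^ orderOf a = 1 := by
      rw [conj_pow, pow_orderOf_eq_one]; group
    rw [hga, (Commute.mul_pow (show Commute a k from hcomm.symm)), pow_orderOf_eq_one,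
      one_mul] at h1
    exact h1
  have hdvd : orderOf k ∣ orderOf a := orderOf_dvd_of_pow_eq_one hpow
  have h1 : orderOf k = 1 :=
    PiNat.eq_one' h.disj (fun p hp hd => hpi p hp (hd.trans hdvd)) (h.piNat_orderOf hkK)
  have hk1 : k = 1 := orderOf_eq_one_iff.mp h1
  rw [hk1, mul_one] at hga
  calc g * a = (g * a * g⁻¹) * g := by group
    _ = a * g := by rw [hga]

theorem Cfg.sigma_part_central (h : Cfg G σ τ) {a x : G} (ha : IsA σ a) (hx : x ∈ zpowers a)
    (hpi : IsPi σ x) : x ∈ center G := by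
  by_contra hc
  have h1 : ci x ∣ ci a := ci_dvd_of_mem_zpowers hx
  have h2 : IsA σ x := ⟨fun h1' => hc ((ci_eq_one_iff x).mp h1'), ha.2.of_dvd h1⟩
  exact h.not_isPi_of_isA h2 hpi

/-- A noncentral `σ`-element of the big side commutes with no element of the small side. -/
theorem Cfg.not_comm_pi (h : Cfg G σ τ) {a u : G} (ha : IsA σ a) (hu : IsA τ u) (hpi : IsPi σ u)
    (hcomm : a * u = u * a) : False := by
  obtain ⟨x, y, hx, hy, hxy, hxpi, hypi⟩ := exists_pi_decomp σ a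
  have hxc : x ∈ center G := h.sigma_part_central ha hx hxpi
  have hxk : ∀ k : G, k * x = x * k := Subgroup.mem_center_iff.mp hxc
  have h1 : cz a ≤ cz y := cz_le_of_mem_zpowers hy
  have h2 : cz y ≤ cz a := by
    intro k hk
    rw [mem_cz_iff] at hk ⊢
    calc k * a = k * (x * y) := by rw [← hxy]
      _ = (k * x) * y := by rw [mul_assoc]
      _ = (x * k) * y := by rw [hxk k]
      _ = x * (k * y) := by rw [mul_assoc]
      _ = x * (y * k) := by rw [hk]
      _ = (x * y) * k := by rw [mul_assoc]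
      _ = a * k := by rw [← hxy]
  have hci : ci y = ci a := by unfold ci; rw [le_antisymm h2 h1]
  have hyu : Commute u y := by
    have h3 : u ∈ cz y := h1 (mem_cz_iff.mpr hcomm.symm)
    exact mem_cz_iff.mp h3
  obtain ⟨m1, m2⟩ := mem_zpowers_mul_of_isPi hpi hypi hyu
  have d1 : ci u ∣ ci (u * y) := ci_dvd_of_mem_zpowers m1
  have d2 : ci y ∣ ci (u * y) := ci_dvd_of_mem_zpowers m2
  rcases h.dich (u * y) with hh | hh
  · exact hu.1 (PiNat.eq_one' h.disj (hh.of_dvd d1) hu.2)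
  · rw [hci] at d2
    exact ha.1 (PiNat.eq_one' h.disj ha.2 (hh.of_dvd d2))

/-- Every class on the small side is smaller than every class on the big side. -/
theorem Cfg.ci_lt (h : Cfg G σ τ) {a b : G} (ha : IsA σ a) (hb : IsA τ b) : ci a < ci b := by
  by_contra hnlt
  have hlt : ci b < ci a :=
    lt_of_le_of_ne (not_lt.mp hnlt) (ci_ne_of_isA h.disj ha hb).symm
  have ha' : IsA σ (b * a) := isA_mul_of_lt h.disj.symm h.dich.symm hb.2 ha hlt
  apply hb.not_mem_center
  rw [Subgroup.mem_center_iff]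
  intro g
  obtain ⟨k, hk⟩ : ∃ k : G, k = b⁻¹ * (g * b * g⁻¹) := ⟨_, rfl⟩
  obtain ⟨X, hX⟩ : ∃ X : G, X = (b * a)⁻¹ * (g * (b * a) * g⁻¹) := ⟨_, rfl⟩
  have hXK : X ∈ kSub G σ := by rw [hX]; exact gen_mem_kSub ha' g
  have hXa : X * a = a * X := mem_cz_iff.mp (h.kSub_le_cz ha hXK)
  have hkK : k ∈ kSub G σ := by
    have e : k = X * (a⁻¹⁻¹ * (g * a⁻¹ * g⁻¹)) := by
      calc k = a * X * (g * a⁻¹ * g⁻¹) := by rw [hk, hX]; group
        _ = X * a * (g * a⁻¹ * g⁻¹) := by rw [hXa]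
        _ = X * (a⁻¹⁻¹ * (g * a⁻¹ * g⁻¹)) := by group
    rw [e]
    exact mul_mem hXK (gen_mem_kSub ha.inv g)
  have hkP : k ∈ presSubgroup a := by
    rw [hk]
    exact gen_mem_presSubgroup h.disj.symm h.dich.symm hb.2 ha hlt g
  have h1 : PiNat σ (orderOf k) := fun r hr hd =>
    ha.2 r hr (prime_dvd_ci_of_mem_pres hkP hr hd)
  have h2 : orderOf k = 1 := PiNat.eq_one' h.disj h1 (h.piNat_orderOf hkK)
  have hk1 : k = 1 := orderOf_eq_one_iff.mp h2
  have h3 : g * b * g⁻¹ = b := by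
    have h4 : b * k = g * b * g⁻¹ := by rw [hk]; group
    rw [← h4, hk1, mul_one]
  calc g * b = (g * b * g⁻¹) * g := by group
    _ = b * g := by rw [h3]

/-- `N`: the elements whose class size is a `σ`-number. -/
def Cfg.nSub (h : Cfg G σ τ) : Subgroup G where
  carrier := {g | PiNat σ (ci g)}
  one_mem' := by
    show PiNat σ (ci (1 : G))
    rw [ci_one]; exact piNat_one σ
  inv_mem' := by
    intro x hx
    show PiNat σ (ci x⁻¹)
    rw [ci_inv]; exact hx
  mul_mem' := by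
    intro x y hx hy
    show PiNat σ (ci (x * y))
    by_contra hxy
    have hb : IsA τ (x * y) := isA_of_not_piNat h.dich hxy
    by_cases hx1 : ci x = 1
    · have hxc := (ci_eq_one_iff x).mp hx1
      rw [ci_central_mul hxc y] at hxy
      exact hxy hy
    · have hxA : IsA σ x := ⟨hx1, hx⟩
      have hlt := h.ci_lt hxA.inv hb
      have h3 : IsA τ (x⁻¹ * (x * y)) := isA_mul_of_lt h.disj h.dich hxA.inv.2 hb hlt
      rw [inv_mul_cancel_left] at h3
      exact h3.1 (PiNat.eq_one' h.disj hy h3.2)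

theorem Cfg.mem_nSub (h : Cfg G σ τ) {g : G} : g ∈ h.nSub ↔ PiNat σ (ci g) := Iff.rfl

instance Cfg.nSub_normal (h : Cfg G σ τ) : h.nSub.Normal :=
  ⟨fun n hn g => by
    show PiNat σ (ci (g * n * g⁻¹))
    rw [ci_conj]; exact hn⟩

theorem Cfg.isA_of_not_mem (h : Cfg G σ τ) {g : G} (hg : g ∉ h.nSub) : IsA τ g :=
  isA_of_not_piNat h.dich hg

theorem Cfg.center_le_nSub (h : Cfg G σ τ) : center G ≤ h.nSub := by
  intro z hz
  show PiNat σ (ci z)
  rw [(ci_eq_one_iff z).mpr hz]; exact piNat_one σ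

theorem Cfg.mem_nSub_of_isA (h : Cfg G σ τ) {a : G} (ha : IsA σ a) : a ∈ h.nSub := ha.2

theorem Cfg.not_mem_nSub_of_isA (h : Cfg G σ τ) {b : G} (hb : IsA τ b) : b ∉ h.nSub :=
  fun hm => hb.1 (PiNat.eq_one' h.disj hm hb.2)

theorem Cfg.mem_center_or_isA (h : Cfg G σ τ) {n : G} (hn : n ∈ h.nSub) :
    n ∈ center G ∨ IsA σ n := by
  by_cases h1 : ci n = 1
  · exact Or.inl ((ci_eq_one_iff n).mp h1)
  · exact Or.inr ⟨h1, hn⟩

theorem Cfg.nSub_comm (h : Cfg G σ τ) {x y : G} (hx : x ∈ h.nSub) (hy : y ∈ h.nSub) :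
    x * y = y * x := by
  rcases h.mem_center_or_isA hx with hx | hx
  · exact (Subgroup.mem_center_iff.mp hx y).symm
  · rcases h.mem_center_or_isA hy with hy | hy
    · exact Subgroup.mem_center_iff.mp hy x
    · exact h.comm_of_isA hx hy

theorem Cfg.kSub_le_nSub (h : Cfg G σ τ) : kSub G σ ≤ h.nSub := by
  unfold kSub
  rw [closure_le]
  rintro x ⟨a, g, ha, rfl⟩
  exact mul_mem (inv_mem (h.mem_nSub_of_isA ha)) (h.mem_nSub_of_isA (ha.conj g))

/-- products `a * b` with `a` small and `b` big are big -/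
theorem Cfg.isA_mul (h : Cfg G σ τ) {n b : G} (hn : n ∈ h.nSub) (hb : IsA τ b) : IsA τ (n * b) := by
  refine isA_mul_of_lt h.disj h.dich hn hb ?_
  rcases h.mem_center_or_isA hn with hc | ha
  · rw [(ci_eq_one_iff n).mpr hc]
    have := ci_pos b
    have := hb.1
    omega
  · exact h.ci_lt ha hb

end finite

end Cfsg.Agent.Helper69.Bhm
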