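import Mathlib

/-!
# (A10) for S0997 (Brauer–Tuan), helper16 skeleton: `exists_a_type`
-/

namespace Cfsg.Agent.Helper69.BT97

theorem exists_a_type {ι : Type*} (S : Finset ι) (sd : ι → ℤ) (β : ℤ) (hβ : 2 < |β - 2|)
    (hsum : 2 * (1 + ∑ i ∈ S, sd i) = β - 2)
    (htype : ∀ i ∈ S, ∃ j : ℕ, sd i = β ^ j ∨ sd i = β ^ j * (2 - β)) :
    ∃ i ∈ S, ∃ j : ℕ, sd i = β ^ j := by
  classical
  by_contra hne
  push Not at hne
  have h1 : ∀ i ∈ S, ∃ j : ℕ, sd i = β ^ j * (2 - β) := by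
    intro i hi
    obtain ⟨j, hj | hj⟩ := htype i hi
    · exact absurd hj (hne i hi j)
    · exact ⟨j, hj⟩
  choose! j hj using h1
  have h2 : ∑ i ∈ S, sd i = (2 - β) * ∑ i ∈ S, β ^ (j i) := by
    rw [Finset.mul_sum]
    apply Finset.sum_congr rfl
    intro i hi
    rw [hj i hi]; ring
  rw [h2] at hsum
  obtain ⟨W, hW⟩ : ∃ W : ℤ, W = ∑ i ∈ S, β ^ (j i) := ⟨_, rfl⟩
  rw [← hW] at hsum
  have h3 : (β - 2) * (1 + 2 * W) = 2 := by linear_combination (-1 : ℤ) * hsum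
  have h4 : (β - 2) ∣ 2 := ⟨_, h3.symm⟩
  have h5 : |β - 2| ≤ 2 := Int.le_of_dvd (by norm_num) ((abs_dvd _ _).mpr h4)
  omega

end Cfsg.Agent.Helper69.BT97
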