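import Mathlib

/-!
# (A11) for S0997 (Brauer–Tuan), helper16 skeleton: `arith_II`
-/

namespace Cfsg.Agent.Helper69.BT97

theorem arith_II (m b k : ℕ) (w : ℤ) (hm : 2 ≤ m) (hk : k ≤ 2 ^ (m - 1))
    (h : (2 : ℤ) ^ m + 2 * (k : ℤ) * ((2 : ℤ) ^ m - 1) = (2 : ℤ) ^ b * w) : b ≤ 2 * m := by
  by_contra hb
  push Not at hb
  obtain ⟨d, rfl⟩ : ∃ d, b = 2 * m + 1 + d := ⟨b - (2 * m + 1), by omega⟩
  obtain ⟨n, rfl⟩ : ∃ n, m = n + 1 := ⟨m - 1, by omega⟩
  obtain ⟨M, hM⟩ : ∃ M : ℤ, M = (2 : ℤ) ^ n := ⟨_, rfl⟩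
  have hMpos : 0 < M := by rw [hM]; positivity
  have hkM : (k : ℤ) ≤ M := by
    rw [hM]
    have : n + 1 - 1 = n := by omega
    rw [this] at hk
    exact_mod_cast hk
  have hk0 : (0 : ℤ) ≤ k := Int.natCast_nonneg k
  have e1 : (2 : ℤ) ^ (n + 1) = 2 * M := by rw [hM, pow_succ]; ring
  have e2 : (2 : ℤ) ^ (2 * (n + 1) + 1 + d) = 8 * M ^ 2 * 2 ^ d := by
    rw [hM]; ring
  rw [e1, e2] at h
  obtain ⟨t, ht⟩ : ∃ t : ℤ, t = 2 ^ d * w := ⟨_, rfl⟩
  have h1 : M + k * (2 * M - 1) = 4 * M ^ 2 * t := by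
    rw [ht]
    have h7 : (2 : ℤ) * (M + k * (2 * M - 1)) = 2 * (4 * M ^ 2 * (2 ^ d * w)) := by
      linear_combination h
    exact mul_left_cancel₀ (two_ne_zero) h7
  -- `M - k = 2 M s`
  obtain ⟨s, hs⟩ : ∃ s : ℤ, s = 2 * M * t - k := ⟨_, rfl⟩
  have h2 : M - k = 2 * M * s := by rw [hs]; linear_combination h1
  have hs0 : s = 0 := by
    rcases lt_trichotomy s 0 with h3 | h3 | h3
    · exfalso
      have : 2 * M * s ≤ 2 * M * (-1) := by
        apply mul_le_mul_of_nonneg_left _ (by linarith)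
        omega
      linarith
    · exact h3
    · exfalso
      have : 2 * M * 1 ≤ 2 * M * s := by
        apply mul_le_mul_of_nonneg_left _ (by linarith)
        omega
      linarith
  rw [hs0] at h2
  have hkM' : (k : ℤ) = M := by linarith
  rw [hkM'] at h1
  have h4 : M ^ 2 * (2 - 4 * t) = 0 := by linear_combination h1
  rcases mul_eq_zero.mp h4 with h5 | h5
  · have : M = 0 := by simpa using h5
    omega
  · omega

end Cfsg.Agent.Helper69.BT97
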