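import Mathlib

/-!
# (A12) for S0997 (Brauer–Tuan), helper16 skeleton: `k_eq_two`
-/

namespace Cfsg.Agent.Helper69.BT97

theorem k_eq_two (a b k : ℕ) (e' f A c w : ℤ) (he' : ¬ (2 : ℤ) ∣ e') (hf : ¬ (2 : ℤ) ∣ f)
    (hA : ¬ (2 : ℤ) ∣ A) (hc : c = 1 ∨ c = -1) (hb : a + 2 ≤ b) (hk : k ≤ 2)
    (h : 2 * ((2 : ℤ) ^ a * e') * A + c * ((2 : ℤ) ^ a * e') * (f * (k : ℤ)) = (2 : ℤ) ^ b * w) :
    k = 2 := by
  obtain ⟨d, rfl⟩ : ∃ d, b = a + 2 + d := ⟨b - (a + 2), by omega⟩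
  have h2 : Prime (2 : ℤ) := Int.prime_two
  have hpos : (2 : ℤ) ^ a ≠ 0 := by positivity
  have key : e' * (2 * A + c * f * k) = 4 * (2 ^ d * w) := by
    apply mul_left_cancel₀ hpos
    rw [pow_add, pow_add] at h
    linear_combination h
  interval_cases k
  · exfalso
    have h3 : e' * A = 2 * (2 ^ d * w) := by
      push_cast at key
      have h7 : (2 : ℤ) * (e' * A) = 2 * (2 * (2 ^ d * w)) := by linear_combination key
      exact mul_left_cancel₀ (two_ne_zero) h7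
    have hd : (2 : ℤ) ∣ e' * A := ⟨_, h3⟩
    rcases h2.dvd_or_dvd hd with h' | h'
    exacts [he' h', hA h']
  · exfalso
    have hd : (2 : ℤ) ∣ e' * (2 * A + c * f * ((1 : ℕ) : ℤ)) :=
      ⟨2 * (2 ^ d * w), by rw [key]; ring⟩
    rcases h2.dvd_or_dvd hd with h' | h'
    · exact he' h'
    · have h4 : (2 : ℤ) ∣ c * f := by
        have h5 : (2 : ℤ) ∣ 2 * A := Dvd.intro _ rfl
        have h6 := (Int.dvd_add_right h5).mp h'
        simpa using h6
      rcases hc with rfl | rfl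
      · exact hf (by simpa using h4)
      · exact hf (by simpa using h4)
  · rfl

end Cfsg.Agent.Helper69.BT97
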