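import Cfsg.Agent.Helper18.E8Odd.Defs

/-!
# S4281 (helper18 / helper36), PART I farm #14274, piece (NCS): `negCount_cons_lt`

Splitting off a negated fundamental root lowers `negCount`.
-/

set_option autoImplicit false
set_option maxRecDepth 100000

namespace Cfsg.Agent.Helper69.E8Inv

open Cfsg Cfsg.Lie Cfsg.Agent.Helper18 Cfsg.Agent.Helper18.E8Odd Cfsg.Agent.Helper36.E8Odd Cfsg.Agent.Helper40.SL2Hom

/-- `cf_aW` restated with helper36's abbreviation `aW` -/
theorem ncs_cf_aW (w : List ℕ) (hw : ∀ i ∈ w, i < 8) (x : ℕ) (hx : x < 240) :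
    aW w x < 240 ∧ cf (aW w x) = Lw w (cf x) := cf_aW w hw x hx

/-- key: if `s` is involutive, negates `α_i`, and `s_i s x = -x`, then `s x = -x`. -/
theorem ncs_key (s : List ℕ) (hs : ∀ i ∈ s, i < 8) (hinv : ∀ x < 240, aW s (aW s x) = x) (i : ℕ) (hi : i < 8)
    (h : aW s (sr i) = 239 - sr i) (x : ℕ) (hx : x < 240) (hx2 : aW (i :: s) x = 239 - x) :
    aW s x = 239 - x := by
  obtain ⟨hsi_lt, _, hsi_cf⟩ := cf_simple ⟨i, hi⟩
  have hSei : Lw s (e ⟨i, hi⟩) = - e ⟨i, hi⟩ := by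
    have h1 := (ncs_cf_aW s hs (sr i) hsi_lt).2
    rw [h, cf_neg _ hsi_lt, hsi_cf] at h1
    exact h1.symm
  obtain ⟨hax, hcfx⟩ := ncs_cf_aW s hs x hx
  have hSS : Lw s (Lw s (cf x)) = cf x := by
    have h2 := (ncs_cf_aW s hs (aW s x) hax).2
    rw [hinv x hx, hcfx] at h2
    exact h2.symm
  have his : ∀ j ∈ i :: s, j < 8 := by
    intro j hj
    rcases List.mem_cons.mp hj with rfl | hj
    · exact hi
    · exact hs j hj
  have h3 := (ncs_cf_aW (i :: s) his x hx).2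
  rw [hx2, cf_neg x hx, Lw_cons, reflN, dif_pos hi, reflL_apply] at h3
  have hSv : Lw s (cf x) = - cf x + B (e ⟨i, hi⟩) (Lw s (cf x)) • e ⟨i, hi⟩ := by
    rw [h3]; abel
  generalize B (e ⟨i, hi⟩) (Lw s (cf x)) = c at hSv
  have h4 : cf x = cf x - (2 * c) • e ⟨i, hi⟩ := by
    conv_lhs => rw [← hSS, hSv]
    rw [map_add, map_neg, map_smul, hSei, hSv]
    module
  have hc0 : c = 0 := by
    have h5 := congrFun h4 ⟨i, hi⟩
    simp only [Pi.sub_apply, Pi.smul_apply, smul_eq_mul, e, Pi.single_eq_same] at h5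
    omega
  have hfin : cf (aW s x) = cf (239 - x) := by
    rw [hcfx, cf_neg x hx, hSv, hc0, zero_smul, add_zero]
  exact cf_inj _ hax _ (by omega) hfin

/-- `s_i s` fixes `α_i` when `s` negates it -/
theorem ncs_fix (s : List ℕ) (hs : ∀ i ∈ s, i < 8) (i : ℕ) (hi : i < 8)
    (h : aW s (sr i) = 239 - sr i) : aW (i :: s) (sr i) ≠ 239 - sr i := by
  obtain ⟨hsi_lt, _, hsi_cf⟩ := cf_simple ⟨i, hi⟩
  have hSei : Lw s (e ⟨i, hi⟩) = - e ⟨i, hi⟩ := by
    have h1 := (ncs_cf_aW s hs (sr i) hsi_lt).2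
    rw [h, cf_neg _ hsi_lt, hsi_cf] at h1
    exact h1.symm
  have his : ∀ j ∈ i :: s, j < 8 := by
    intro j hj
    rcases List.mem_cons.mp hj with rfl | hj
    · exact hi
    · exact hs j hj
  intro hcontra
  have h3 := (ncs_cf_aW (i :: s) his (sr i) hsi_lt).2
  rw [hcontra, cf_neg _ hsi_lt, hsi_cf, Lw_cons, hSei, reflN, dif_pos hi, reflL_apply, map_neg, B_e_e] at h3
  have h5 := congrFun h3 ⟨i, hi⟩
  simp only [Pi.sub_apply, Pi.neg_apply, Pi.smul_apply, smul_eq_mul, e, Pi.single_eq_same] at h5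
  omega

theorem negCount_eq_card (w : List ℕ) :
    negCount w = ((Finset.range 240).filter fun x => aW w x = 239 - x).card := by
  unfold negCount
  rw [← List.toFinset_card_of_nodup (List.nodup_range.filter _), List.toFinset_filter, List.toFinset_range]
  congr 1
  ext x
  simp

theorem negCount_cons_lt (s : List ℕ) (hs : ∀ i ∈ s, i < 8) (hinv : ∀ x < 240, aW s (aW s x) = x) (i : ℕ) (hi : i < 8)
    (h : aW s (sr i) = 239 - sr i) : negCount (i :: s) < negCount s := by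
  rw [negCount_eq_card, negCount_eq_card]
  apply Finset.card_lt_card
  rw [Finset.ssubset_iff_of_subset]
  · refine ⟨sr i, ?_, ?_⟩
    · rw [Finset.mem_filter, Finset.mem_range]
      exact ⟨(cf_simple ⟨i, hi⟩).1, h⟩
    · rw [Finset.mem_filter]
      rintro ⟨_, h2⟩
      exact ncs_fix s hs i hi h h2
  · intro x hx
    rw [Finset.mem_filter, Finset.mem_range] at hx ⊢
    exact ⟨hx.1, ncs_key s hs hinv i hi h x hx.1 hx.2⟩

end Cfsg.Agent.Helper69.E8Inv
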