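import Mathlib
import Cfsg.Prelude.Def_LieExceptional

/-!
# The (B,N)-pair of a standard parabolic subgroup (piece (SB) of board post #4661, for S2314)

For a (B,N)-pair `P` of `G` and `K ⊆ P.S`, the parabolic `P.parabolic K = B ⊔ closure K` carries the
(B,N)-pair `(B, N_K, K)` where `N_K = closure K ⊔ (B ⊓ N)`.
-/

namespace Cfsg.Agent.Helper69.UnipSB

variable {G : Type*} [Group G] (P : Cfsg.BNPair G)

/-- `N_K = ⟨K⟩ (B ∩ N)`. -/
def NK (K : Set G) : Subgroup G := Subgroup.closure K ⊔ (P.B ⊓ P.N)

theorem B_le_parabolic (K : Set G) : P.B ≤ P.parabolic K := le_sup_left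

theorem closure_le_parabolic (K : Set G) : Subgroup.closure K ≤ P.parabolic K := le_sup_right

theorem NK_le_parabolic (K : Set G) : NK P K ≤ P.parabolic K :=
  sup_le (closure_le_parabolic P K) (inf_le_left.trans (B_le_parabolic P K))

theorem NK_le_N (K : Set G) (hK : K ⊆ P.S) : NK P K ≤ P.N :=
  sup_le ((Subgroup.closure_le _).2 (hK.trans P.subset)) inf_le_right

theorem B_inf_NK (K : Set G) (hK : K ⊆ P.S) : P.B ⊓ NK P K = P.B ⊓ P.N :=
  le_antisymm (inf_le_inf_left _ (NK_le_N P K hK)) (le_inf inf_le_left le_sup_right)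

theorem closure_preimage_val (H : Subgroup G) (K : Set G) (hK : K ⊆ (H : Set G)) :
    Subgroup.closure ((Subtype.val : H → G) ⁻¹' K) = (Subgroup.closure K).subgroupOf H := by
  apply Subgroup.map_injective H.subtype_injective
  rw [MonoidHom.map_closure, Subgroup.map_subgroupOf_eq_of_le ((Subgroup.closure_le _).2 hK)]
  congr 1
  ext x
  constructor
  · rintro ⟨y, hy, rfl⟩
    exact hy
  · intro hx
    exact ⟨⟨x, hK hx⟩, hx, rfl⟩

theorem closure_eq_subgroupOf_image (H : Subgroup G) (J : Set H) :
    Subgroup.closure J = (Subgroup.closure ((Subtype.val : H → G) '' J)).subgroupOf H := by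
  apply Subgroup.map_injective H.subtype_injective
  have hle : Subgroup.closure ((Subtype.val : H → G) '' J) ≤ H := by
    rw [Subgroup.closure_le]
    rintro _ ⟨y, _, rfl⟩
    exact y.2
  rw [MonoidHom.map_closure, Subgroup.map_subgroupOf_eq_of_le hle]
  rfl

/-- The (B,N)-pair `(B, N_K, K)` of the standard parabolic `P_K`. -/
def subBN (K : Set G) (hK : K ⊆ P.S) : Cfsg.BNPair ↥(P.parabolic K) where
  B := P.B.subgroupOf (P.parabolic K)
  N := (NK P K).subgroupOf (P.parabolic K)
  S := Subtype.val ⁻¹' K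
  sup_eq_top := by
    rw [← Subgroup.subgroupOf_sup (B_le_parabolic P K) (NK_le_parabolic P K),
      Subgroup.subgroupOf_eq_top]
    exact sup_le_sup_left le_sup_left _
  conj_mem := by
    intro n hn t ht
    rw [Subgroup.mem_subgroupOf] at hn
    rw [Subgroup.mem_inf, Subgroup.mem_subgroupOf, Subgroup.mem_subgroupOf] at ht
    rw [Subgroup.mem_subgroupOf]
    have h1 : (n : G) ∈ P.N := NK_le_N P K hK hn
    have h2 : (t : G) ∈ P.B ⊓ P.N := ⟨ht.1, NK_le_N P K hK ht.2⟩
    simpa using P.conj_mem _ h1 _ h2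
  subset := by
    intro s hs
    change (s : G) ∈ NK P K
    exact (le_sup_left : Subgroup.closure K ≤ NK P K) (Subgroup.subset_closure hs)
  sq_mem := by
    intro s hs
    rw [Subgroup.mem_subgroupOf]
    simpa using P.sq_mem _ (hK hs)
  inj := by
    intro s hs s' hs' h
    rw [Subgroup.mem_subgroupOf] at h
    apply Subtype.ext
    apply P.inj _ (hK hs) _ (hK hs')
    simpa using h
  closure_sup := by
    have hKP : K ⊆ ((P.parabolic K : Subgroup G) : Set G) := fun x hx =>
      closure_le_parabolic P K (Subgroup.subset_closure hx)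
    rw [closure_preimage_val (P.parabolic K) K hKP]
    have h1 : P.B.subgroupOf (P.parabolic K) ⊓ (NK P K).subgroupOf (P.parabolic K) =
        (P.B ⊓ P.N).subgroupOf (P.parabolic K) := by
      rw [← B_inf_NK P K hK]
      ext x
      simp [Subgroup.mem_subgroupOf]
    rw [h1, ← Subgroup.subgroupOf_sup (closure_le_parabolic P K)
      (inf_le_left.trans (B_le_parabolic P K))]
    rfl
  mul_mem_union := by
    intro s hs n hn b hb
    rw [Subgroup.mem_subgroupOf] at hn hb
    have h := P.mul_mem_union (s : G) (hK hs) (n : G) (NK_le_N P K hK hn) (b : G) hb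
    rcases h with h | h
    · left
      obtain ⟨x, hx, y, hy, hxy⟩ := DoubleCoset.mem_doubleCoset.1 h
      refine DoubleCoset.mem_doubleCoset.2
        ⟨⟨x, B_le_parabolic P K hx⟩, ?_, ⟨y, B_le_parabolic P K hy⟩, ?_, ?_⟩
      · exact hx
      · exact hy
      · apply Subtype.ext
        simpa using hxy
    · right
      obtain ⟨x, hx, y, hy, hxy⟩ := DoubleCoset.mem_doubleCoset.1 h
      refine DoubleCoset.mem_doubleCoset.2
        ⟨⟨x, B_le_parabolic P K hx⟩, ?_, ⟨y, B_le_parabolic P K hy⟩, ?_, ?_⟩
      · exact hx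
      · exact hy
      · apply Subtype.ext
        simpa using hxy
  conj_ne := by
    intro s hs heq
    apply P.conj_ne (s : G) (hK hs)
    ext g
    constructor
    · rintro ⟨b, hb, rfl⟩
      have h1 : (fun b : ↥(P.parabolic K) => s * b * s) ⟨b, B_le_parabolic P K hb⟩ ∈
          (fun b : ↥(P.parabolic K) => s * b * s) ''
            ((P.B.subgroupOf (P.parabolic K) : Subgroup ↥(P.parabolic K)) :
              Set ↥(P.parabolic K)) := ⟨_, hb, rfl⟩
      rw [heq] at h1
      exact h1
    · intro hg
      have h1 : (⟨g, B_le_parabolic P K hg⟩ : ↥(P.parabolic K)) ∈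
          ((P.B.subgroupOf (P.parabolic K) : Subgroup ↥(P.parabolic K)) :
              Set ↥(P.parabolic K)) := hg
      rw [← heq] at h1
      obtain ⟨b, hb, hbe⟩ := h1
      refine ⟨(b : G), hb, ?_⟩
      have := congrArg Subtype.val hbe
      simpa using this

theorem subBN_parabolic (K : Set G) (hK : K ⊆ P.S) (J : Set ↥(P.parabolic K)) :
    (subBN P K hK).parabolic J =
      (P.parabolic (Subtype.val '' J)).subgroupOf (P.parabolic K) := by
  have hle : Subgroup.closure ((Subtype.val : ↥(P.parabolic K) → G) '' J) ≤ P.parabolic K := by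
    rw [Subgroup.closure_le]
    rintro _ ⟨y, _, rfl⟩
    exact y.2
  change P.B.subgroupOf (P.parabolic K) ⊔ Subgroup.closure J =
    (P.B ⊔ Subgroup.closure (Subtype.val '' J)).subgroupOf (P.parabolic K)
  rw [Subgroup.subgroupOf_sup (B_le_parabolic P K) hle,
    closure_eq_subgroupOf_image (P.parabolic K) J]

end Cfsg.Agent.Helper69.UnipSB
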