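import Mathlib

/-!
# Piece (K0) of board post #5796 (helper3, S3805): the arithmetic core in the coordinates `X, Y, Z`

`core_XYZ'` deduces the `X, Y, Z` form of the arithmetic core from the `A, B, C` form (K4), which is an
explicit hypothesis `hABC` here: `A = (Y - Z)/3`, `B = (X - Z)/3`, `C = -(X + Y + Z)/3`.
-/

set_option autoImplicit false
open Finset

namespace Cfsg.Agent.Helper69.S3S3K0

variable {ι : Type*} [Fintype ι]

/-- the statement of (K4) `core_ABC`, as a proposition. -/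
def CoreABC (ι : Type*) [Fintype ι] : Prop :=
  ∀ (o : ι) (d : ι → ℕ) (A B C : ι → ℤ) (g : ℕ),
    (∀ i, 0 < d i) → A o = 0 → B o = 0 → C o = -1 →
    ∑ i, A i ^ 2 = 3 → ∑ i, B i ^ 2 = 3 → ∑ i, A i * B i = 1 →
    ∑ i, C i ^ 2 = 5 → ∑ i, A i * C i = -1 → ∑ i, B i * C i = -1 →
    ∑ i, (d i : ℤ) * A i = 0 → ∑ i, (d i : ℤ) * B i = 0 →
    ∑ i, d i ^ 2 = g → 36 ≤ g →
    ∑ i, ((2 * B i - A i - C i) * (2 * A i - B i - C i) * (-(A i + B i + C i)) : ℚ) / d i
      = 324 / g →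
    ∑ i, ((2 * B i - A i - C i) ^ 2 * (2 * A i - B i - C i) : ℚ) / d i = 0 →
    ∑ i, ((2 * B i - A i - C i) * (2 * A i - B i - C i) ^ 2 : ℚ) / d i = 0 →
    ∑ i, ((2 * B i - A i - C i) * (-(A i + B i + C i)) ^ 2 : ℚ) / d i = 162 / g →
    ∑ i, ((2 * B i - A i - C i) ^ 2 * (-(A i + B i + C i)) : ℚ) / d i = 0 →
    ∑ i, ((2 * A i - B i - C i) * (-(A i + B i + C i)) ^ 2 : ℚ) / d i = 162 / g →
    ∑ i, ((2 * A i - B i - C i) ^ 2 * (-(A i + B i + C i)) : ℚ) / d i = 0 →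
    g = 36

/-- (K0) the arithmetic core in the coordinates `X = χ(x), Y = χ(y), Z = χ(xy)`, from (K4). -/
theorem core_XYZ' (hABC : CoreABC ι) (o : ι) (d : ι → ℕ) (X Y Z : ι → ℤ) (g : ℕ)
    (hd : ∀ i, 0 < d i) (hXo : X o = 1) (hYo : Y o = 1) (hZo : Z o = 1)
    (hmX : ∀ i, (3 : ℤ) ∣ (d i : ℤ) - X i) (hmY : ∀ i, (3 : ℤ) ∣ (d i : ℤ) - Y i)
    (hmZ : ∀ i, (3 : ℤ) ∣ (d i : ℤ) - Z i)
    (hXX : ∑ i, X i ^ 2 = 18) (hYY : ∑ i, Y i ^ 2 = 18) (hZZ : ∑ i, Z i ^ 2 = 9)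
    (hXY : ∑ i, X i * Y i = 0) (hXZ : ∑ i, X i * Z i = 0) (hYZ : ∑ i, Y i * Z i = 0)
    (hdX : ∑ i, (d i : ℤ) * X i = 0) (hdY : ∑ i, (d i : ℤ) * Y i = 0)
    (hdZ : ∑ i, (d i : ℤ) * Z i = 0)
    (hdd : ∑ i, d i ^ 2 = g) (h36 : 36 ≤ g)
    (hE1 : ∑ i, (X i * Y i * Z i : ℚ) / d i = 324 / g)
    (hE2 : ∑ i, (X i ^ 2 * Y i : ℚ) / d i = 0)
    (hE3 : ∑ i, (X i * Y i ^ 2 : ℚ) / d i = 0)
    (hE5 : ∑ i, (X i * Z i ^ 2 : ℚ) / d i = 162 / g)
    (hE6 : ∑ i, (X i ^ 2 * Z i : ℚ) / d i = 0)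
    (hE7 : ∑ i, (Y i * Z i ^ 2 : ℚ) / d i = 162 / g)
    (hE8 : ∑ i, (Y i ^ 2 * Z i : ℚ) / d i = 0) :
    g = 36 := by
  choose kx hkx using hmX
  choose ky hky using hmY
  choose kz hkz using hmZ
  -- the new coordinates
  obtain ⟨A, hA⟩ : ∃ A : ι → ℤ, ∀ i, A i = kz i - ky i := ⟨_, fun _ => rfl⟩
  obtain ⟨B, hB⟩ : ∃ B : ι → ℤ, ∀ i, B i = kz i - kx i := ⟨_, fun _ => rfl⟩
  obtain ⟨C, hC⟩ : ∃ C : ι → ℤ, ∀ i, C i = kx i + ky i + kz i - d i := ⟨_, fun _ => rfl⟩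
  have hA3 : ∀ i, 3 * A i = Y i - Z i := fun i => by
    rw [hA i]; linarith [hky i, hkz i]
  have hB3 : ∀ i, 3 * B i = X i - Z i := fun i => by
    rw [hB i]; linarith [hkx i, hkz i]
  have hC3 : ∀ i, 3 * C i = -(X i + Y i + Z i) := fun i => by
    rw [hC i]; linarith [hkx i, hky i, hkz i]
  have hX : ∀ i, X i = 2 * B i - A i - C i := fun i => by
    linarith [hA3 i, hB3 i, hC3 i]
  have hY : ∀ i, Y i = 2 * A i - B i - C i := fun i => by
    linarith [hA3 i, hB3 i, hC3 i]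
  have hZ : ∀ i, Z i = -(A i + B i + C i) := fun i => by
    linarith [hA3 i, hB3 i, hC3 i]
  have hXq : ∀ i, (X i : ℚ) = 2 * B i - A i - C i := fun i => by
    rw [hX i]; push_cast; ring
  have hYq : ∀ i, (Y i : ℚ) = 2 * A i - B i - C i := fun i => by
    rw [hY i]; push_cast; ring
  have hZq : ∀ i, (Z i : ℚ) = -(A i + B i + C i) := fun i => by
    rw [hZ i]; push_cast; ring
  have hAo : A o = 0 := by
    have := hA3 o; rw [hYo, hZo] at this; linarith
  have hBo : B o = 0 := by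
    have := hB3 o; rw [hXo, hZo] at this; linarith
  have hCo : C o = -1 := by
    have := hC3 o; rw [hXo, hYo, hZo] at this; linarith
  -- Gram relations
  have hAA : ∑ i, A i ^ 2 = 3 := by
    have h : (9 : ℤ) * ∑ i, A i ^ 2 = 27 := by
      rw [Finset.mul_sum]
      calc ∑ i, 9 * A i ^ 2 = ∑ i, (Y i ^ 2 + Z i ^ 2 - 2 * (Y i * Z i)) :=
            Finset.sum_congr rfl (fun i _ => by
              rw [show 9 * A i ^ 2 = (3 * A i) ^ 2 by ring, hA3 i]; ring)
        _ = 27 := by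
            rw [Finset.sum_sub_distrib, Finset.sum_add_distrib, ← Finset.mul_sum, hYY, hZZ, hYZ]
            norm_num
    linarith
  have hBB : ∑ i, B i ^ 2 = 3 := by
    have h : (9 : ℤ) * ∑ i, B i ^ 2 = 27 := by
      rw [Finset.mul_sum]
      calc ∑ i, 9 * B i ^ 2 = ∑ i, (X i ^ 2 + Z i ^ 2 - 2 * (X i * Z i)) :=
            Finset.sum_congr rfl (fun i _ => by
              rw [show 9 * B i ^ 2 = (3 * B i) ^ 2 by ring, hB3 i]; ring)
        _ = 27 := by
            rw [Finset.sum_sub_distrib, Finset.sum_add_distrib, ← Finset.mul_sum, hXX, hZZ, hXZ]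
            norm_num
    linarith
  have hAB : ∑ i, A i * B i = 1 := by
    have h : (9 : ℤ) * ∑ i, A i * B i = 9 := by
      rw [Finset.mul_sum]
      calc ∑ i, 9 * (A i * B i) = ∑ i, (X i * Y i + Z i ^ 2 - (Y i * Z i + X i * Z i)) :=
            Finset.sum_congr rfl (fun i _ => by
              rw [show 9 * (A i * B i) = (3 * A i) * (3 * B i) by ring, hA3 i, hB3 i]; ring)
        _ = 9 := by
            rw [Finset.sum_sub_distrib, Finset.sum_add_distrib, Finset.sum_add_distrib, hXY, hZZ,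
              hYZ, hXZ]
            norm_num
    linarith
  have hCC : ∑ i, C i ^ 2 = 5 := by
    have h : (9 : ℤ) * ∑ i, C i ^ 2 = 45 := by
      rw [Finset.mul_sum]
      calc ∑ i, 9 * C i ^ 2 = ∑ i, (X i ^ 2 + Y i ^ 2 + Z i ^ 2 +
              (2 * (X i * Y i) + 2 * (X i * Z i) + 2 * (Y i * Z i))) :=
            Finset.sum_congr rfl (fun i _ => by
              rw [show 9 * C i ^ 2 = (3 * C i) ^ 2 by ring, hC3 i]; ring)
        _ = 45 := by
            rw [Finset.sum_add_distrib, Finset.sum_add_distrib, Finset.sum_add_distrib,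
              Finset.sum_add_distrib, Finset.sum_add_distrib, ← Finset.mul_sum, ← Finset.mul_sum,
              ← Finset.mul_sum, hXX, hYY, hZZ, hXY, hXZ, hYZ]
            norm_num
    linarith
  have hAC : ∑ i, A i * C i = -1 := by
    have h : (9 : ℤ) * ∑ i, A i * C i = -9 := by
      rw [Finset.mul_sum]
      calc ∑ i, 9 * (A i * C i) = ∑ i, (Z i ^ 2 + X i * Z i - (Y i ^ 2 + X i * Y i)) :=
            Finset.sum_congr rfl (fun i _ => by
              rw [show 9 * (A i * C i) = (3 * A i) * (3 * C i) by ring, hA3 i, hC3 i]; ring)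
        _ = -9 := by
            rw [Finset.sum_sub_distrib, Finset.sum_add_distrib, Finset.sum_add_distrib, hZZ, hXZ,
              hYY, hXY]
            norm_num
    linarith
  have hBC : ∑ i, B i * C i = -1 := by
    have h : (9 : ℤ) * ∑ i, B i * C i = -9 := by
      rw [Finset.mul_sum]
      calc ∑ i, 9 * (B i * C i) = ∑ i, (Z i ^ 2 + Y i * Z i - (X i ^ 2 + X i * Y i)) :=
            Finset.sum_congr rfl (fun i _ => by
              rw [show 9 * (B i * C i) = (3 * B i) * (3 * C i) by ring, hB3 i, hC3 i]; ring)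
        _ = -9 := by
            rw [Finset.sum_sub_distrib, Finset.sum_add_distrib, Finset.sum_add_distrib, hZZ, hYZ,
              hXX, hXY]
            norm_num
    linarith
  have hdA : ∑ i, (d i : ℤ) * A i = 0 := by
    have h : (3 : ℤ) * ∑ i, (d i : ℤ) * A i = 0 := by
      rw [Finset.mul_sum]
      calc ∑ i, 3 * ((d i : ℤ) * A i) = ∑ i, ((d i : ℤ) * Y i - (d i : ℤ) * Z i) :=
            Finset.sum_congr rfl (fun i _ => by
              rw [show 3 * ((d i : ℤ) * A i) = (d i : ℤ) * (3 * A i) by ring, hA3 i]; ring)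
        _ = 0 := by rw [Finset.sum_sub_distrib, hdY, hdZ]; norm_num
    linarith
  have hdB : ∑ i, (d i : ℤ) * B i = 0 := by
    have h : (3 : ℤ) * ∑ i, (d i : ℤ) * B i = 0 := by
      rw [Finset.mul_sum]
      calc ∑ i, 3 * ((d i : ℤ) * B i) = ∑ i, ((d i : ℤ) * X i - (d i : ℤ) * Z i) :=
            Finset.sum_congr rfl (fun i _ => by
              rw [show 3 * ((d i : ℤ) * B i) = (d i : ℤ) * (3 * B i) by ring, hB3 i]; ring)
        _ = 0 := by rw [Finset.sum_sub_distrib, hdX, hdZ]; norm_num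
    linarith
  refine hABC o d A B C g hd hAo hBo hCo hAA hBB hAB hCC hAC hBC hdA hdB hdd h36 ?_ ?_ ?_ ?_ ?_ ?_ ?_
  · rw [← hE1]
    exact Finset.sum_congr rfl (fun i _ => by rw [hXq i, hYq i, hZq i])
  · rw [← hE2]
    exact Finset.sum_congr rfl (fun i _ => by rw [hXq i, hYq i])
  · rw [← hE3]
    exact Finset.sum_congr rfl (fun i _ => by rw [hXq i, hYq i])
  · rw [← hE5]
    exact Finset.sum_congr rfl (fun i _ => by rw [hXq i, hZq i])
  · rw [← hE6]
    exact Finset.sum_congr rfl (fun i _ => by rw [hXq i, hZq i])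
  · rw [← hE7]
    exact Finset.sum_congr rfl (fun i _ => by rw [hYq i, hZq i])
  · rw [← hE8]
    exact Finset.sum_congr rfl (fun i _ => by rw [hYq i, hZq i])

end Cfsg.Agent.Helper69.S3S3K0
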