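-- helper69: norm arguments for a group acting on a commutative group (towards S4135).
import Mathlib
import Cfsg.Agent.Helper54.FrobAct

set_option autoImplicit false
set_option linter.unusedVariables false

namespace Cfsg.Agent.Helper69.Nsy

section norm

variable {X A : Type*} [Group X] [Fintype X] [CommGroup A]

/-- The norm of a finite group action on a commutative group. -/
def nrm (ρ : X →* MulAut A) (a : A) : A := ∏ x : X, ρ x a

theorem nrm_mul (ρ : X →* MulAut A) (a b : A) : nrm ρ (a * b) = nrm ρ a * nrm ρ b := by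
  unfold nrm
  rw [← Finset.prod_mul_distrib]
  simp

theorem nrm_one (ρ : X →* MulAut A) : nrm ρ (1 : A) = 1 := by
  unfold nrm
  simp

theorem nrm_inv (ρ : X →* MulAut A) (a : A) : nrm ρ a⁻¹ = (nrm ρ a)⁻¹ := by
  unfold nrm
  rw [← Finset.prod_inv_distrib]
  simp

theorem nrm_smul (ρ : X →* MulAut A) (x : X) (a : A) : nrm ρ (ρ x a) = nrm ρ a := by
  unfold nrm
  have h : ∀ x' : X, ρ x' (ρ x a) = ρ (x' * x) a := fun x' => by rw [map_mul]; rfl
  simp_rw [h]
  exact Fintype.prod_equiv (Equiv.mulRight x) _ _ (fun _ => rfl)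

theorem nrm_of_fixed (ρ : X →* MulAut A) (a : A) (h : ∀ x, ρ x a = a) :
    nrm ρ a = a ^ Fintype.card X := by
  unfold nrm
  simp [h]

/-- The commutator subgroup `[V, X]`. -/
def commSub (ρ : X →* MulAut A) (V : Subgroup A) : Subgroup A :=
  Subgroup.closure {w | ∃ x : X, ∃ v ∈ V, w = ρ x v / v}

theorem nrm_eq_one_of_mem_commSub (ρ : X →* MulAut A) (V : Subgroup A) {w : A}
    (hw : w ∈ commSub ρ V) : nrm ρ w = 1 := by
  induction hw using Subgroup.closure_induction with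
  | mem w hw =>
    obtain ⟨x, v, hv, rfl⟩ := hw
    rw [div_eq_mul_inv, nrm_mul, nrm_inv, nrm_smul, mul_inv_cancel]
  | one => exact nrm_one ρ
  | mul a b _ _ ha hb => rw [nrm_mul, ha, hb, mul_one]
  | inv a _ ha => rw [nrm_inv, ha, inv_one]

theorem pow_card_eq_one_of_mem_commSub (ρ : X →* MulAut A) (V : Subgroup A) {w : A}
    (hw : w ∈ commSub ρ V) (h : ∀ x, ρ x w = w) : w ^ Fintype.card X = 1 := by
  rw [← nrm_of_fixed ρ w h]
  exact nrm_eq_one_of_mem_commSub ρ V hw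

theorem commSub_le (ρ : X →* MulAut A) (V : Subgroup A) (hV : ∀ x : X, ∀ v ∈ V, ρ x v ∈ V) :
    commSub ρ V ≤ V := by
  unfold commSub
  rw [Subgroup.closure_le]
  rintro w ⟨x, v, hv, rfl⟩
  exact V.div_mem (hV x v hv) hv

theorem mem_commSub (ρ : X →* MulAut A) (V : Subgroup A) (x : X) {v : A} (hv : v ∈ V) :
    ρ x v / v ∈ commSub ρ V :=
  Subgroup.subset_closure ⟨x, v, hv, rfl⟩

/-- Invariance of `[V, X]` under an automorphism normalizing the image of `X` and preserving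
`V`. -/
theorem commSub_invariant (ρ : X →* MulAut A) (V : Subgroup A) (α : MulAut A)
    (hα : ∀ x : X, ∃ x' : X, α * ρ x * α⁻¹ = ρ x') (hαV : ∀ v ∈ V, α v ∈ V) {w : A}
    (hw : w ∈ commSub ρ V) : α w ∈ commSub ρ V := by
  induction hw using Subgroup.closure_induction with
  | mem w hw =>
    obtain ⟨x, v, hv, rfl⟩ := hw
    obtain ⟨x', hx'⟩ := hα x
    have e : α (ρ x v / v) = ρ x' (α v) / α v := by
      rw [map_div, ← hx']
      simp
    rw [e]
    exact mem_commSub ρ V x' (hαV v hv)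
  | one => rw [map_one]; exact Subgroup.one_mem _
  | mul a b _ _ ha hb => rw [map_mul]; exact Subgroup.mul_mem _ ha hb
  | inv a _ ha => rw [map_inv]; exact Subgroup.inv_mem _ ha

end norm

section frob

variable {Γ A : Type*} [Group Γ] [CommGroup A]

/-- The Frobenius sum argument of `Helper54.FA.frob_sum` on an invariant subgroup. -/
theorem frob_sum' (φ : Γ →* MulAut A) (K : Subgroup Γ) [Fintype K] (V' : Subgroup A) (b : Γ)
    (n : ℕ) (hn : 0 < n)
    (hKV : ∀ k ∈ K, ∀ v ∈ V', φ k v ∈ V') (hbV : ∀ v ∈ V', φ b v ∈ V')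
    (hnorm : ∀ k ∈ K, b * k * b⁻¹ ∈ K)
    (hfix : ∀ i, 0 < i → i < n → ∀ k ∈ K, b ^ i * k = k * b ^ i → k = 1)
    (hN : ∀ v ∈ V', ∏ i ∈ Finset.range n, φ (b ^ i) v = 1)
    (hK : ∀ v ∈ V', ∏ k : K, φ (k : Γ) v = 1) (v : A) (hv : v ∈ V') :
    v ^ Fintype.card K = 1 := by
  classical
  have hbiV : ∀ i : ℕ, ∀ v ∈ V', φ (b ^ i) v ∈ V' := by
    intro i
    induction i with
    | zero => intro v hv; simpa using hv
    | succ i ih =>
      intro v hv
      rw [pow_succ', map_mul]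
      exact hbV _ (ih v hv)
  have h1 : ∏ x : K, ∏ i ∈ Finset.range n, φ ((x : Γ) * b ^ i * (x : Γ)⁻¹) v = 1 := by
    apply Finset.prod_eq_one
    intro x _
    have h2 : ∀ i, φ ((x : Γ) * b ^ i * (x : Γ)⁻¹) v
        = φ (x : Γ) (φ (b ^ i) (φ (x : Γ)⁻¹ v)) := by
      intro i
      simp [map_mul]
    simp_rw [h2]
    rw [← map_prod, hN _ (hKV _ (K.inv_mem x.2) v hv), map_one]
  rw [Finset.prod_comm] at h1
  rw [Finset.prod_eq_single_of_mem 0 (Finset.mem_range.mpr hn)] at h1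
  · simpa using h1
  · intro i hi hne
    have hin : i < n := Finset.mem_range.mp hi
    have hi0 : 0 < i := Nat.pos_of_ne_zero hne
    have hmem : ∀ x : K, (x : Γ) * b ^ i * (x : Γ)⁻¹ * (b ^ i)⁻¹ ∈ K := by
      intro x
      have h3 := Cfsg.Agent.Helper54.FA.pow_conj_mem hnorm i (x : Γ)⁻¹ (K.inv_mem x.2)
      have e : (x : Γ) * b ^ i * (x : Γ)⁻¹ * (b ^ i)⁻¹ = x * (b ^ i * (x : Γ)⁻¹ * (b ^ i)⁻¹) := by
        group
      rw [e]
      exact K.mul_mem x.2 h3
    let s : K → K := fun x => ⟨(x : Γ) * b ^ i * (x : Γ)⁻¹ * (b ^ i)⁻¹, hmem x⟩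
    have hs : Function.Injective s := by
      intro x x' hxx'
      have e : (x : Γ) * b ^ i * (x : Γ)⁻¹ * (b ^ i)⁻¹ = (x' : Γ) * b ^ i * (x' : Γ)⁻¹ * (b ^ i)⁻¹ :=
        congrArg Subtype.val hxx'
      have e3 : (x : Γ) * b ^ i * (x : Γ)⁻¹ = (x' : Γ) * b ^ i * (x' : Γ)⁻¹ := mul_right_cancel e
      have e2 : b ^ i * ((x' : Γ)⁻¹ * x) = ((x' : Γ)⁻¹ * x) * b ^ i := by
        calc b ^ i * ((x' : Γ)⁻¹ * x)
            = (x' : Γ)⁻¹ * ((x' : Γ) * b ^ i * (x' : Γ)⁻¹) * x := by group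
          _ = (x' : Γ)⁻¹ * ((x : Γ) * b ^ i * (x : Γ)⁻¹) * x := by rw [e3]
          _ = ((x' : Γ)⁻¹ * x) * b ^ i := by group
      have h4 := hfix i hi0 hin ((x' : Γ)⁻¹ * x) (K.mul_mem (K.inv_mem x'.2) x.2) e2
      rw [inv_mul_eq_one] at h4
      exact Subtype.ext h4.symm
    have hsb : Function.Bijective s := hs.bijective_of_finite
    have h5 : ∀ x : K, φ ((x : Γ) * b ^ i * (x : Γ)⁻¹) v = φ ((s x : K) : Γ) (φ (b ^ i) v) := by
      intro x
      show _ = φ ((x : Γ) * b ^ i * (x : Γ)⁻¹ * (b ^ i)⁻¹) (φ (b ^ i) v)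
      rw [← MulAut.mul_apply, ← map_mul]
      congr 2
      group
    simp_rw [h5]
    rw [hsb.prod_comp (fun k : K => φ (k : Γ) (φ (b ^ i) v))]
    exact hK _ (hbiV i v hv)

end frob

end Cfsg.Agent.Helper69.Nsy
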