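-- helper69: a group of automorphisms acting semiregularly outside a fixed subgroup (towards S4135).
import Mathlib
import Cfsg.Agent.Helper69.Nsy1

set_option autoImplicit false
set_option linter.unusedVariables false

namespace Cfsg.Agent.Helper69.Nsy

variable {Γ D : Type*} [Group Γ] [Finite Γ] [CommGroup D] [Finite D]

theorem eq_one_of_pow_eq_one_of_coprime {H : Type*} [Monoid H] {w : H} {n m : ℕ}
    (h1 : w ^ n = 1) (h2 : w ^ m = 1) (h : n.Coprime m) : w = 1 := by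
  have h3 : orderOf w ∣ n := orderOf_dvd_of_pow_eq_one h1
  have h4 : orderOf w ∣ m := orderOf_dvd_of_pow_eq_one h2
  have h5 : orderOf w = 1 := Nat.eq_one_of_dvd_coprimes h h3 h4
  exact orderOf_eq_one_iff.mp h5

/-- A nontrivial `q`-subgroup `Y` normalizes no nontrivial `q'`-subgroup `X`, if the group acts
on a commutative group `D` fixing `Z` pointwise and semiregularly outside `Z`, and `D` has a
`q`-element outside `Z`. -/
theorem no_normalized_compl (φ : Γ →* MulAut D) (Z : Subgroup D)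
    (hfix : ∀ e : Γ, ∀ z ∈ Z, φ e z = z)
    (hfree : ∀ e : Γ, e ≠ 1 → ∀ d, φ e d = d → d ∈ Z)
    {q : ℕ} [hq : Fact q.Prime] (v₀ : D) (hv₀ : v₀ ∉ Z) (hv₀q : ∃ k : ℕ, v₀ ^ (q ^ k) = 1)
    (Y X : Subgroup Γ) (hYq : IsPGroup q Y) (hYne : Y ≠ ⊥)
    (hXq : (Nat.card X).Coprime q) (hnorm : ∀ y ∈ Y, ∀ x ∈ X, y * x * y⁻¹ ∈ X) : X = ⊥ := by
  classical
  by_contra hXne
  haveI : Fintype X := Fintype.ofFinite X
  obtain ⟨V, hVdef⟩ : ∃ V : Subgroup D, V = CommGroup.primaryComponent D q := ⟨_, rfl⟩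
  have hVmem : ∀ v : D, v ∈ V ↔ ∃ k : ℕ, v ^ q ^ k = 1 := by
    intro v; rw [hVdef]; exact CommGroup.mem_primaryComponent
  have hVinv : ∀ e : Γ, ∀ v ∈ V, φ e v ∈ V := by
    intro e v hv
    rw [hVmem] at hv ⊢
    obtain ⟨k, hk⟩ := hv
    exact ⟨k, by rw [← map_pow, hk, map_one]⟩
  have hVq : IsPGroup q V := by rw [hVdef]; exact CommGroup.primaryComponent.isPGroup
  obtain ⟨ρ, hρ⟩ : ∃ ρ : X →* MulAut D, ρ = φ.comp X.subtype := ⟨_, rfl⟩
  have hρapp : ∀ x : X, ρ x = φ (x : Γ) := by intro x; rw [hρ]; rfl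
  obtain ⟨W, hW⟩ : ∃ W : Subgroup D, W = commSub ρ V := ⟨_, rfl⟩
  have hWV : W ≤ V := by
    rw [hW]
    exact commSub_le ρ V (fun x v hv => by rw [hρapp]; exact hVinv x v hv)
  obtain ⟨⟨x₀, hx₀⟩, hx₀1'⟩ := (Subgroup.ne_bot_iff_exists_ne_one).mp hXne
  have hx₀1 : x₀ ≠ 1 := fun h => hx₀1' (Subtype.ext h)
  have hv₀V : v₀ ∈ V := (hVmem v₀).mpr hv₀q
  have hw₀ : φ x₀ v₀ / v₀ ∈ W := by
    rw [hW]
    have := mem_commSub ρ V ⟨x₀, hx₀⟩ hv₀V
    rwa [hρapp] at this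
  have hw₀1 : φ x₀ v₀ / v₀ ≠ 1 := by
    intro h
    apply hv₀
    exact hfree x₀ hx₀1 v₀ (div_eq_one.mp h)
  have hWinv : ∀ y ∈ Y, ∀ w ∈ W, φ y w ∈ W := by
    intro y hy w hw
    rw [hW] at hw ⊢
    refine commSub_invariant ρ V (φ y) ?_ (hVinv y) hw
    intro x
    refine ⟨⟨y * x * y⁻¹, hnorm y hy x x.2⟩, ?_⟩
    rw [hρapp, hρapp]
    simp [map_mul]
  letI : MulAction Y W :=
    { smul := fun y w => ⟨φ (y : Γ) (w : D), hWinv y y.2 w w.2⟩
      one_smul := fun w => by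
        apply Subtype.ext
        show φ ((1 : Y) : Γ) (w : D) = w
        simp
      mul_smul := fun y y' w => by
        apply Subtype.ext
        show φ ((y * y' : Y) : Γ) (w : D) = φ (y : Γ) (φ (y' : Γ) (w : D))
        simp [map_mul] }
  have hsmul : ∀ (y : Y) (w : W), ((y • w : W) : D) = φ (y : Γ) (w : D) := fun y w => rfl
  have hWq : IsPGroup q W := hVq.to_le hWV
  have hWcard : q ∣ Nat.card W := by
    rcases hWq.card_eq_or_dvd with h | h
    · exfalso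
      rw [Subgroup.card_eq_one] at h
      apply hw₀1
      have := hw₀
      rw [h, Subgroup.mem_bot] at this
      exact this
    · exact h
  have h1fix : (1 : W) ∈ MulAction.fixedPoints Y W := by
    intro y
    apply Subtype.ext
    rw [hsmul]
    simp
  obtain ⟨b, hbfix, hb1⟩ :=
    hYq.exists_fixed_point_of_prime_dvd_card_of_fixed_point (α := W) hWcard h1fix
  obtain ⟨y₁, hy₁1⟩ := (Subgroup.ne_bot_iff_exists_ne_one).mp hYne
  have hbZ : (b : D) ∈ Z := by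
    refine hfree (y₁ : Γ) (fun h1 => hy₁1 (Subtype.ext h1)) _ ?_
    have := hbfix y₁
    have h2 := congrArg Subtype.val this
    rwa [hsmul] at h2
  have hbX : ∀ x : X, ρ x (b : D) = b := fun x => by rw [hρapp]; exact hfix _ _ hbZ
  have hbW : (b : D) ∈ commSub ρ V := by rw [← hW]; exact b.2
  have h3 := pow_card_eq_one_of_mem_commSub ρ V hbW hbX
  obtain ⟨k, hk⟩ := (hVmem _).mp (hWV b.2)
  have hcop : (Fintype.card X).Coprime (q ^ k) := by
    rw [← Nat.card_eq_fintype_card]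
    exact Nat.Coprime.pow_right k hXq
  have hb : (b : D) = 1 := eq_one_of_pow_eq_one_of_coprime h3 hk hcop
  exact hb1 (Subtype.ext hb.symm)

end Cfsg.Agent.Helper69.Nsy
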