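-- helper69: an automorphism of prime order normalizing an abelian Sylow subgroup (towards S4135).
import Mathlib
import Cfsg.Agent.Helper69.Nsy2

set_option autoImplicit false
set_option linter.unusedVariables false

namespace Cfsg.Agent.Helper69.Nsy

variable {Γ D : Type*} [Group Γ] [Finite Γ] [CommGroup D] [Finite D]

theorem conj_eq_of_mem_zpowers {b k x : Γ} (hbk : b * k = k * b) (hx : x ∈ Subgroup.zpowers b) :
    x * k * x⁻¹ = k := by
  obtain ⟨j, rfl⟩ := Subgroup.mem_zpowers_iff.mp hx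
  have h : Commute (b ^ j) k := (show Commute b k from hbk).zpow_left j
  rw [h.eq, mul_inv_cancel_right]

open scoped IsMulCommutative in
/-- The commutator group `[P, b]` of an abelian `s`-group `P` with a normalizing element `b` of
prime order `t ≠ s`. -/
theorem exists_comm_group {s t : ℕ} [hs : Fact s.Prime] [ht : Fact t.Prime] (hts : t ≠ s)
    (P : Subgroup Γ) (hPs : IsPGroup s P) (hPab : ∀ u ∈ P, ∀ v ∈ P, u * v = v * u)
    (b : Γ) (hbo : orderOf b = t) (hbN : b ∈ Subgroup.normalizer (P : Set Γ)) :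
    ∃ K : Subgroup Γ, K ≤ P ∧ (∀ k ∈ K, b * k * b⁻¹ ∈ K) ∧
      (∀ p ∈ P, b * p * b⁻¹ * p⁻¹ ∈ K) ∧
      (∀ i, 0 < i → i < t → ∀ k ∈ K, b ^ i * k = k * b ^ i → k = 1) := by
  classical
  haveI : IsMulCommutative P := ⟨⟨fun u v => Subtype.ext (hPab u u.2 v v.2)⟩⟩
  have hzN : Subgroup.zpowers b ≤ Subgroup.normalizer (P : Set Γ) := Subgroup.zpowers_le.mpr hbN
  obtain ⟨ρ, hρ⟩ : ∃ ρ : Subgroup.zpowers b →* MulAut P,
      ρ = (P.normalizerMonoidHom).comp (Subgroup.inclusion hzN) := ⟨_, rfl⟩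
  have hρapp : ∀ (x : Subgroup.zpowers b) (p : P), ((ρ x p : P) : Γ) = x * p * (x : Γ)⁻¹ := by
    intro x p; rw [hρ]; rfl
  haveI : Fintype (Subgroup.zpowers b) := Fintype.ofFinite _
  obtain ⟨K', hK'⟩ : ∃ K' : Subgroup P, K' = commSub ρ ⊤ := ⟨_, rfl⟩
  refine ⟨K'.map P.subtype, Subgroup.map_subtype_le K', ?_, ?_, ?_⟩
  · rintro k ⟨k', hk', rfl⟩
    have h1 : ρ ⟨b, Subgroup.mem_zpowers b⟩ k' ∈ K' := by
      rw [hK'] at hk' ⊢
      refine commSub_invariant ρ ⊤ (ρ ⟨b, Subgroup.mem_zpowers b⟩) ?_ (fun _ _ => Subgroup.mem_top _)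
        hk'
      intro x
      refine ⟨x, ?_⟩
      rw [← map_inv, ← map_mul, ← map_mul]
      congr 1
      apply Subtype.ext
      exact conj_eq_of_mem_zpowers (by
        obtain ⟨x, hx⟩ := x
        obtain ⟨j, rfl⟩ := Subgroup.mem_zpowers_iff.mp hx
        exact ((Commute.refl b).zpow_right j).eq) (Subgroup.mem_zpowers b)
    refine ⟨_, h1, ?_⟩
    rw [Subgroup.coe_subtype, hρapp]
  · intro p hp
    have h1 : ρ ⟨b, Subgroup.mem_zpowers b⟩ ⟨p, hp⟩ / ⟨p, hp⟩ ∈ K' := by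
      rw [hK']
      exact mem_commSub ρ ⊤ _ (Subgroup.mem_top _)
    refine ⟨_, h1, ?_⟩
    rw [Subgroup.coe_subtype, div_eq_mul_inv, Subgroup.coe_mul, hρapp]
    rfl
  · rintro i hi0 hit k ⟨k', hk', rfl⟩ hcomm
    have hcop : Nat.Coprime i (orderOf b) := by
      rw [hbo]
      exact ((Nat.Prime.coprime_iff_not_dvd ht.out).mpr (Nat.not_dvd_of_pos_of_lt hi0 hit)).symm
    obtain ⟨j, hj⟩ := exists_pow_eq_self_of_coprime hcop
    have hbk : b * (k' : Γ) = k' * b := by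
      have h : Commute (b ^ i) (k' : Γ) := hcomm
      have h2 := h.pow_left j
      rw [hj] at h2
      exact h2.eq
    have hfixed : ∀ x : Subgroup.zpowers b, ρ x k' = k' := by
      intro x
      apply Subtype.ext
      rw [hρapp]
      exact conj_eq_of_mem_zpowers hbk x.2
    rw [hK'] at hk'
    have h3 := pow_card_eq_one_of_mem_commSub ρ ⊤ hk' hfixed
    rw [← Nat.card_eq_fintype_card, Nat.card_zpowers, hbo] at h3
    obtain ⟨n, hn⟩ := hPs k'
    have hcop2 : Nat.Coprime t (s ^ n) :=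
      Nat.Coprime.pow_right n ((Nat.coprime_primes ht.out hs.out).mpr hts)
    have := eq_one_of_pow_eq_one_of_coprime h3 hn hcop2
    rw [this]; rfl

theorem prod_range_shift_eq {A : Type*} [CommGroup A] (f : ℕ → A) (t : ℕ) (h : f t = f 0) :
    ∏ i ∈ Finset.range t, f (i + 1) = ∏ i ∈ Finset.range t, f i := by
  have h1 := Finset.prod_range_succ f t
  have h2 := Finset.prod_range_succ' f t
  rw [h1, h] at h2
  exact (mul_right_cancel h2).symm

/-- An element of prime order `t ≠ s` normalizing an abelian `s`-subgroup `P` centralizes it, if the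
group acts on `D` fixing `Z` pointwise, semiregularly outside `Z`, and `D` has an `r`-element outside
`Z`, `r ≠ s`. -/
theorem prime_order_centralizes (φ : Γ →* MulAut D) (Z : Subgroup D)
    (hfix : ∀ e : Γ, ∀ z ∈ Z, φ e z = z)
    (hfree : ∀ e : Γ, e ≠ 1 → ∀ d, φ e d = d → d ∈ Z)
    {r s t : ℕ} [hr : Fact r.Prime] [hs : Fact s.Prime] [ht : Fact t.Prime] (hrs : r ≠ s)
    (hts : t ≠ s) (a : D) (ha : a ∉ Z) (har : ∃ k : ℕ, a ^ (r ^ k) = 1)
    (P : Subgroup Γ) (hPs : IsPGroup s P) (hPab : ∀ u ∈ P, ∀ v ∈ P, u * v = v * u)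
    (b : Γ) (hbo : orderOf b = t) (hbN : b ∈ Subgroup.normalizer (P : Set Γ)) :
    b ∈ Subgroup.centralizer (P : Set Γ) := by
  classical
  by_contra hbC
  have hp₀ : ∃ p₀ ∈ P, b * p₀ * b⁻¹ ≠ p₀ := by
    by_contra hcon
    push Not at hcon
    apply hbC
    rw [Subgroup.mem_centralizer_iff]
    intro h hh
    have h1 := hcon h hh
    calc h * b = (b * h * b⁻¹) * b := by rw [h1]
      _ = b * h := by group
  obtain ⟨p₀, hp₀, hp₀b⟩ := hp₀
  obtain ⟨K, hKP, hKb, hKgen, hKfix⟩ := exists_comm_group hts P hPs hPab b hbo hbN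
  have hb1 : b ≠ 1 := by
    intro h
    rw [h, orderOf_one] at hbo
    exact ht.out.one_lt.ne hbo
  -- `K` is a nontrivial `s`-group
  have hKs : IsPGroup s K := hPs.to_le hKP
  obtain ⟨nK, hnK⟩ := (IsPGroup.iff_card).mp hKs
  haveI : Fintype K := Fintype.ofFinite K
  have hcardK : Fintype.card K = s ^ nK := by rw [← Nat.card_eq_fintype_card]; exact hnK
  obtain ⟨k₁, hk₁, hk₁1⟩ : ∃ k₁ ∈ K, k₁ ≠ 1 :=
    ⟨_, hKgen p₀ hp₀, fun h => hp₀b (by rwa [mul_inv_eq_one] at h)⟩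
  -- the `r`-part of `D`
  obtain ⟨V, hVdef⟩ : ∃ V : Subgroup D, V = CommGroup.primaryComponent D r := ⟨_, rfl⟩
  have hVmem : ∀ v : D, v ∈ V ↔ ∃ k : ℕ, v ^ r ^ k = 1 := by
    intro v; rw [hVdef]; exact CommGroup.mem_primaryComponent
  have hVinv : ∀ e : Γ, ∀ v ∈ V, φ e v ∈ V := by
    intro e v hv
    rw [hVmem] at hv ⊢
    obtain ⟨k, hk⟩ := hv
    exact ⟨k, by rw [← map_pow, hk, map_one]⟩
  have hcopV : ∀ v ∈ V, v ^ Fintype.card K = 1 → v = 1 := by
    intro v hv h1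
    obtain ⟨k, hk⟩ := (hVmem v).mp hv
    rw [hcardK] at h1
    exact eq_one_of_pow_eq_one_of_coprime h1 hk
      (Nat.Coprime.pow _ _ ((Nat.coprime_primes hs.out hr.out).mpr (Ne.symm hrs)))
  obtain ⟨ρ, hρ⟩ : ∃ ρ : K →* MulAut D, ρ = φ.comp K.subtype := ⟨_, rfl⟩
  have hρapp : ∀ x : K, ρ x = φ (x : Γ) := by intro x; rw [hρ]; rfl
  obtain ⟨V', hV'⟩ : ∃ V' : Subgroup D, V' = commSub ρ V := ⟨_, rfl⟩
  have hV'V : V' ≤ V := by
    rw [hV']
    exact commSub_le ρ V (fun x v hv => by rw [hρapp]; exact hVinv x v hv)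
  have hinv : ∀ e : Γ, (∀ k ∈ K, e * k * e⁻¹ ∈ K) → ∀ v ∈ V', φ e v ∈ V' := by
    intro e he v hv
    rw [hV'] at hv ⊢
    refine commSub_invariant ρ V (φ e) ?_ (hVinv e) hv
    intro x
    refine ⟨⟨e * x * e⁻¹, he x x.2⟩, ?_⟩
    rw [hρapp, hρapp]
    simp [map_mul]
  have hKV : ∀ k ∈ K, ∀ v ∈ V', φ k v ∈ V' := by
    intro k hk
    exact hinv k (fun k' hk' => K.mul_mem (K.mul_mem hk hk') (K.inv_mem hk))
  have hbV : ∀ v ∈ V', φ b v ∈ V' := hinv b hKb
  have hbiV : ∀ i : ℕ, ∀ v ∈ V', φ (b ^ i) v ∈ V' := by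
    intro i
    induction i with
    | zero => intro v hv; simpa using hv
    | succ i ih =>
      intro v hv
      rw [pow_succ', map_mul]
      exact hbV _ (ih v hv)
  have hK1 : ∀ v ∈ V', ∏ k : K, φ (k : Γ) v = 1 := by
    intro v hv
    rw [hV'] at hv
    have := nrm_eq_one_of_mem_commSub ρ V hv
    unfold nrm at this
    simp_rw [hρapp] at this
    exact this
  have hZV' : ∀ w ∈ V', w ∈ Z → w = 1 := by
    intro w hw hwZ
    apply hcopV w (hV'V hw)
    rw [hV'] at hw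
    exact pow_card_eq_one_of_mem_commSub ρ V hw (fun x => by rw [hρapp]; exact hfix _ _ hwZ)
  have hN : ∀ v ∈ V', ∏ i ∈ Finset.range t, φ (b ^ i) v = 1 := by
    intro v hv
    apply hZV'
    · exact Subgroup.prod_mem _ (fun i _ => hbiV i v hv)
    · refine hfree b hb1 _ ?_
      rw [map_prod]
      have e : ∀ i, φ b (φ (b ^ i) v) = φ (b ^ (i + 1)) v := by
        intro i
        rw [pow_succ', map_mul]; rfl
      simp_rw [e]
      apply prod_range_shift_eq (fun i => φ (b ^ i) v)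
      show φ (b ^ t) v = φ (b ^ 0) v
      rw [← hbo, pow_orderOf_eq_one, pow_zero]
  have hall : ∀ v ∈ V', v = 1 := by
    intro v hv
    apply hcopV v (hV'V hv)
    exact frob_sum' φ K V' b t ht.out.pos hKV hbV hKb hKfix hN hK1 v hv
  apply ha
  have haV : a ∈ V := (hVmem a).mpr har
  have h1 : φ k₁ a / a ∈ V' := by
    rw [hV']
    have := mem_commSub ρ V ⟨k₁, hk₁⟩ haV
    rwa [hρapp] at this
  exact hfree k₁ hk₁1 a (div_eq_one.mp (hall _ h1))

end Cfsg.Agent.Helper69.Nsy
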