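import Cfsg.Agent.Helper80.Tor.Defs

/-!
# S2372/S2375 torus farm (helper80 #13336), piece (CYC) `isCyclic_of_card_torsion_le` (helper69)
-/

set_option autoImplicit false

namespace Cfsg.Agent.Helper69.Tor

open Cfsg.Agent.Helper18 (zact)
open Polynomial

/-- auxiliary: in a finite abelian group, `#A[a*b] ≤ #A[a] * #A[b]`. -/
theorem cyc_aux_card_torsion_mul_le {A : Type*} [CommGroup A] [Finite A] (a b : ℕ) :
    Nat.card {x : A // x ^ (a * b) = 1} ≤
      Nat.card {x : A // x ^ a = 1} * Nat.card {x : A // x ^ b = 1} := by
  classical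
  -- the map `x ↦ (x^a, x)`?  we use `x ↦ x ^ a` from `A[ab]` to `A[b]`, fibres are cosets of `A[a]`.
  let T : ℕ → Subgroup A := fun n => (powMonoidHom n : A →* A).ker
  have hT : ∀ n, Nat.card {x : A // x ^ n = 1} = Nat.card (T n) := by
    intro n
    apply Nat.card_congr
    exact Equiv.subtypeEquivRight (fun x => by simp [T, MonoidHom.mem_ker])
  rw [hT, hT, hT]
  -- f : T (a*b) →* T b
  let f : T (a * b) →* T b :=
    { toFun := fun x => ⟨(x : A) ^ a, by
        have hx := x.2
        simp only [T, MonoidHom.mem_ker, powMonoidHom_apply] at hx ⊢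
        rw [← pow_mul]; exact hx⟩
      map_one' := by ext; simp
      map_mul' := by intro x y; ext; simp [mul_pow] }
  -- ker f embeds in T a
  have hker : Nat.card f.ker ≤ Nat.card (T a) := by
    apply Nat.card_le_card_of_injective
      (fun x : f.ker => (⟨((x : T (a * b)) : A), by
        have hx := x.2
        rw [MonoidHom.mem_ker] at hx
        have := congrArg (fun t : T b => (t : A)) hx
        simpa [T, f, MonoidHom.mem_ker] using this⟩ : T a))
    intro x y hxy
    ext
    simpa using congrArg (fun t : T a => (t : A)) hxy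
  have hrange : Nat.card f.range ≤ Nat.card (T b) := Nat.card_le_card_of_injective _ (Subtype.val_injective)
  calc Nat.card (T (a * b)) = Nat.card f.ker * Nat.card f.range := by
        have h1 := Subgroup.card_eq_card_quotient_mul_card_subgroup f.ker
        have h2 := Nat.card_congr (QuotientGroup.quotientKerEquivRange f).toEquiv
        rw [h1, h2]
        exact Nat.mul_comm _ _
    _ ≤ Nat.card (T a) * Nat.card (T b) := Nat.mul_le_mul hker hrange

/-- (CYC) a finite abelian group with at most `ℓ` solutions of `a ^ ℓ = 1` for every prime `ℓ` is cyclic -/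
theorem isCyclic_of_card_torsion_le {A : Type*} [CommGroup A] [Finite A]
    (h : ∀ ℓ : ℕ, ℓ.Prime → Nat.card {a : A // a ^ ℓ = 1} ≤ ℓ) : IsCyclic A := by
  classical
  let _ : Fintype A := Fintype.ofFinite A
  have key : ∀ n : ℕ, 0 < n → Nat.card {x : A // x ^ n = 1} ≤ n := by
    intro n
    induction n using Nat.recOnMul with
    | zero => intro h0; exact absurd h0 (lt_irrefl 0)
    | one =>
      intro _
      have : Nat.card {x : A // x ^ 1 = 1} = 1 := by
        rw [Nat.card_eq_one_iff_unique]
        refine ⟨⟨fun x y => ?_⟩, ⟨⟨1, by simp⟩⟩⟩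
        ext
        have hx := x.2; have hy := y.2
        simp only [pow_one] at hx hy
        rw [hx, hy]
      exact this.le
    | prime p hp => intro _; exact h p hp
    | mul a b iha ihb =>
      intro hab
      have ha : 0 < a := Nat.pos_of_ne_zero (by rintro rfl; simp at hab)
      have hb : 0 < b := Nat.pos_of_ne_zero (by rintro rfl; simp at hab)
      exact (cyc_aux_card_torsion_mul_le a b).trans (Nat.mul_le_mul (iha ha) (ihb hb))
  apply isCyclic_of_card_pow_eq_one_le
  intro n hn
  have := key n hn
  rwa [Nat.card_eq_fintype_card, Fintype.card_subtype] at this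

end Cfsg.Agent.Helper69.Tor
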