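import Cfsg.Agent.Helper25.FSwan.Defs2
import Cfsg.Agent.Helper15.CliffordCorr
import Cfsg.Agent.Helper48.FS_S2a
import Cfsg.Agent.Helper29.FS_S2b

/-!
# S4440 Fong-Swan farm (helper25) #15059, leaf (S2i): a lift of a Brauer character with nonzero `θ`-part lies over `θ`.
Uses the landed leaves (S2a) helper48 and (S2b) helper29.
-/

set_option autoImplicit false
set_option linter.unusedSectionVars false
set_option linter.unusedVariables false

namespace Cfsg.Agent.Helper69.FS

open Cfsg Cfsg.Agent.Helper16 Cfsg.Agent.Helper16.DT Cfsg.Agent.Helper25.FS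

universe u

variable {p : ℕ} [Fact p.Prime] {M : Ideal AlgInt} [M.IsMaximal] {G : Type u} [Group G]

section ST2

variable [Fintype G] (N : Subgroup G) [hN : N.Normal] [Fintype N]

omit [M.IsMaximal] in
/-- (S2i) a lift of a Brauer character with nonzero `θ`-part lies over `θ`: otherwise
`thetaProj ψ' = 0` (S2a), so `thetaProj φ' = pRegularPart p (thetaProj ψ') = 0` (S2b). -/
theorem liesOver_of_lift (hNp : ¬ p ∣ Nat.card N) (T : Subgroup G) [Fintype T] (hNT : N ≤ T)
    (θ : IrrCharacter N) (hinv : ∀ t ∈ T, Helper15.conjFun N t (θ : N → ℂ) = (θ : N → ℂ))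
    (ψ' : IrrCharacter T) {φ' : T → ℂ} (h1 : pRegularPart p (ψ' : T → ℂ) = φ')
    (h2 : thetaProj N T hNT (θ : N → ℂ) φ' = φ') (h3 : φ' ≠ 0) :
    classInner (Helper15.resTo N T hNT (ψ' : T → ℂ)) (θ : N → ℂ) ≠ 0 := by
  intro h0
  have hz := (Cfsg.Agent.Helper48.FS.thetaProj_irr N T hNT θ hinv ψ').2 h0
  apply h3
  rw [← h2, ← h1, Cfsg.Agent.Helper29.FS.thetaProj_pRegularPart N hNp T hNT, hz]
  funext t
  unfold pRegularPart
  simp

end ST2

end Cfsg.Agent.Helper69.FS
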