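import Cfsg.Agent.Helper25.FSwan.Defs2
import Cfsg.Agent.Helper47.DT_JH1
import Cfsg.Agent.Helper55.DT_IBI
import Cfsg.Agent.Helper75.FS_PERM
import Cfsg.Agent.Helper48.FS_BRC
import Cfsg.Agent.Helper76.FS_EXTB

/-!
# S4440 Fong-Swan farm (helper25) #15059, leaf (IRR1): a matrix representation whose Brauer character is an
irreducible Brauer character is irreducible.  Uses the landed leaves (PERM) helper75, (BRC) helper48, (EXTB) helper76.
-/

set_option autoImplicit false
set_option linter.unusedSectionVars false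
set_option linter.unusedVariables false

namespace Cfsg.Agent.Helper69.FS

open Cfsg Cfsg.Agent.Helper16 Cfsg.Agent.Helper16.DT Cfsg.Agent.Helper25.FS

universe u

variable {p : ℕ} [Fact p.Prime] {M : Ideal AlgInt} [M.IsMaximal] {G : Type u} [Group G]

/-- the Brauer character of a representation of degree `0` vanishes -/
theorem IRR1_brauerChar_zero (ρ : G →* Matrix (Fin 0) (Fin 0) (AlgInt ⧸ M)) : brauerChar p M ρ = 0 := by
  funext g
  unfold brauerChar pRegularPart brauerFull bfull
  have h1 : (ρ g).charpoly = 1 := by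
    unfold Matrix.charpoly
    exact Matrix.det_isEmpty
  rw [h1, Polynomial.roots_one]
  simp

/-- members of `IBr` are nonzero -/
theorem IRR1_ne_zero (hpM : (p : AlgInt) ∈ M) [Finite G] {φ : G → ℂ} (hφ : φ ∈ IBr p M G) : φ ≠ 0 := by
  classical
  have := Fintype.ofFinite G
  have h := Cfsg.Agent.Helper55.DT.IBr_linearIndependent (p := p) (M := M) (G := G) hpM
  exact h.ne_zero (⟨φ, hφ⟩ : IBr p M G)

/-- (IRR1) a matrix representation whose Brauer character is irreducible is irreducible. -/
theorem isIrredMat_of_brauerChar_mem_IBr (hpM : (p : AlgInt) ∈ M) [Finite G] {n : ℕ}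
    (ρ : G →* Matrix (Fin n) (Fin n) (AlgInt ⧸ M)) (h : brauerChar p M ρ ∈ IBr p M G) :
    IsIrredMat ρ := by
  have hn : 0 < n := by
    rcases Nat.eq_zero_or_pos n with h0 | h0
    · subst h0
      exact absurd (IRR1_brauerChar_zero ρ) (IRR1_ne_zero hpM h)
    · exact h0
  by_contra hirr
  obtain ⟨a, b, σ, τ, ha, hb, _, hext⟩ := Cfsg.Agent.Helper47.DT.exists_isExtMat_of_not_irred ρ hn hirr
  obtain ⟨l1, hl1, hs1, hne1⟩ := Cfsg.Agent.Helper48.FS.brauerChar_eq_list_sum (p := p) σ
  obtain ⟨l2, hl2, hs2, hne2⟩ := Cfsg.Agent.Helper48.FS.brauerChar_eq_list_sum (p := p) τ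
  have hsum : (l1 ++ l2).sum = brauerChar p M ρ := by
    rw [List.sum_append, ← hs1, ← hs2, Cfsg.Agent.Helper76.FS.brauerChar_of_isExtMat hext]
  have hmem : ∀ ψ ∈ l1 ++ l2, ψ ∈ IBr p M G := by
    intro ψ hψ
    rcases List.mem_append.mp hψ with h' | h'
    · exact hl1 ψ h'
    · exact hl2 ψ h'
  have hsing := Cfsg.Agent.Helper75.FS.eq_singleton_of_sum_eq hpM h (l1 ++ l2) hmem hsum
  have hlen := congrArg List.length hsing
  rw [List.length_append, List.length_singleton] at hlen
  have h1 : 0 < l1.length := List.length_pos_of_ne_nil (hne1 ha)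
  have h2 : 0 < l2.length := List.length_pos_of_ne_nil (hne2 hb)
  omega

end Cfsg.Agent.Helper69.FS
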