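import Mathlib
import Cfsg.Agent.Helper3.E27Defs

/-!
# Piece (A1b) of board post #6444 (helper3, S3701): transport of the structure of `H0` to `N_G(T)`

`exists_hcfg'` takes the statement of (A1a) `H0_struct` as the explicit hypothesis `H0Struct`.
-/

set_option autoImplicit false

namespace Cfsg.Agent.Helper69.E27A1b

open Cfsg.Agent.Helper3.E27

universe u

/-- the statement of (A1a) `H0_struct`. -/
def H0Struct : Prop :=
    (∀ u v : Vec, tau0 (u + v) = tau0 u * tau0 v) ∧ Function.Injective tau0 ∧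
    (∀ v, tau0 v ∈ H0) ∧ s1 ∈ H0 ∧ s2 ∈ H0 ∧ s1 * s1 = 1 ∧ s2 * s2 = 1 ∧ s1 * s2 = s2 * s1 ∧
    (∀ v, s1 * tau0 v * s1⁻¹ = tau0 (sa * v)) ∧ (∀ v, s2 * tau0 v * s2⁻¹ = tau0 (sb * v)) ∧
    (∀ g ∈ H0, ∃ v, g = tau0 v ∨ g = tau0 v * s1 ∨ g = tau0 v * s2 ∨ g = tau0 v * (s1 * s2))

section abstract

variable {Γ : Type*} [Group Γ] (f : Vec → Γ) (hadd : ∀ u v, f (u + v) = f u * f v)

include hadd

theorem f_zero : f 0 = 1 := by
  have h := hadd 0 0
  rw [add_zero] at h
  exact (mul_eq_left.1 h.symm)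

theorem f_neg (v : Vec) : f (-v) = (f v)⁻¹ := by
  rw [eq_inv_iff_mul_eq_one, ← hadd, neg_add_cancel, f_zero f hadd]

theorem f_nsmul (k : ℕ) (v : Vec) : f (k • v) = f v ^ k := by
  induction k with
  | zero => rw [zero_smul, pow_zero, f_zero f hadd]
  | succ k ih => rw [succ_nsmul, hadd, ih, pow_succ]

theorem f_comm (u v : Vec) : f u * f v = f v * f u := by
  rw [← hadd, ← hadd, add_comm]

/-- an element `f v * w` outside the image of `f` (where `w` is an involution acting on the image of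
`f` by `σ ≠ 1`) does not have order dividing 27. -/
theorem pow_ne_one_of_invol (hinj : Function.Injective f) (w : Γ) (hw : w * w = 1) (σ : Vec)
    (hσ : ∀ v, w * f v * w⁻¹ = f (σ * v)) (v0 : Vec) (hv0 : σ * v0 ≠ v0) (v : Vec)
    (h27 : (f v * w) ^ 27 = 1) : False := by
  have hwinv : w⁻¹ = w := inv_eq_of_mul_eq_one_right hw
  have hsq : (f v * w) * (f v * w) = f (v + σ * v) := by
    rw [hadd, ← hσ v, hwinv]
    group
  have h28 : f v * w = ((f v * w) * (f v * w)) ^ 14 := by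
    rw [← pow_two, ← pow_mul]
    calc f v * w = (f v * w) ^ 27 * (f v * w) := by rw [h27, one_mul]
      _ = (f v * w) ^ (2 * 14) := by rw [← pow_succ]
  rw [hsq, ← f_nsmul f hadd] at h28
  -- `w` lies in the image of `f`
  have hwf : w = f (-v + 14 • (v + σ * v)) := by
    rw [hadd, ← h28, f_neg f hadd]
    group
  have h1 := hσ v0
  rw [hwf, ← f_neg f hadd, ← hadd, ← hadd] at h1
  have h2 := hinj h1
  apply hv0
  rw [← h2]
  abel

end abstract

variable {G : Type u} [Group G]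

/-- (A1b) transport of the structure of `H0` to `H = N_G(T)`, from (A1a). -/
theorem exists_hcfg' (hstruct : H0Struct) [Finite G] (H : Subgroup G)
    (hH : Nonempty (↥H ≃* ↥H0))
    (T : Subgroup G) (hTH : T ≤ H) (hT : Nat.card T = 27)
    (hN : Subgroup.normalizer (T : Set G) = H) :
    ∃ (τ : Vec → G) (a b : G), HCfg T τ a b := by
  classical
  obtain ⟨hadd, hinj, hmem, hs1, hs2, hs11, hs22, hs12, hc1, hc2, hall⟩ := hstruct
  obtain ⟨e⟩ := hH
  -- conjugation by `s1 * s2`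
  have hs12sq : (s1 * s2) * (s1 * s2) = 1 := by
    calc (s1 * s2) * (s1 * s2) = s1 * (s2 * s1) * s2 := by group
      _ = s1 * (s1 * s2) * s2 := by rw [hs12]
      _ = (s1 * s1) * (s2 * s2) := by group
      _ = 1 := by rw [hs11, hs22, one_mul]
  have hc12 : ∀ v, (s1 * s2) * tau0 v * (s1 * s2)⁻¹ = tau0 (sa * sb * v) := by
    intro v
    calc (s1 * s2) * tau0 v * (s1 * s2)⁻¹ = s1 * (s2 * tau0 v * s2⁻¹) * s1⁻¹ := by group
      _ = tau0 (sa * sb * v) := by rw [hc2, hc1, mul_assoc]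
  -- the elements of `H0` of order dividing 27 are the `tau0 v`
  have hA : ∀ g ∈ H0, g ^ 27 = 1 → ∃ v, g = tau0 v := by
    intro g hg h27
    obtain ⟨v, h | h | h | h⟩ := hall g hg
    · exact ⟨v, h⟩
    · exfalso
      rw [h] at h27
      exact pow_ne_one_of_invol tau0 hadd hinj s1 hs11 sa hc1 ![1, 0, 0] (by decide) v h27
    · exfalso
      rw [h] at h27
      exact pow_ne_one_of_invol tau0 hadd hinj s2 hs22 sb hc2 ![1, 0, 0] (by decide) v h27
    · exfalso
      rw [h] at h27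
      exact pow_ne_one_of_invol tau0 hadd hinj (s1 * s2) hs12sq (sa * sb) hc12 ![0, 1, 0]
        (by decide) v h27
  -- elements of `T` go to `tau0 v`
  have hTv : ∀ x : G, ∀ hx : x ∈ T, ∃ v, ((e ⟨x, hTH hx⟩ : ↥H0) : Equiv.Perm (Fin 9)) = tau0 v := by
    intro x hx
    apply hA _ (e ⟨x, hTH hx⟩).2
    have h1 : (⟨x, hx⟩ : T) ^ 27 = 1 := by
      rw [← hT]
      exact pow_card_eq_one'
    have h2 : x ^ 27 = 1 := by
      have := congrArg Subtype.val h1
      simpa using this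
    have h3 : (⟨x, hTH hx⟩ : H) ^ 27 = 1 := by
      apply Subtype.ext
      simpa using h2
    have h4 : (e ⟨x, hTH hx⟩) ^ 27 = 1 := by rw [← map_pow, h3, map_one]
    have := congrArg Subtype.val h4
    simpa using this
  -- the coordinate map `T → Vec`
  choose φ hφ using hTv
  have hφinj : Function.Injective (fun x : T => φ x.1 x.2) := by
    intro x x' hxx
    have h1 := hφ x.1 x.2
    have h2 := hφ x'.1 x'.2
    simp only at hxx
    rw [hxx, ← h2] at h1
    have h3 : e ⟨x.1, hTH x.2⟩ = e ⟨x'.1, hTH x'.2⟩ := Subtype.ext h1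
    have h4 := e.injective h3
    apply Subtype.ext
    have h5 : ((⟨x.1, hTH x.2⟩ : H) : G) = ((⟨x'.1, hTH x'.2⟩ : H) : G) := by rw [h4]
    exact h5
  haveI : Fintype T := Fintype.ofFinite T
  have hφbij : Function.Bijective (fun x : T => φ x.1 x.2) := by
    rw [Fintype.bijective_iff_injective_and_card]
    refine ⟨hφinj, ?_⟩
    rw [← Nat.card_eq_fintype_card, hT]
    simp [Vec]
  -- the data
  refine ⟨fun v => ((e.symm ⟨tau0 v, hmem v⟩ : H) : G), ((e.symm ⟨s1, hs1⟩ : H) : G),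
    ((e.symm ⟨s2, hs2⟩ : H) : G), ?_⟩
  have hτT : ∀ v, ((e.symm ⟨tau0 v, hmem v⟩ : H) : G) ∈ T := by
    intro v
    obtain ⟨x, hx⟩ := hφbij.2 v
    simp only at hx
    have h1 := hφ x.1 x.2
    rw [hx] at h1
    have h2 : e ⟨x.1, hTH x.2⟩ = ⟨tau0 v, hmem v⟩ := Subtype.ext h1
    rw [← h2, e.symm_apply_apply]
    exact x.2
  refine
    { τ_add := ?_
      τ_inj := ?_
      τ_mem := hτT
      memT := ?_
      aN := ?_
      bN := ?_
      τ_a := ?_
      τ_b := ?_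
      memN := ?_ }
  · intro u v
    have h1 : (⟨tau0 (u + v), hmem (u + v)⟩ : ↥H0) = ⟨tau0 u, hmem u⟩ * ⟨tau0 v, hmem v⟩ :=
      Subtype.ext (hadd u v)
    rw [h1, map_mul]
    rfl
  · intro u v huv
    have h1 : e.symm ⟨tau0 u, hmem u⟩ = e.symm ⟨tau0 v, hmem v⟩ := Subtype.ext huv
    have h2 := e.symm.injective h1
    exact hinj (congrArg Subtype.val h2)
  · intro t ht
    refine ⟨φ t ht, ?_⟩
    have h1 : e ⟨t, hTH ht⟩ = ⟨tau0 (φ t ht), hmem _⟩ := Subtype.ext (hφ t ht)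
    rw [← h1, e.symm_apply_apply]
  · rw [hN]
    exact (e.symm ⟨s1, hs1⟩).2
  · rw [hN]
    exact (e.symm ⟨s2, hs2⟩).2
  · intro v
    have h1 : (⟨s1, hs1⟩ : ↥H0) * ⟨tau0 v, hmem v⟩ * (⟨s1, hs1⟩ : ↥H0)⁻¹ =
        ⟨tau0 (sa * v), hmem _⟩ := Subtype.ext (hc1 v)
    have h2 := congrArg e.symm h1
    rw [map_mul, map_mul, map_inv] at h2
    have h3 := congrArg Subtype.val h2
    simpa using h3
  · intro v
    have h1 : (⟨s2, hs2⟩ : ↥H0) * ⟨tau0 v, hmem v⟩ * (⟨s2, hs2⟩ : ↥H0)⁻¹ =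
        ⟨tau0 (sb * v), hmem _⟩ := Subtype.ext (hc2 v)
    have h2 := congrArg e.symm h1
    rw [map_mul, map_mul, map_inv] at h2
    have h3 := congrArg Subtype.val h2
    simpa using h3
  · intro n hn
    rw [hN] at hn
    obtain ⟨v, h⟩ := hall _ (e ⟨n, hn⟩).2
    refine ⟨((e.symm ⟨tau0 v, hmem v⟩ : H) : G), hτT v, ?_⟩
    have hn' : (⟨n, hn⟩ : H) = e.symm (e ⟨n, hn⟩) := (e.symm_apply_apply _).symm
    rcases h with h | h | h | h
    · left
      have h1 : e ⟨n, hn⟩ = ⟨tau0 v, hmem v⟩ := Subtype.ext h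
      rw [h1] at hn'
      exact congrArg Subtype.val hn'
    · right; left
      have h1 : e ⟨n, hn⟩ = ⟨tau0 v, hmem v⟩ * ⟨s1, hs1⟩ := Subtype.ext h
      rw [h1, map_mul] at hn'
      exact congrArg Subtype.val hn'
    · right; right; left
      have h1 : e ⟨n, hn⟩ = ⟨tau0 v, hmem v⟩ * ⟨s2, hs2⟩ := Subtype.ext h
      rw [h1, map_mul] at hn'
      exact congrArg Subtype.val hn'
    · right; right; right
      have h1 : e ⟨n, hn⟩ = ⟨tau0 v, hmem v⟩ * (⟨s1, hs1⟩ * ⟨s2, hs2⟩) := Subtype.ext h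
      rw [h1, map_mul, map_mul] at hn'
      exact congrArg Subtype.val hn'

end Cfsg.Agent.Helper69.E27A1b
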