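import Cfsg.Agent.Helper36.E8Odd.Defs2

/-!
# S4281 (helper18 / helper36), farm E8INV-2 #14862, piece (DI): `diag_invol`

The involutions of `H` are the `tor (sv b)`, `0 < b < 256`.  The statement has no `Fintype F`, so the injectivity of the
torus parametrisation (helper84's `torusHom_injective`, stated for finite fields) is re-proved here for every field
(same proof: `torusHom_ker` and `Unimod.mem_of_invOK` need no finiteness).
-/

set_option autoImplicit false
set_option maxRecDepth 100000

namespace Cfsg.Agent.Helper69.E8Inv2

open Cfsg Cfsg.Lie Cfsg.Agent.Helper18 Cfsg.Agent.Helper18.E8Odd Cfsg.Agent.Helper36.E8Odd Cfsg.Agent.Helper36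

/-- helper84's (TINJ) without finiteness of the field -/
theorem DI_torusHom_injective {K : Type*} [Field K] (D : ChevalleyDatum) (B : List (List ℤ))
    (hB : Unimod.invOK D B = true) (hs : ∀ j < D.rank, D.simple j < D.nroots) :
    Function.Injective (torusHom D K) := by
  rw [injective_iff_map_eq_one]
  intro c hc
  have hker : c ∈ (torusChar D K).ker := by
    rw [← torusHom_ker, MonoidHom.mem_ker]
    exact hc
  rw [MonoidHom.mem_ker] at hker
  let c' : ℕ → Kˣ := fun i => if h : i < D.rank then c ⟨i, h⟩ else 1
  have hc' : ∀ i : Fin D.rank, c' i.val = c i := by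
    intro i
    simp only [c', i.2, dif_pos, Fin.eta]
  have hprod : ∀ j < D.rank,
      ((List.range D.rank).map fun i => c' i ^ D.cartan i (D.simple j)).prod
        ∈ (⊥ : Subgroup Kˣ) := by
    intro j hj
    rw [Subgroup.mem_bot, list_range_prod_eq]
    have h1 := congrFun hker (Sum.inr ⟨D.simple j, hs j hj⟩)
    simp only [torusChar, MonoidHom.coe_mk, OneHom.coe_mk, Sum.elim_inr, Pi.one_apply] at h1
    rw [← h1]
    apply Finset.prod_congr rfl
    intro i _
    rw [hc']
  funext k
  have hk := Unimod.mem_of_invOK D B hB (⊥ : Subgroup Kˣ) c' hprod k.val k.2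
  rw [Subgroup.mem_bot, hc'] at hk
  exact hk

section PartII
variable {F : Type*} [Field F]

/-- the parametrisation of `H` is injective (any field) -/
theorem DI_tor_inj (c d : Fin chevE8.rank → Fˣ) (h : tor (F := F) c = tor d) : c = d :=
  DI_torusHom_injective (K := F) chevE8 _ Cfsg.Agent.Helper36.Unimod.invOK_E8 (by decide) h

/-- (DI) the involutions of `H`. -/
theorem diag_invol (k : GL chevE8.Idx F) (hk : k ∈ chevE8.diagonalSubgroup F) (hkk : k * k = 1) (hk1 : k ≠ 1) :
    ∃ b, 0 < b ∧ b < 256 ∧ k = tor (sv b) := by
  classical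
  obtain ⟨c, rfl⟩ := (mem_diagonal_iff k).mp hk
  have hcc : c * c = 1 := by
    apply DI_tor_inj
    rw [← tor_mul, hkk, tor_one]
  have hci : ∀ i, c i = 1 ∨ c i = -1 := by
    intro i
    have h := congrFun hcc i
    have h' : (c i : F) * (c i : F) = 1 := by
      have := congrArg Units.val h
      simpa using this
    have h0 : ((c i : F) - 1) * ((c i : F) + 1) = 0 := by linear_combination h'
    rcases mul_eq_zero.mp h0 with h1 | h1
    · left
      apply Units.ext
      rw [Units.val_one]
      linear_combination h1
    · right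
      apply Units.ext
      rw [Units.val_neg, Units.val_one]
      linear_combination h1
  let f : Fin chevE8.rank → Bool := fun i => decide (c i ≠ 1)
  have hsv : sv (F := F) (Nat.ofBits f) = c := by
    funext i
    unfold sv
    rw [Nat.testBit_ofBits_lt f i.val i.2]
    by_cases h1 : c i = 1
    · simp [f, h1]
    · have h2 : c i = -1 := (hci i).resolve_left h1
      have hf : f ⟨i.val, i.2⟩ = true := by simp [f, h1]
      rw [hf, if_pos rfl, h2]
  refine ⟨Nat.ofBits f, ?_, ?_, ?_⟩
  · rcases Nat.eq_zero_or_pos (Nat.ofBits f) with h0 | hpos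
    · exfalso
      apply hk1
      rw [← hsv, h0]
      have : sv (F := F) 0 = 1 := by
        funext i
        unfold sv
        simp
      rw [this, tor_one]
    · exact hpos
  · have h := Nat.ofBits_lt_two_pow f
    have h8 : (2 : ℕ) ^ chevE8.rank = 256 := by decide
    omega
  · rw [hsv]

end PartII

end Cfsg.Agent.Helper69.E8Inv2
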