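import Mathlib
import Cfsg.Agent.Helper38.VL.Defs
import Cfsg.Agent.Helper47.Frattini
import Cfsg.Agent.Helper63.PGroup
import Cfsg.Agent.Helper63.Frattini

/-!
# S3777 (Vaughan-Lee) farm (helper38 #13454/#13473), leaf (KEY) `exists_R_of_maximal` (helper69)

helper39's lemma.  `K` is a normal subgroup of `G` maximal subject to `M' ≤ K`, `G' ≰ K`; in
`Q = G ⧸ K` the derived group has order `p` and lies in every nontrivial normal subgroup, the image
of `M` is abelian of index `p`, and `R` is the preimage of `Z(Q)`.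
-/

set_option autoImplicit false

namespace Cfsg.Agent.Helper69.VL

open Subgroup
open scoped commutatorElement
open Cfsg.Agent.Helper38.VL

universe u

/-- `⁅a * b, y⁆ = ⁅a, y⁆ * ⁅b, y⁆` when `⁅b, y⁆` is central. -/
theorem key_comm_mul {Q : Type*} [Group Q] (a b y : Q) (hb : ⁅b, y⁆ ∈ center Q) :
    ⁅a * b, y⁆ = ⁅a, y⁆ * ⁅b, y⁆ := by
  have h1 : ⁅a * b, y⁆ = a * ⁅b, y⁆ * a⁻¹ * ⁅a, y⁆ := by
    simp only [commutatorElement_def]; group
  have h2 : a * ⁅b, y⁆ = ⁅b, y⁆ * a := (mem_center_iff.mp hb a)
  rw [h1, h2, mul_assoc ⁅b, y⁆, mul_inv_cancel, mul_one]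
  exact (mem_center_iff.mp hb ⁅a, y⁆).symm

/-- `⁅a ^ n, y⁆ = ⁅a, y⁆ ^ n` when `⁅a, y⁆` is central. -/
theorem key_comm_pow {Q : Type*} [Group Q] (a y : Q) (ha : ⁅a, y⁆ ∈ center Q) (n : ℕ) :
    ⁅a ^ n, y⁆ = ⁅a, y⁆ ^ n := by
  induction n with
  | zero => simp
  | succ n ih => rw [pow_succ, key_comm_mul _ _ _ ha, ih, pow_succ]

/-- an element commuting with `A` and with `y`, where `A ⊔ ⟨y⟩ = ⊤`, is central. -/
theorem key_mem_center_of_sup {Q : Type*} [Group Q] (A : Subgroup Q) (y x : Q)
    (htop : A ⊔ zpowers y = ⊤) (hxA : ∀ a ∈ A, a * x = x * a) (hxy : y * x = x * y) :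
    x ∈ center Q := by
  have hle : A ⊔ zpowers y ≤ centralizer ({x} : Set Q) := by
    refine sup_le ?_ ?_
    · intro a ha
      rw [mem_centralizer_iff]
      intro h hh
      rw [Set.mem_singleton_iff] at hh
      subst hh
      exact (hxA a ha).symm
    · rw [zpowers_le]
      rw [mem_centralizer_iff]
      intro h hh
      rw [Set.mem_singleton_iff] at hh
      subst hh
      exact hxy.symm
  rw [htop] at hle
  rw [mem_center_iff]
  intro g
  have := hle (mem_top g)
  rw [mem_centralizer_iff] at this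
  exact (this x rfl).symm

/-- a subgroup of prime index is a coatom. -/
theorem key_isCoatom_of_index {Q : Type*} [Group Q] [Finite Q] {p : ℕ} [hp : Fact p.Prime]
    (A : Subgroup Q) (hA : A.index = p) : IsCoatom A := by
  refine ⟨?_, ?_⟩
  · intro h
    rw [h, index_top] at hA
    exact hp.out.one_lt.ne hA
  · intro B hB
    have hd : B.index ∣ A.index := index_dvd_of_le hB.le
    rw [hA] at hd
    rcases (Nat.dvd_prime hp.out).mp hd with h1 | h1
    · exact index_eq_one.mp h1
    · exfalso
      have h2 := relIndex_mul_index hB.le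
      rw [h1, hA] at h2
      have h3 : A.relIndex B = 1 := by
        have hp0 : 0 < p := hp.out.pos
        exact Nat.eq_of_mul_eq_mul_right hp0 (by rw [h2, one_mul])
      exact hB.not_ge (relIndex_eq_one.mp h3)

/-- the abstract situation: `Q` a finite `p`-group, `A` abelian of index `p`, `Q' ≠ 1` lies in every
nontrivial normal subgroup. -/
theorem key_abstract {Q : Type*} [Group Q] [Finite Q] {p : ℕ} [hp : Fact p.Prime] (hQ : IsPGroup p Q)
    (A : Subgroup Q) (hAab : ∀ a ∈ A, ∀ b ∈ A, a * b = b * a) (hAidx : A.index = p)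
    (hne : commutator Q ≠ ⊥)
    (hmono : ∀ N : Subgroup Q, N.Normal → N ≠ ⊥ → commutator Q ≤ N) :
    center Q ≤ A ∧ (center Q).index = p ^ 2 ∧ frattini Q ≤ center Q ∧
      ∀ a ∈ A, a ∉ center Q → ∀ y : Q, Commute a y → y ∈ A := by
  have hAco : IsCoatom A := key_isCoatom_of_index A hAidx
  have hsup : ∀ y : Q, y ∉ A → A ⊔ zpowers y = ⊤ := by
    intro y hy
    apply hAco.2
    refine lt_of_le_of_ne le_sup_left ?_
    intro h
    apply hy
    rw [h]
    exact (le_sup_right : zpowers y ≤ A ⊔ zpowers y) (mem_zpowers y)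
  -- Q' ≤ Z(Q)
  have hQ'Z : commutator Q ≤ center Q := by
    have h1 : commutator Q ⊓ center Q ≠ ⊥ :=
      Cfsg.Agent.Helper63.normal_inf_center_ne_bot hQ (commutator Q) hne
    have h2 : (commutator Q ⊓ center Q).Normal := inferInstance
    exact (hmono _ h2 h1).trans inf_le_right
  have hcc : ∀ a y : Q, ⁅a, y⁆ ∈ center Q := fun a y => hQ'Z (by
    rw [commutator_def]; exact commutator_mem_commutator (mem_top a) (mem_top y))
  -- (1) Z ≤ A
  have hZA : center Q ≤ A := by
    intro z hz
    by_contra hzA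
    have htop := hsup z hzA
    apply hne
    have hAZ : A ≤ center Q := fun a ha =>
      key_mem_center_of_sup A z a htop (fun b hb => hAab b hb a ha) (mem_center_iff.mp hz a).symm
    have hctop : center Q = ⊤ := by
      rw [eq_top_iff, ← htop]
      exact sup_le hAZ (by rw [zpowers_le]; exact hz)
    rw [eq_bot_iff, commutator_def, commutator_le]
    intro a _ b _
    rw [mem_bot, commutatorElement_eq_one_iff_mul_comm]
    have ha : a ∈ center Q := by rw [hctop]; exact mem_top a
    exact (mem_center_iff.mp ha b).symm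
  -- (4)
  have h4 : ∀ a ∈ A, a ∉ center Q → ∀ y : Q, Commute a y → y ∈ A := by
    intro a ha haZ y hay
    by_contra hyA
    exact haZ (key_mem_center_of_sup A y a (hsup y hyA) (fun b hb => hAab b hb a ha) hay.eq.symm)
  -- an element of order p generating Q'
  have hQ'p : IsPGroup p (commutator Q) := hQ.to_subgroup _
  have hdvd : p ∣ Nat.card (commutator Q) := by
    rcases hQ'p.card_eq_or_dvd with h | h
    · exact absurd (Subgroup.card_eq_one.mp h) hne
    · exact h
  obtain ⟨z, hz⟩ := exists_prime_orderOf_dvd_card' p hdvd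
  have hzo : orderOf (z : Q) = p := by rw [Subgroup.orderOf_coe, hz]
  have hz1 : (z : Q) ≠ 1 := by
    intro h
    rw [h, orderOf_one] at hzo
    exact hp.out.one_lt.ne hzo
  have hzZ : (z : Q) ∈ center Q := hQ'Z z.2
  have hQ'eq : commutator Q = zpowers (z : Q) := by
    apply le_antisymm
    · apply hmono
      · refine ⟨fun n hn g => ?_⟩
        obtain ⟨k, rfl⟩ := mem_zpowers_iff.mp hn
        have : g * (z : Q) ^ k * g⁻¹ = (z : Q) ^ k := by
          rw [(mem_center_iff.mp (zpow_mem hzZ k) g), mul_assoc, mul_inv_cancel, mul_one]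
        rw [this]
        exact zpow_mem (mem_zpowers _) k
      · intro h
        apply hz1
        have := mem_zpowers (z : Q)
        rw [h, mem_bot] at this
        exact this
    · rw [zpowers_le]; exact z.2
  have hQ'card : Nat.card (commutator Q) = p := by
    rw [hQ'eq, Nat.card_zpowers, hzo]
  have hexp : ∀ c ∈ commutator Q, c ^ p = 1 := by
    intro c hc
    have : (⟨c, hc⟩ : commutator Q) ^ p = 1 := by
      rw [← hQ'card]; exact pow_card_eq_one'
    exact congrArg Subtype.val this
  -- (3)
  have h3 : frattini Q ≤ center Q := by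
    apply Cfsg.Agent.Helper47.frattini_le_of_commutator_pow_mem (p := p)
    · exact hcc
    · intro a
      rw [mem_center_iff]
      intro g
      have h1 : ⁅a ^ p, g⁆ = 1 := by
        rw [key_comm_pow a g (hcc a g) p]
        exact hexp _ (by rw [commutator_def]; exact commutator_mem_commutator (mem_top a) (mem_top g))
      exact (commutatorElement_eq_one_iff_mul_comm.mp h1).symm
  refine ⟨hZA, ?_, h3, h4⟩
  -- (2)
  obtain ⟨y, hy⟩ : ∃ y, y ∉ A := by
    by_contra h
    push Not at h
    exact hAco.1 (eq_top_iff.mpr fun x _ => h x)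
  have htop := hsup y hy
  let f : Q →* Q :=
    { toFun := fun a => ⁅a, y⁆
      map_one' := commutatorElement_one_left y
      map_mul' := fun a b => key_comm_mul a b y (hcc b y) }
  have hfa : ∀ a, f a = ⁅a, y⁆ := fun a => rfl
  have hkerA : f.ker ⊓ A = center Q := by
    ext x
    rw [mem_inf, MonoidHom.mem_ker, hfa, commutatorElement_eq_one_iff_mul_comm]
    constructor
    · rintro ⟨hxy, hxA⟩
      exact key_mem_center_of_sup A y x htop (fun b hb => hAab b hb x hxA) hxy.symm
    · intro hx
      exact ⟨(mem_center_iff.mp hx y).symm, hZA hx⟩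
  have hrel : (center Q).relIndex A = Nat.card (map f A) := by
    rw [← hkerA, inf_relIndex_right, relIndex_ker]
  have hmapQ' : map f A ≤ commutator Q := by
    rintro _ ⟨a, _, rfl⟩
    rw [hfa, commutator_def]
    exact commutator_mem_commutator (mem_top a) (mem_top y)
  have hcard : Nat.card (map f A) = p := by
    have hd : Nat.card (map f A) ∣ p := by
      rw [← hQ'card]; exact card_dvd_of_le hmapQ'
    rcases (Nat.dvd_prime hp.out).mp hd with h1 | h1
    · exfalso
      have hbot : map f A = ⊥ := Subgroup.card_eq_one.mp h1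
      apply hy
      apply hZA
      refine key_mem_center_of_sup A y y htop (fun a ha => ?_) rfl
      have : f a ∈ map f A := mem_map_of_mem f ha
      rw [hbot, mem_bot, hfa, commutatorElement_eq_one_iff_mul_comm] at this
      exact this
    · exact h1
  have := relIndex_mul_index hZA
  rw [hrel, hcard, hAidx] at this
  rw [← this, sq]

/-- (KEY) helper39's lemma: for a maximal subgroup `M` of a critical `p`-group there is
`Φ ≤ R ≤ M`, `|G:R| = p²`, such that elements of `M \ R` commute only with elements of `M`. -/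
theorem exists_R_of_maximal {G : Type*} [Group G] [Finite G] {p : ℕ} [Fact p.Prime]
    (hG : IsPGroup p G) (hcrit : Critical G) (M : Subgroup G) (hM : IsCoatom M) :
    ∃ R : Subgroup G, frattini G ≤ R ∧ R ≤ M ∧ R.index = p ^ 2 ∧
      ∀ x ∈ M, x ∉ R → ∀ y : G, Commute x y → y ∈ M := by
  have hMn : M.Normal := Cfsg.Agent.Helper63.normal_of_isCoatom_of_isPGroup hG M hM
  have hMi : M.index = p := Cfsg.Agent.Helper63.index_of_isCoatom_of_isPGroup hG M hM
  have hM'n : (⁅M, M⁆ : Subgroup G).Normal := inferInstance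
  have hM'ne : (⁅M, M⁆ : Subgroup G) ≠ commutator G := by
    have := hcrit M hM.1
    rwa [map_subtype_commutator] at this
  have hM'le : (⁅M, M⁆ : Subgroup G) ≤ commutator G := by
    rw [_root_.commutator_def]; exact commutator_mono le_top le_top
  -- choose K
  let 𝒮 : Set (Subgroup G) := {N | N.Normal ∧ ⁅M, M⁆ ≤ N ∧ ¬ commutator G ≤ N}
  have hmem : (⁅M, M⁆ : Subgroup G) ∈ 𝒮 :=
    ⟨hM'n, le_rfl, fun h => hM'ne (le_antisymm hM'le h)⟩
  obtain ⟨K, -, hKmax⟩ := (Set.toFinite 𝒮).exists_le_maximal hmem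
  obtain ⟨hKn, hM'K, hG'K⟩ := hKmax.prop
  have hKn' : K.Normal := hKn
  let π : G →* G ⧸ K := QuotientGroup.mk' K
  have hπs : Function.Surjective π := QuotientGroup.mk'_surjective K
  have hπk : π.ker = K := QuotientGroup.ker_mk' K
  have hQ : IsPGroup p (G ⧸ K) := hG.to_quotient K
  -- commutator of the quotient
  have hcomQ : commutator (G ⧸ K) = map π (commutator G) := by
    rw [_root_.commutator_def, _root_.commutator_def, map_commutator, ← MonoidHom.range_eq_map,
      MonoidHom.range_eq_top.mpr hπs]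
  have hneQ : commutator (G ⧸ K) ≠ ⊥ := by
    rw [hcomQ]
    intro h
    rw [(Subgroup.map_eq_bot_iff _), hπk] at h
    exact hG'K h
  let A : Subgroup (G ⧸ K) := map π M
  have hAA : (⁅A, A⁆ : Subgroup (G ⧸ K)) = ⊥ := by
    rw [← map_commutator, (Subgroup.map_eq_bot_iff _), hπk]
    exact hM'K
  have hAab : ∀ a ∈ A, ∀ b ∈ A, a * b = b * a := by
    intro a ha b hb
    have : ⁅a, b⁆ ∈ (⁅A, A⁆ : Subgroup (G ⧸ K)) := commutator_mem_commutator ha hb
    rw [hAA, mem_bot, commutatorElement_eq_one_iff_mul_comm] at this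
    exact this
  -- K ≤ M
  have hKM : K ≤ M := by
    by_contra hKM
    have htop : M ⊔ K = ⊤ := hM.2 _ (lt_of_le_of_ne le_sup_left
      (fun h => hKM (h ▸ le_sup_right)))
    have hAtop : A = ⊤ := by
      have h1 : map π (M ⊔ K) = A := by
        rw [Subgroup.map_sup]
        have : map π K = ⊥ := by rw [(Subgroup.map_eq_bot_iff _), hπk]
        rw [this, sup_bot_eq]
      rw [← h1, htop, ← MonoidHom.range_eq_map, MonoidHom.range_eq_top.mpr hπs]
    apply hneQ
    rw [_root_.commutator_def, ← hAtop]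
    exact hAA
  have hAidx : A.index = p := by
    rw [index_map_eq M hπs (by rw [hπk]; exact hKM)]
    exact hMi
  have hcomapA : comap π A = M := by
    rw [comap_map_eq, hπk, sup_eq_left.mpr hKM]
  -- monolithicity
  have hmono : ∀ N : Subgroup (G ⧸ K), N.Normal → N ≠ ⊥ → commutator (G ⧸ K) ≤ N := by
    intro N hN hNb
    have hcn : (comap π N).Normal := hN.comap π
    have hKle : K ≤ comap π N := by
      have := MonoidHom.ker_le_comap π N
      rwa [hπk] at this
    have hin : commutator G ≤ comap π N := by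
      by_contra hnot
      have hmemS : comap π N ∈ 𝒮 := ⟨hcn, hM'K.trans hKle, hnot⟩
      have hle : comap π N ≤ K := hKmax.le_of_ge hmemS hKle
      apply hNb
      rw [← map_comap_eq_self_of_surjective hπs N, (Subgroup.map_eq_bot_iff _), hπk]
      exact hle
    rw [hcomQ]
    exact map_le_iff_le_comap.mpr hin
  obtain ⟨hZA, hZi, hΦZ, h4⟩ := key_abstract hQ A hAab hAidx hneQ hmono
  refine ⟨comap π (center (G ⧸ K)), ?_, ?_, ?_, ?_⟩
  · exact (frattini_le_comap_frattini_of_surjective hπs).trans (comap_mono hΦZ)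
  · rw [← hcomapA]; exact comap_mono hZA
  · rw [index_comap_of_surjective _ hπs]; exact hZi
  · intro x hxM hxR y hxy
    rw [← hcomapA, mem_comap]
    apply h4 (π x) (mem_map_of_mem π hxM) (fun h => hxR (mem_comap.mpr h)) (π y)
    exact hxy.map π

end Cfsg.Agent.Helper69.VL
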