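import Mathlib
import Cfsg.Agent.Helper9.SpGen.Root
import Cfsg.Agent.Helper9.SpGen.Pos
import Cfsg.Agent.Helper19.SpBN.Basic

/-!
# (C1) for S2411 (helper9 skeleton): `conj_long_char_two`

The identity holds in every characteristic: `X q p 1` commutes with the long root element
`X q (bar q) 1`, and conjugation by `X p q 1 = X (bar q) (bar p) u₀` is computed with `r6`.
-/

set_option autoImplicit false

namespace Cfsg.Agent.Helper69.SpGen

open Matrix Cfsg.Agent.Helper96.StN Cfsg.Agent.Helper96.StC Cfsg.Agent.Helper29.StCM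
  Cfsg.Agent.Helper19.SpBN Cfsg.Agent.Helper9.SpGen

universe u v w

variable {K : Type u} [Field K] {D : Type v} [Group D] {ι : Type w}
  {X : ι ⊕ ι → ι ⊕ ι → K → D} {G1 : Subgroup D}

/-- the characteristic-free core -/
theorem conj_long_aux (hX : SpRel X) {p q : ι ⊕ ι} (hpq : p ≠ q) (hq : q ≠ bar p) :
    ∃ t1 t2 t3 : K, t1 ≠ 0 ∧
      (X p q 1 * X q p 1) * X q (bar q) 1 * (X p q 1 * X q p 1)⁻¹ =
        X p (bar q) t1 * X q (bar q) t2 * X p (bar p) t3 := by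
  have hbq : bar q ≠ q := bar_ne q
  have hbp : bar p ≠ p := bar_ne p
  have hpbq : p ≠ bar q := by
    intro h
    apply hq
    rw [h, bar_bar]
  have hbpbq : bar p ≠ bar q := fun h => hpq (bar_injective h)
  -- `X q p 1` commutes with the long root element at `q`
  have hbL : X q p 1 * X q (bar q) 1 = X q (bar q) 1 * X q p 1 :=
    hX.comm q p q (bar q) hpq.symm hbq.symm hpq (by rw [bar_bar]; exact hpq) hbq.symm hbq.symm 1 1
  obtain ⟨u0, hu0⟩ : ∃ u0 : K, u0 = -(eps K p q * 1) := ⟨_, rfl⟩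
  have hu0ne : u0 ≠ 0 := by
    rw [hu0]
    exact neg_ne_zero.mpr (mul_ne_zero (Cfsg.Agent.Helper96.StC.eps_ne_zero p q) one_ne_zero)
  have ha : X p q 1 = X (bar q) (bar p) u0 := by
    rw [hu0]
    exact hX.sym p q hpq hq 1
  have h6 := hX.r6 q (bar p) hq (by rw [bar_bar]; exact hpq.symm) 1 u0
  rw [bar_bar, ← ha] at h6
  obtain ⟨a, haa⟩ : ∃ a : D, a = X p q 1 := ⟨_, rfl⟩
  obtain ⟨b, hbb⟩ : ∃ b : D, b = X q p 1 := ⟨_, rfl⟩
  obtain ⟨L, hL⟩ : ∃ L : D, L = X q (bar q) 1 := ⟨_, rfl⟩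
  obtain ⟨M, hMM⟩ : ∃ M : D, M = X q (bar p) (1 * u0) := ⟨_, rfl⟩
  obtain ⟨N, hN⟩ : ∃ N : D, N = X p (bar p) (eps K q (bar p) * 1 * u0 ^ 2) := ⟨_, rfl⟩
  rw [← haa, ← hL, ← hMM, ← hN] at h6
  rw [← hbb, ← hL] at hbL
  rw [← haa, ← hbb, ← hL]
  have h7 : a * L * a⁻¹ = N⁻¹ * M⁻¹ * L := by
    have h71 : a * L⁻¹ * a⁻¹ = L⁻¹ * (M * N) := by
      rw [← h6]
      group
    calc a * L * a⁻¹ = (a * L⁻¹ * a⁻¹)⁻¹ := by group
      _ = (L⁻¹ * (M * N))⁻¹ := by rw [h71]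
      _ = N⁻¹ * M⁻¹ * L := by group
  have h8 : (a * b) * L * (a * b)⁻¹ = a * L * a⁻¹ := by
    have h81 : b * L * b⁻¹ = L := by
      rw [hbL]
      group
    calc (a * b) * L * (a * b)⁻¹ = a * (b * L * b⁻¹) * a⁻¹ := by group
      _ = a * L * a⁻¹ := by rw [h81]
  rw [h8, h7, hN, hMM, Cfsg.Agent.Helper9.SpGen.X_neg hX hbp.symm,
    Cfsg.Agent.Helper9.SpGen.X_neg hX hq]
  -- commute the long root element at `p` to the right
  have hc1 : ∀ t u : K, X p (bar p) t * X q (bar p) u = X q (bar p) u * X p (bar p) t :=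
    hX.comm p (bar p) q (bar p) hbp.symm hq hq.symm (by rw [bar_bar]; exact hbp) hpbq hbp.symm
  have hc2 : ∀ t u : K, X p (bar p) t * X q (bar q) u = X q (bar q) u * X p (bar p) t :=
    hX.comm p (bar p) q (bar q) hbp.symm hbq.symm hq.symm (by rw [bar_bar]; exact hq.symm) hpbq
      hpbq
  have hs := hX.sym q (bar p) hq hbpbq (-(1 * u0))
  rw [bar_bar] at hs
  refine ⟨-(eps K q (bar p) * -(1 * u0)), 1, -(eps K q (bar p) * 1 * u0 ^ 2), ?_, ?_⟩
  · exact neg_ne_zero.mpr (mul_ne_zero (Cfsg.Agent.Helper96.StC.eps_ne_zero q (bar p))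
      (neg_ne_zero.mpr (mul_ne_zero one_ne_zero hu0ne)))
  · rw [hL, hc1, mul_assoc, hc2, ← mul_assoc, hs]

/-- (C1) -/
theorem conj_long_char_two [Fintype K] [DecidableEq ι] (hK : Fintype.card K = 2) (hX : SpRel X)
    (hM : MonoData X reflPerm cw) {p q : ι ⊕ ι} (hpq : p ≠ q) (hq : q ≠ bar p) :
    ∃ t1 t2 t3 : K, t1 ≠ 0 ∧
      (X p q 1 * X q p 1) * X q (bar q) 1 * (X p q 1 * X q p 1)⁻¹ =
        X p (bar q) t1 * X q (bar q) t2 * X p (bar p) t3 :=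
  conj_long_aux hX hpq hq

end Cfsg.Agent.Helper69.SpGen
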