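import Cfsg.Agent.Helper43.Cov2.P7Defs
import Cfsg.Agent.Helper13.SympTrans

/-!
# (Q2) `normCubic_of_quad` for helper43's S2500 part 7 farm (#12305)
(helper69)

`s, u ∈ Sp₆(F)`, `F` finite of characteristic 3, commuting, `s² - γ s + 1 = 0`, `(u - 1)³ = 0` and the family
`u^i x, u^i s x` a basis: then `s u` normalises a self-adjoint cubic field.  The tensor model (TM)
`normCubic_of_model` (helper80's piece) enters as the explicit hypothesis `hTM` of `normCubic_of_quad_of`.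
`uFam` is a verbatim copy of the Skel definition.
-/

set_option autoImplicit false
set_option linter.unusedVariables false

namespace Cfsg.Agent.Helper69.Cov2.P7

open Matrix Cfsg.Agent.Helper43.Cov2.P7 Cfsg.Agent.Helper13

variable {F : Type*} [Field F]

/-- abstract independence criterion: a relation among `a_b, U a_b, U² a_b` together with its two cyclic
shifts, in characteristic 3, when the two "norms" are independent -/
theorem q2_indep_aux {V : Type*} [AddCommGroup V] [Module F V] (h3 : (3 : F) = 0)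
    (a0 b0 c0 a1 b1 c1 : V)
    (hM : ∀ c d : F, c • (a0 + b0 + c0) + d • (a1 + b1 + c1) = 0 → c = 0 ∧ d = 0)
    (g00 g10 g20 g01 g11 g21 : F)
    (E : g00 • a0 + g10 • b0 + g20 • c0 + (g01 • a1 + g11 • b1 + g21 • c1) = 0)
    (E' : g00 • b0 + g10 • c0 + g20 • a0 + (g01 • b1 + g11 • c1 + g21 • a1) = 0)
    (E'' : g00 • c0 + g10 • a0 + g20 • b0 + (g01 • c1 + g11 • a1 + g21 • b1) = 0) :
    g00 = 0 ∧ g10 = 0 ∧ g20 = 0 ∧ g01 = 0 ∧ g11 = 0 ∧ g21 = 0 := by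
  -- step 1: the sums vanish
  have s1 : (g00 + g10 + g20) • (a0 + b0 + c0) + (g01 + g11 + g21) • (a1 + b1 + c1) = 0 := by
    have : (g00 + g10 + g20) • (a0 + b0 + c0) + (g01 + g11 + g21) • (a1 + b1 + c1) =
        (g00 • a0 + g10 • b0 + g20 • c0 + (g01 • a1 + g11 • b1 + g21 • c1)) +
        (g00 • b0 + g10 • c0 + g20 • a0 + (g01 • b1 + g11 • c1 + g21 • a1)) +
        (g00 • c0 + g10 • a0 + g20 • b0 + (g01 • c1 + g11 • a1 + g21 • b1)) := by module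
    rw [this, E, E', E'', add_zero, add_zero]
  obtain ⟨hσ0, hσ1⟩ := hM _ _ s1
  -- step 2: the differences vanish
  have s2 : (g10 - g20) • (a0 + b0 + c0) + (g11 - g21) • (a1 + b1 + c1) = 0 := by
    have : (g10 - g20) • (a0 + b0 + c0) + (g11 - g21) • (a1 + b1 + c1) =
        (g00 • b0 + g10 • c0 + g20 • a0 + (g01 • b1 + g11 • c1 + g21 • a1)) -
        (g00 • a0 + g10 • b0 + g20 • c0 + (g01 • a1 + g11 • b1 + g21 • c1)) +
        (g00 + g10 + g20) • (a0 - b0) + (g01 + g11 + g21) • (a1 - b1) +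
        (3 : F) • (g10 • b0 - g20 • a0 + (g11 • b1 - g21 • a1)) := by module
    rw [this, E, E', hσ0, hσ1, h3, zero_smul, zero_smul, zero_smul, sub_zero, add_zero, add_zero,
      add_zero]
  obtain ⟨hδ0, hδ1⟩ := hM _ _ s2
  have e10 : g10 = g20 := sub_eq_zero.1 hδ0
  have e11 : g11 = g21 := sub_eq_zero.1 hδ1
  have e00 : g00 = g10 := by linear_combination hσ0 - g10 * h3 + hδ0
  have e01 : g01 = g11 := by linear_combination hσ1 - g11 * h3 + hδ1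
  -- step 3
  have s3 : g00 • (a0 + b0 + c0) + g01 • (a1 + b1 + c1) = 0 := by
    have : g00 • (a0 + b0 + c0) + g01 • (a1 + b1 + c1) =
        g00 • a0 + g00 • b0 + g00 • c0 + (g01 • a1 + g01 • b1 + g01 • c1) := by module
    rw [this]
    have E2 := E
    rw [← e10, ← e00, ← e11, ← e01] at E2
    exact E2
  obtain ⟨h0, h1⟩ := hM _ _ s3
  refine ⟨h0, ?_, ?_, h1, ?_, ?_⟩
  · rw [← e00, h0]
  · rw [← e10, ← e00, h0]
  · rw [← e01, h1]
  · rw [← e11, ← e01, h1]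


/-- the family `u^i x, u^i s x` (copy of the Skel definition) -/
def uFam (u s : M6 F) (x : V6 F) : Fin 3 × Fin 2 → V6 F :=
  fun p => (u ^ (p.1 : ℕ)) *ᵥ (if p.2 = 0 then x else s *ᵥ x)

theorem uFam_00 (U S : M6 F) (x : V6 F) : uFam U S x (0, 0) = x := by
  simp [uFam]
theorem uFam_10 (U S : M6 F) (x : V6 F) : uFam U S x (1, 0) = U *ᵥ x := by
  simp [uFam]
theorem uFam_20 (U S : M6 F) (x : V6 F) : uFam U S x (2, 0) = U *ᵥ (U *ᵥ x) := by
  simp [uFam, pow_two]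
theorem uFam_01 (U S : M6 F) (x : V6 F) : uFam U S x (0, 1) = S *ᵥ x := by
  simp [uFam]
theorem uFam_11 (U S : M6 F) (x : V6 F) : uFam U S x (1, 1) = U *ᵥ (S *ᵥ x) := by
  simp [uFam]
theorem uFam_21 (U S : M6 F) (x : V6 F) : uFam U S x (2, 1) = U *ᵥ (U *ᵥ (S *ᵥ x)) := by
  simp [uFam, pow_two, mul_assoc]

theorem sum_uFam (U S : M6 F) (x : V6 F) (g : Fin 3 × Fin 2 → F) :
    ∑ p, g p • uFam U S x p =
      g (0, 0) • x + g (1, 0) • (U *ᵥ x) + g (2, 0) • (U *ᵥ (U *ᵥ x)) +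
        (g (0, 1) • (S *ᵥ x) + g (1, 1) • (U *ᵥ (S *ᵥ x)) + g (2, 1) • (U *ᵥ (U *ᵥ (S *ᵥ x)))) := by
  rw [Fintype.sum_prod_type, Fin.sum_univ_three, Fin.sum_univ_two, Fin.sum_univ_two,
    Fin.sum_univ_two, uFam_00, uFam_10, uFam_20, uFam_01, uFam_11, uFam_21]
  abel



section abstract

variable (U S : M6 F) (γ : F)
  (hU : ∀ v w : V6 F, Cfsg.sympForm 3 F (U *ᵥ v) (U *ᵥ w) = Cfsg.sympForm 3 F v w)
  (hS : ∀ v w : V6 F, Cfsg.sympForm 3 F (S *ᵥ v) (S *ᵥ w) = Cfsg.sympForm 3 F v w)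
  (hSU : S * U = U * S)
  (hS2 : S * S - γ • S + 1 = 0)
  (hU3 : U * U * U = 1)

include hU3 in
theorem q2_U3v (w : V6 F) : U *ᵥ (U *ᵥ (U *ᵥ w)) = w := by
  rw [Matrix.mulVec_mulVec, Matrix.mulVec_mulVec, hU3, Matrix.one_mulVec]

include hU hU3 in
theorem q2_Uadj (v w : V6 F) : Cfsg.sympForm 3 F (U *ᵥ v) w = Cfsg.sympForm 3 F v (U *ᵥ (U *ᵥ w)) := by
  have h := hU v (U *ᵥ (U *ᵥ w))
  rw [q2_U3v U hU3] at h
  exact h

include hS2 in
theorem q2_S2v (v : V6 F) : S *ᵥ (S *ᵥ v) = γ • (S *ᵥ v) - v := by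
  have h := congrArg (fun M : M6 F => M *ᵥ v) hS2
  simp only [Matrix.add_mulVec, Matrix.sub_mulVec, Matrix.smul_mulVec, Matrix.one_mulVec,
    Matrix.zero_mulVec, ← Matrix.mulVec_mulVec] at h
  rw [← sub_eq_zero]
  rw [← h]
  abel

include hSU in
theorem q2_SUv (v : V6 F) : S *ᵥ (U *ᵥ v) = U *ᵥ (S *ᵥ v) := by
  rw [Matrix.mulVec_mulVec, Matrix.mulVec_mulVec, hSU]

include hS hS2 in
theorem q2_Sadj (v w : V6 F) : Cfsg.sympForm 3 F (S *ᵥ v) w = γ * Cfsg.sympForm 3 F v w - Cfsg.sympForm 3 F v (S *ᵥ w) := by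
  have h := hS v (γ • w - S *ᵥ w)
  rw [Matrix.mulVec_sub, Matrix.mulVec_smul, q2_S2v S γ hS2] at h
  have e : γ • S *ᵥ w - (γ • S *ᵥ w - w) = w := by abel
  rw [e] at h
  rw [h, sympForm_sub_right, sympForm_smul_right]

end abstract


section indep

variable (U S : M6 F)

/-- the "norm" `1 + U + U²` applied to a vector -/
def q2M (U : M6 F) (v : V6 F) : V6 F := v + U *ᵥ v + U *ᵥ (U *ᵥ v)

/-- (L1) -/
theorem q2_norm_indep_of (x : V6 F) (hx : LinearIndependent F (uFam U S x)) (c d : F)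
    (h : c • q2M U x + d • q2M U (S *ᵥ x) = 0) : c = 0 ∧ d = 0 := by
  rw [Fintype.linearIndependent_iff] at hx
  have h1 := hx (fun p => if p.2 = 0 then c else d) (by
    rw [sum_uFam]
    simp only [Fin.isValue, if_true, one_ne_zero, if_false]
    rw [← h]
    unfold q2M
    module)
  constructor
  · simpa using h1 (0, 0)
  · simpa using h1 (0, 1)

/-- (L2) -/
theorem q2_indep_of_norm (h3 : (3 : F) = 0) (hU3 : U * U * U = 1) (x : V6 F)
    (hM : ∀ c d : F, c • q2M U x + d • q2M U (S *ᵥ x) = 0 → c = 0 ∧ d = 0) :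
    LinearIndependent F (uFam U S x) := by
  rw [Fintype.linearIndependent_iff]
  intro g hg
  rw [sum_uFam] at hg
  have hg' := congrArg (fun v => U *ᵥ v) hg
  have hg'' := congrArg (fun v => U *ᵥ (U *ᵥ v)) hg
  simp only [Matrix.mulVec_add, Matrix.mulVec_smul, Matrix.mulVec_zero, q2_U3v U hU3] at hg' hg''
  have key := q2_indep_aux h3 x (U *ᵥ x) (U *ᵥ (U *ᵥ x)) (S *ᵥ x) (U *ᵥ (S *ᵥ x))
    (U *ᵥ (U *ᵥ (S *ᵥ x))) hM (g (0, 0)) (g (1, 0)) (g (2, 0)) (g (0, 1)) (g (1, 1)) (g (2, 1))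
    hg (by rw [← hg']) (by rw [← hg''])
  obtain ⟨k1, k2, k3, k4, k5, k6⟩ := key
  rintro ⟨i, b⟩
  fin_cases i <;> fin_cases b <;> assumption

end indep


section adjust

variable (U S : M6 F) (γ : F)
  (hU : ∀ v w : V6 F, Cfsg.sympForm 3 F (U *ᵥ v) (U *ᵥ w) = Cfsg.sympForm 3 F v w)
  (hSU : S * U = U * S)
  (hU3 : U * U * U = 1)
  (h3 : (3 : F) = 0)

include hU3 in
theorem q2M_add (v t : V6 F) (c : F) : q2M U (v + c • (U *ᵥ t - t)) = q2M U v := by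
  unfold q2M
  simp only [Matrix.mulVec_add, Matrix.mulVec_smul, Matrix.mulVec_sub, q2_U3v U hU3]
  module

include hU hU3 h3 in
theorem q2_Q_add (x t : V6 F) (c : F) :
    Cfsg.sympForm 3 F (x + c • (U *ᵥ t - t)) (U *ᵥ (x + c • (U *ᵥ t - t))) =
      Cfsg.sympForm 3 F x (U *ᵥ x) - c * Cfsg.sympForm 3 F (q2M U x) t := by
  have e1 : Cfsg.sympForm 3 F t x = - Cfsg.sympForm 3 F x t := sympForm_swap t x
  have e2 : Cfsg.sympForm 3 F t (U *ᵥ x) = - Cfsg.sympForm 3 F x (U *ᵥ (U *ᵥ t)) := by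
    rw [sympForm_swap, q2_Uadj U hU hU3]
  have e4 : Cfsg.sympForm 3 F t (U *ᵥ (U *ᵥ t)) = - Cfsg.sympForm 3 F t (U *ᵥ t) := by
    rw [sympForm_swap, q2_Uadj U hU hU3, q2_Uadj U hU hU3, q2_U3v U hU3]
  unfold q2M
  simp only [Matrix.mulVec_add, Matrix.mulVec_smul, Matrix.mulVec_sub, sympForm_add_left,
    sympForm_add_right, sympForm_smul_left, sympForm_smul_right, sympForm_sub_left,
    sympForm_sub_right, q2_Uadj U hU hU3, q2_U3v U hU3, sympForm_self, e1, e2, e4]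
  linear_combination (c ^ 2 * Cfsg.sympForm 3 F t (U *ᵥ t) + c * Cfsg.sympForm 3 F x (U *ᵥ (U *ᵥ t))) * h3

end adjust


section gram

variable (U S : M6 F) (γ : F)
  (hU : ∀ v w : V6 F, Cfsg.sympForm 3 F (U *ᵥ v) (U *ᵥ w) = Cfsg.sympForm 3 F v w)
  (hS : ∀ v w : V6 F, Cfsg.sympForm 3 F (S *ᵥ v) (S *ᵥ w) = Cfsg.sympForm 3 F v w)
  (hSU : S * U = U * S)
  (hS2 : S * S - γ • S + 1 = 0)
  (hU3 : U * U * U = 1)

include hU hU3 in
theorem q2_xx2 (x : V6 F) (hQ : Cfsg.sympForm 3 F x (U *ᵥ x) = 0) :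
    Cfsg.sympForm 3 F x (U *ᵥ (U *ᵥ x)) = 0 := by
  rw [sympForm_swap, q2_Uadj U hU hU3, q2_Uadj U hU hU3, q2_U3v U hU3, hQ, neg_zero]

include hS hSU in
theorem q2_ss1 (x : V6 F) :
    Cfsg.sympForm 3 F (S *ᵥ x) (U *ᵥ (S *ᵥ x)) = Cfsg.sympForm 3 F x (U *ᵥ x) := by
  rw [← q2_SUv U S hSU, hS]

include hS hSU in
theorem q2_ss2 (x : V6 F) :
    Cfsg.sympForm 3 F (S *ᵥ x) (U *ᵥ (U *ᵥ (S *ᵥ x))) = Cfsg.sympForm 3 F x (U *ᵥ (U *ᵥ x)) := by
  rw [← q2_SUv U S hSU, ← q2_SUv U S hSU, hS]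

include hU hS hSU hS2 hU3 in
theorem q2_tau (x : V6 F) (hQ : Cfsg.sympForm 3 F x (U *ᵥ x) = 0) :
    Cfsg.sympForm 3 F x (U *ᵥ (U *ᵥ (S *ᵥ x))) = Cfsg.sympForm 3 F x (U *ᵥ (S *ᵥ x)) := by
  rw [← q2_Uadj U hU hU3, sympForm_swap, q2_Sadj S γ hS hS2, hQ, q2_SUv U S hSU]
  ring

include hU hS hSU hS2 hU3 in
theorem q2_gram (x : V6 F) (hQ : Cfsg.sympForm 3 F x (U *ᵥ x) = 0) :
    (∀ i j, Cfsg.sympForm 3 F (uFam U S x (i, 0)) (uFam U S x (j, 0)) = 0) ∧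
    (∀ i j, Cfsg.sympForm 3 F (uFam U S x (i, 1)) (uFam U S x (j, 1)) = 0) ∧
    (∀ i j, Cfsg.sympForm 3 F (uFam U S x (i, 0)) (uFam U S x (j, 1)) =
      if i = j then Cfsg.sympForm 3 F x (S *ᵥ x) else Cfsg.sympForm 3 F x (U *ᵥ (S *ᵥ x))) := by
  have hQ2 := q2_xx2 U hU hU3 x hQ
  have hs1 := q2_ss1 U S hS hSU x
  have hs2 := q2_ss2 U S hS hSU x
  have hτ := q2_tau U S γ hU hS hSU hS2 hU3 x hQ
  rw [hQ] at hs1
  rw [hQ2] at hs2
  refine ⟨?_, ?_, ?_⟩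
  · intro i j
    fin_cases i <;> fin_cases j <;>
    simp only [Fin.zero_eta, Fin.mk_one, Fin.reduceFinMk, Fin.isValue, uFam_00, uFam_10, uFam_20,
      q2_Uadj U hU hU3, q2_U3v U hU3, sympForm_self, hQ, hQ2]
  · intro i j
    fin_cases i <;> fin_cases j <;>
    simp only [Fin.zero_eta, Fin.mk_one, Fin.reduceFinMk, Fin.isValue, uFam_01, uFam_11, uFam_21,
      q2_Uadj U hU hU3, q2_U3v U hU3, sympForm_self, hs1, hs2]
  · intro i j
    fin_cases i <;> fin_cases j <;>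
    simp only [Fin.zero_eta, Fin.mk_one, Fin.reduceFinMk, Fin.isValue, uFam_00, uFam_10, uFam_20,
      uFam_01, uFam_11, uFam_21,
      q2_Uadj U hU hU3, q2_U3v U hU3, hτ, if_true, Fin.reduceEq, if_false]

end gram


section model

variable (U S : M6 F) (γ : F)
  (hSU : S * U = U * S)
  (hS2 : S * S - γ • S + 1 = 0)
  (hU3 : U * U * U = 1)

include hSU hS2 hU3 in
theorem q2_hg (x : V6 F) (i : Fin 3) (b : Fin 2) :
    (S * U) *ᵥ uFam U S x (i, b) = ∑ c, (!![0, -1; 1, γ] : Matrix (Fin 2) (Fin 2) F) c b •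
      uFam U S x (i + 1, c) := by
  fin_cases i <;> fin_cases b <;>
  simp only [Fin.zero_eta, Fin.mk_one, Fin.reduceFinMk, Fin.isValue, Fin.sum_univ_two,
    Fin.reduceAdd, zero_add, uFam_00, uFam_10, uFam_20,
    uFam_01, uFam_11, uFam_21, ← Matrix.mulVec_mulVec, q2_SUv U S hSU, q2_S2v S γ hS2,
    q2_U3v U hU3, Matrix.mulVec_sub, Matrix.mulVec_smul, Matrix.of_apply, Matrix.cons_val',
    Matrix.cons_val_zero, Matrix.cons_val_one, Matrix.cons_val_fin_one] <;>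
  module

end model

theorem q2_char_three [Fintype F] (a : ℕ) (hF : Fintype.card F = 3 ^ a) : (3 : F) = 0 := by
  obtain ⟨p, hp⟩ := CharP.exists F
  have := hp
  have : Fact p.Prime := ⟨CharP.char_is_prime F p⟩
  have h1 : p ∣ Fintype.card F := by
    have : ((Fintype.card F : ℕ) : F) = 0 := Nat.cast_card_eq_zero F
    exact (CharP.cast_eq_zero_iff F p _).1 this
  rw [hF] at h1
  have h2 : p ∣ 3 := (Fact.out : p.Prime).dvd_of_dvd_pow h1
  have h3 : ((3 : ℕ) : F) = 0 := (CharP.cast_eq_zero_iff F p 3).2 h2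
  exact_mod_cast h3

theorem q2_cube (U : M6 F) (h3 : (3 : F) = 0) (hN : (U - 1) ^ 3 = 0) : U * U * U = 1 := by
  have e : U * U * U = (U - 1) ^ 3 + 3 • (U * U - U) + 1 := by noncomm_ring
  have e3 : (3 : ℕ) • (U * U - U) = 0 := by
    rw [← Nat.cast_smul_eq_nsmul F]
    have : ((3 : ℕ) : F) = 0 := by exact_mod_cast h3
    rw [this, zero_smul]
  rw [e, hN, e3, zero_add, zero_add]

/-- (Q2), with (TM) as a hypothesis -/
theorem normCubic_of_quad_of [Fintype F]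
    (hTM : ∀ (g : M6 F) (y : Fin 3 × Fin 2 → V6 F), LinearIndependent F y →
      ∀ (t₀ t₁ : F) (g₀ : Matrix (Fin 2) (Fin 2) F),
      (∀ i j, Cfsg.sympForm 3 F (y (i, 0)) (y (j, 0)) = 0) →
      (∀ i j, Cfsg.sympForm 3 F (y (i, 1)) (y (j, 1)) = 0) →
      (∀ i j, Cfsg.sympForm 3 F (y (i, 0)) (y (j, 1)) = if i = j then t₀ else t₁) →
      (∀ i b, g *ᵥ y (i, b) = ∑ c, g₀ c b • y (i + 1, c)) → NormCubic g)
    (a : ℕ) (ha : 1 ≤ a) (hF : Fintype.card F = 3 ^ a)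
    (s u : Sp6 F) (hcomm : Commute s u) (γ : F)
    (hs : (s : M6 F) * (s : M6 F) - γ • (s : M6 F) + 1 = 0)
    (h3 : ((u : M6 F) - 1) ^ 3 = 0) (x : V6 F)
    (hx : LinearIndependent F (uFam (u : M6 F) (s : M6 F) x)) :
    NormCubic ((s * u : Sp6 F) : M6 F) := by
  have h3F := q2_char_three a hF
  have hU := (mem_symplecticGroup_iff_preserves (u : M6 F)).1 u.2
  have hS := (mem_symplecticGroup_iff_preserves (s : M6 F)).1 s.2
  have hSU : (s : M6 F) * (u : M6 F) = (u : M6 F) * (s : M6 F) := by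
    have := congrArg (fun g : Sp6 F => (g : M6 F)) hcomm.eq
    exact this
  have hU3 := q2_cube (u : M6 F) h3F h3
  -- the norms are independent
  have hM := q2_norm_indep_of (u : M6 F) (s : M6 F) x hx
  have hW : q2M (u : M6 F) x ≠ 0 := by
    intro h0
    have := hM 1 0 (by rw [h0, smul_zero, zero_smul, add_zero])
    exact one_ne_zero this.1
  -- adjust x
  obtain ⟨t, ht⟩ := sympForm_nondeg_left hW
  have ht' : Cfsg.sympForm 3 F (q2M (u : M6 F) x) t ≠ 0 := by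
    rw [sympForm_swap]
    exact neg_ne_zero.2 ht
  obtain ⟨c, hc⟩ : ∃ c : F, c * Cfsg.sympForm 3 F (q2M (u : M6 F) x) t =
      Cfsg.sympForm 3 F x ((u : M6 F) *ᵥ x) :=
    ⟨Cfsg.sympForm 3 F x ((u : M6 F) *ᵥ x) / Cfsg.sympForm 3 F (q2M (u : M6 F) x) t,
      div_mul_cancel₀ _ ht'⟩
  obtain ⟨x', hx'⟩ : ∃ x' : V6 F, x' = x + c • ((u : M6 F) *ᵥ t - t) := ⟨_, rfl⟩
  have hQ : Cfsg.sympForm 3 F x' ((u : M6 F) *ᵥ x') = 0 := by
    rw [hx', q2_Q_add (u : M6 F) hU hU3 h3F, hc, sub_self]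
  have hM1 : q2M (u : M6 F) x' = q2M (u : M6 F) x := by
    rw [hx', q2M_add (u : M6 F) hU3]
  have hM2 : q2M (u : M6 F) ((s : M6 F) *ᵥ x') = q2M (u : M6 F) ((s : M6 F) *ᵥ x) := by
    have : (s : M6 F) *ᵥ x' = (s : M6 F) *ᵥ x +
        c • ((u : M6 F) *ᵥ ((s : M6 F) *ᵥ t) - (s : M6 F) *ᵥ t) := by
      rw [hx', Matrix.mulVec_add, Matrix.mulVec_smul, Matrix.mulVec_sub,
        q2_SUv (u : M6 F) (s : M6 F) hSU]
    rw [this, q2M_add (u : M6 F) hU3]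
  have hy : LinearIndependent F (uFam (u : M6 F) (s : M6 F) x') := by
    apply q2_indep_of_norm (u : M6 F) (s : M6 F) h3F hU3
    rw [hM1, hM2]
    exact hM
  obtain ⟨h00, h11, h01⟩ := q2_gram (u : M6 F) (s : M6 F) γ hU hS hSU hs hU3 x' hQ
  exact hTM _ _ hy _ _ _ h00 h11 h01 (q2_hg (u : M6 F) (s : M6 F) γ hSU hs hU3 x')

end Cfsg.Agent.Helper69.Cov2.P7
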