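import Cfsg.Agent.Helper43.O7Orth

/-!
# (O7-L9) for helper43's S2647 (helper69): `P0` is self-normalizing in `Alt(7)`

`P0 = ⟨(02)(13), (01)(45)⟩ ≅ D8`.  An even permutation `σ` of `Fin 7` with `σ P0 σ⁻¹ ⊆ P0` lies
in `P0`.  The finite checks are done on the values of `σ⁻¹` (lists are traversed with `List.all` /
`List.any`, so that nothing ever enumerates `Equiv.Perm (Fin 7)`).
-/

set_option autoImplicit false

namespace Cfsg.Agent.Helper69.O7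

open Matrix Cfsg.Agent.Helper43.O7 Cfsg.Agent.Helper44

/-- the eight elements of `P0` -/
def L8 : List (Equiv.Perm (Fin 7)) :=
  [1, tau, tau2, tau * tau2, tau2 * tau, tau * tau2 * tau, tau2 * tau * tau2,
    tau * tau2 * tau * tau2]

theorem L8_mul_b : (L8.all fun x => L8.all fun y => L8.any fun z =>
    decide (∀ j : Fin 7, x (y j) = z j)) = true := by decide +kernel

theorem L8_inv_b : (L8.all fun x => L8.any fun z =>
    decide (∀ j : Fin 7, x⁻¹ j = z j)) = true := by decide +kernel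

theorem L8_mul (x : Equiv.Perm (Fin 7)) (hx : x ∈ L8) (y : Equiv.Perm (Fin 7)) (hy : y ∈ L8) :
    x * y ∈ L8 := by
  have h := L8_mul_b
  rw [List.all_eq_true] at h
  have h1 := h x hx
  rw [List.all_eq_true] at h1
  have h2 := h1 y hy
  rw [List.any_eq_true] at h2
  obtain ⟨z, hz, hxyz⟩ := h2
  have h3 : ∀ j : Fin 7, x (y j) = z j := of_decide_eq_true hxyz
  have : x * y = z := Equiv.ext fun j => by rw [Equiv.Perm.mul_apply]; exact h3 j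
  rw [this]
  exact hz

theorem L8_inv (x : Equiv.Perm (Fin 7)) (hx : x ∈ L8) : x⁻¹ ∈ L8 := by
  have h := L8_inv_b
  rw [List.all_eq_true] at h
  have h1 := h x hx
  rw [List.any_eq_true] at h1
  obtain ⟨z, hz, hxz⟩ := h1
  have h3 : ∀ j : Fin 7, x⁻¹ j = z j := of_decide_eq_true hxz
  have : x⁻¹ = z := Equiv.ext h3
  rw [this]
  exact hz

theorem mem_L8_of_mem_P0 (ρ : Equiv.Perm (Fin 7)) (hρ : ρ ∈ P0) : ρ ∈ L8 := by
  unfold P0 at hρ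
  induction hρ using Subgroup.closure_induction with
  | mem x hx =>
    rcases hx with rfl | rfl
    · simp [L8]
    · simp [L8]
  | one => simp [L8]
  | mul x y _ _ hx hy => exact L8_mul x hx y hy
  | inv x _ hx => exact L8_inv x hx

theorem mem_P0_of_mem_L8 (ρ : Equiv.Perm (Fin 7)) (hρ : ρ ∈ L8) : ρ ∈ P0 := by
  have h1 : tau ∈ P0 := Subgroup.subset_closure (by simp)
  have h2 : tau2 ∈ P0 := Subgroup.subset_closure (by simp)
  simp only [L8, List.mem_cons, List.not_mem_nil, or_false] at hρ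
  rcases hρ with rfl | rfl | rfl | rfl | rfl | rfl | rfl | rfl
  · exact one_mem _
  · exact h1
  · exact h2
  · exact mul_mem h1 h2
  · exact mul_mem h2 h1
  · exact mul_mem (mul_mem h1 h2) h1
  · exact mul_mem (mul_mem h2 h1) h2
  · exact mul_mem (mul_mem (mul_mem h1 h2) h1) h2

theorem L8_fix_b : (L8.all fun ρ => decide (ρ 6 = 6 ∧ (ρ 4 = 4 ∨ ρ 4 = 5) ∧
    (ρ 5 = 4 ∨ ρ 5 = 5))) = true := by decide +kernel

theorem L8_fix (ρ : Equiv.Perm (Fin 7)) (hρ : ρ ∈ L8) :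
    ρ 6 = 6 ∧ (ρ 4 = 4 ∨ ρ 4 = 5) ∧ (ρ 5 = 4 ∨ ρ 5 = 5) := by
  have h := L8_fix_b
  rw [List.all_eq_true] at h
  exact of_decide_eq_true (h ρ hρ)

theorem L8_sign_b : (L8.all fun ρ => decide (Equiv.Perm.sign ρ = 1)) = true := by
  simp [L8, tau, tau2, Equiv.Perm.sign_mul]

theorem L8_sign (ρ : Equiv.Perm (Fin 7)) (hρ : ρ ∈ L8) : Equiv.Perm.sign ρ = 1 := by
  have h := L8_sign_b
  rw [List.all_eq_true] at h
  exact of_decide_eq_true (h ρ hρ)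

theorem fix6 : ∀ x : Fin 7, tau x = x → tau2 x = x → x = 6 := by decide +kernel

theorem pair45 : ∀ y y' : Fin 7, y ≠ y' → (tau y = y ∨ tau y = y') → (tau y' = y ∨ tau y' = y') →
    (tau2 y = y ∨ tau2 y = y') → (tau2 y' = y ∨ tau2 y' = y') →
    (y = 4 ∧ y' = 5) ∨ (y = 5 ∧ y' = 4) := by decide +kernel

theorem core_b : ∀ e f : Fin 7, ((e = 4 ∧ f = 5) ∨ (e = 5 ∧ f = 4)) → ∀ a b c d : Fin 7,
    Function.Injective ![a, b, c, d, e, f, 6] →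
    (L8.any fun ρ => decide (∀ j, tau (![a, b, c, d, e, f, 6] j) = ![a, b, c, d, e, f, 6] (ρ j)))
      = true →
    (L8.any fun ρ => decide (∀ j, tau2 (![a, b, c, d, e, f, 6] j) = ![a, b, c, d, e, f, 6] (ρ j)))
      = true →
    (L8.any fun ρ => decide ((∀ j, ![a, b, c, d, e, f, 6] j = ρ j) ∨
      (∀ j, ![a, b, c, d, e, f, 6] j = (ρ * Equiv.swap (4 : Fin 7) 5) j))) = true := by
  decide +kernel

/-- L9 -/
theorem P0_selfnorm (σ : Equiv.Perm (Fin 7)) (hσ : Equiv.Perm.sign σ = 1)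
    (h : ∀ ρ ∈ P0, σ * ρ * σ⁻¹ ∈ P0) : σ ∈ P0 := by
  have htau : tau ∈ P0 := Subgroup.subset_closure (by simp)
  have htau2 : tau2 ∈ P0 := Subgroup.subset_closure (by simp)
  -- the two conjugates
  obtain ⟨ρ1, hρ1def⟩ : ∃ ρ1, ρ1 = σ * tau * σ⁻¹ := ⟨_, rfl⟩
  obtain ⟨ρ2, hρ2def⟩ : ∃ ρ2, ρ2 = σ * tau2 * σ⁻¹ := ⟨_, rfl⟩
  have hρ1 : ρ1 ∈ L8 := by rw [hρ1def]; exact mem_L8_of_mem_P0 _ (h _ htau)
  have hρ2 : ρ2 ∈ L8 := by rw [hρ2def]; exact mem_L8_of_mem_P0 _ (h _ htau2)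
  -- `w = σ⁻¹` intertwines
  have hw1 : ∀ j, tau (σ⁻¹ j) = σ⁻¹ (ρ1 j) := by
    intro j; rw [hρ1def]; simp [Equiv.Perm.mul_apply]
  have hw2 : ∀ j, tau2 (σ⁻¹ j) = σ⁻¹ (ρ2 j) := by
    intro j; rw [hρ2def]; simp [Equiv.Perm.mul_apply]
  have hinj : Function.Injective (σ⁻¹ : Equiv.Perm (Fin 7)) := (σ⁻¹ : Equiv.Perm (Fin 7)).injective
  -- stage 1
  have h6 : σ⁻¹ 6 = 6 := by
    apply fix6
    · rw [hw1, (L8_fix ρ1 hρ1).1]
    · rw [hw2, (L8_fix ρ2 hρ2).1]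
  -- stage 2
  have h45 : (σ⁻¹ 4 = 4 ∧ σ⁻¹ 5 = 5) ∨ (σ⁻¹ 4 = 5 ∧ σ⁻¹ 5 = 4) := by
    apply pair45
    · intro h'
      have := hinj h'
      exact absurd this (by decide)
    · rw [hw1]
      rcases (L8_fix ρ1 hρ1).2.1 with h' | h' <;> rw [h'] <;> simp
    · rw [hw1]
      rcases (L8_fix ρ1 hρ1).2.2 with h' | h' <;> rw [h'] <;> simp
    · rw [hw2]
      rcases (L8_fix ρ2 hρ2).2.1 with h' | h' <;> rw [h'] <;> simp
    · rw [hw2]
      rcases (L8_fix ρ2 hρ2).2.2 with h' | h' <;> rw [h'] <;> simp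
  -- stage 3
  have hv : (fun j => σ⁻¹ j) = ![σ⁻¹ 0, σ⁻¹ 1, σ⁻¹ 2, σ⁻¹ 3, σ⁻¹ 4, σ⁻¹ 5, 6] := by
    funext j
    fin_cases j
    · rfl
    · rfl
    · rfl
    · rfl
    · rfl
    · rfl
    · exact h6
  have hcore := core_b (σ⁻¹ 4) (σ⁻¹ 5) h45 (σ⁻¹ 0) (σ⁻¹ 1) (σ⁻¹ 2) (σ⁻¹ 3)
  rw [← hv] at hcore
  have hfin := hcore hinj
    (List.any_eq_true.mpr ⟨ρ1, hρ1, decide_eq_true hw1⟩)
    (List.any_eq_true.mpr ⟨ρ2, hρ2, decide_eq_true hw2⟩)
  rw [List.any_eq_true] at hfin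
  obtain ⟨ρ, hρ, hρdec⟩ := hfin
  have hor : (∀ j, σ⁻¹ j = ρ j) ∨ (∀ j, σ⁻¹ j = (ρ * Equiv.swap (4 : Fin 7) 5) j) :=
    of_decide_eq_true hρdec
  have hsign : Equiv.Perm.sign σ⁻¹ = 1 := by rw [Equiv.Perm.sign_inv]; exact hσ
  rcases hor with hor | hor
  · have : σ⁻¹ = ρ := Equiv.ext hor
    have hmem : σ⁻¹ ∈ P0 := by rw [this]; exact mem_P0_of_mem_L8 ρ hρ
    have := inv_mem hmem
    rwa [inv_inv] at this
  · exfalso
    have : σ⁻¹ = ρ * Equiv.swap (4 : Fin 7) 5 := Equiv.ext hor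
    rw [this, Equiv.Perm.sign_mul, L8_sign ρ hρ, Equiv.Perm.sign_swap (by decide)] at hsign
    exact absurd hsign (by decide)

end Cfsg.Agent.Helper69.O7
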