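import Cfsg.Agent.Helper69.HallT5a
import Cfsg.Agent.Helper68.HallT1

/-!
# M. Hall's theorem (S4221), piece (T5): the fixed points of `s`, `t`, `s * t`

Exact signatures of helper61's skeleton `tools/helper61_hall/HallSkel.lean.txt`.
-/

set_option autoImplicit false

namespace Cfsg.Agent.Helper69.HallT5

open MulAction Cfsg.Agent.Helper61.Hall

variable {G : Type*} [Group G] {Ω : Type*} [MulAction G Ω]

/-- `t` is conjugate to `s`. -/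
theorem exists_conj_t_s [Fintype Ω] (h4 : IsMultiplyPretransitive G Ω 4) (hodd : OddStab4 G Ω)
    (hn : 8 ≤ Fintype.card Ω) {s t : G} {p1 p2 p3 p4 : Ω} (cfg : Config s t p1 p2 p3 p4) :
    ∃ g : G, g * t * g⁻¹ = s := by
  obtain ⟨c, hc, hc1, hc2⟩ := exists_moved hodd hn cfg
  have ha : t • p1 ≠ p1 := by rw [cfg.t1]; exact cfg.h12.symm
  have hc3 : t • p3 ≠ p3 := by rw [cfg.t3]; exact cfg.h34.symm
  have hcua : p3 ≠ t • p1 := by rw [cfg.t1]; exact cfg.h23.symm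
  have ha' : s • p1 ≠ p1 := by rw [cfg.s1]; exact cfg.h12.symm
  have hcua' : c ≠ s • p1 := by rw [cfg.s1]; exact hc2
  obtain ⟨g, hg, -, -⟩ := Cfsg.Agent.Helper68.HallT.exists_conj h4 hodd cfg.ht cfg.hs
    ha hc3 cfg.h13.symm hcua ha' hc hc1 hcua'
  exact ⟨g, hg⟩

theorem fixed_points_even [Fintype Ω] (h4 : IsMultiplyPretransitive G Ω 4) (hodd : OddStab4 G Ω)
    (hn : 8 ≤ Fintype.card Ω) (heven : Even (Fintype.card Ω))
    {s t : G} {p1 p2 p3 p4 : Ω} (cfg : Config s t p1 p2 p3 p4) :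
    (∀ q, s • q = q ↔ q = p3 ∨ q = p4) ∧ (∀ q, (s * t) • q = q ↔ q = p1 ∨ q = p2) ∧
    ∃ a b : Ω, a ≠ b ∧ (∀ q, t • q = q ↔ q = a ∨ q = b) ∧ s • a = b ∧ s • b = a := by
  obtain ⟨g, hg⟩ := exists_conj_t_s h4 hodd hn cfg
  exact fixed_points_even_aux hodd heven cfg hg

theorem fixed_points_odd [Fintype Ω] (h4 : IsMultiplyPretransitive G Ω 4) (hodd : OddStab4 G Ω)
    (hn : 8 ≤ Fintype.card Ω) (hoddn : Odd (Fintype.card Ω))
    {s t : G} {p1 p2 p3 p4 : Ω} (cfg : Config s t p1 p2 p3 p4) :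
    ∃ x y z : Ω, x ≠ y ∧ x ≠ z ∧ y ≠ z ∧
      (∀ q, s • q = q ↔ q = p3 ∨ q = p4 ∨ q = x) ∧
      (∀ q, (s * t) • q = q ↔ q = p1 ∨ q = p2 ∨ q = x) ∧
      (∀ q, t • q = q ↔ q = x ∨ q = y ∨ q = z) ∧ s • y = z ∧ s • z = y := by
  obtain ⟨g, hg⟩ := exists_conj_t_s h4 hodd hn cfg
  exact fixed_points_odd_aux hodd hoddn cfg hg

end Cfsg.Agent.Helper69.HallT5
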