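import Mathlib
import Cfsg.Agent.Helper62.D8.Defs

/-!
# (KW) for S3716 (helper62 skeleton): the lattice vectors `w₁ … w₄` from the arithmetic data
-/

set_option autoImplicit false
open Finset

namespace Cfsg.Agent.Helper69.D8

open Cfsg Cfsg.Agent.Helper62.D8

section arith
variable {ι : Type*} [Fintype ι]

/-- the Gram form of two vectors given as sixths of integer combinations of `A B P Q` -/
theorem gram_six (A B P Q x y : ι → ℤ) (a1 a2 a3 a4 b1 b2 b3 b4 : ℤ)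
    (hx : ∀ i, 6 * x i = a1 * A i + a2 * B i + a3 * P i + a4 * Q i)
    (hy : ∀ i, 6 * y i = b1 * A i + b2 * B i + b3 * P i + b4 * Q i) :
    36 * ∑ i, x i * y i =
      a1 * b1 * ∑ i, A i ^ 2 + a2 * b2 * ∑ i, B i ^ 2 + a3 * b3 * ∑ i, P i ^ 2 +
        a4 * b4 * ∑ i, Q i ^ 2 + (a1 * b2 + a2 * b1) * ∑ i, A i * B i +
        (a1 * b3 + a3 * b1) * ∑ i, A i * P i + (a1 * b4 + a4 * b1) * ∑ i, A i * Q i +
        (a2 * b3 + a3 * b2) * ∑ i, B i * P i + (a2 * b4 + a4 * b2) * ∑ i, B i * Q i +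
        (a3 * b4 + a4 * b3) * ∑ i, P i * Q i := by
  simp only [Finset.mul_sum, ← Finset.sum_add_distrib]
  apply Finset.sum_congr rfl
  intro i _
  have e : 36 * (x i * y i) = (6 * x i) * (6 * y i) := by ring
  rw [e, hx i, hy i]
  ring

/-- the linear form `∑ d·x` of a vector given as a sixth of an integer combination -/
theorem lin_six (d : ι → ℕ) (A B P Q x : ι → ℤ) (a1 a2 a3 a4 : ℤ)
    (hx : ∀ i, 6 * x i = a1 * A i + a2 * B i + a3 * P i + a4 * Q i) :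
    6 * ∑ i, (d i : ℤ) * x i =
      a1 * ∑ i, (d i : ℤ) * A i + a2 * ∑ i, (d i : ℤ) * B i + a3 * ∑ i, (d i : ℤ) * P i +
        a4 * ∑ i, (d i : ℤ) * Q i := by
  simp only [Finset.mul_sum, ← Finset.sum_add_distrib]
  apply Finset.sum_congr rfl
  intro i _
  have e : 6 * ((d i : ℤ) * x i) = (d i : ℤ) * (6 * x i) := by ring
  rw [e, hx i]
  ring

variable [DecidableEq ι]

/-- **(KW)** the lattice vectors. -/
theorem lat_of_arith (o : ι) (d : ι → ℕ) (A B P Q : ι → ℤ) (n : ℕ) (h : Arith o d A B P Q n) :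
    ∃ w₁ w₂ w₃ w₄ : ι → ℤ, Lat o d w₁ w₂ w₃ w₄ ∧
      (∀ i, A i = 2 * (w₃ i + w₄ i) - (w₁ i + w₂ i)) ∧
      (∀ i, B i = 2 * (w₁ i + w₂ i) - (w₃ i + w₄ i)) ∧
      (∀ i, P i = w₁ i - w₂ i) ∧ (∀ i, Q i = w₃ i - w₄ i) := by
  have hd1 : ∀ i, (6 : ℤ) ∣ A i + 2 * B i + 3 * P i := by
    intro i
    have h1 := h.m3A i
    have h2 := h.m3B i
    have h3 := h.parP i
    omega
  have hd2 : ∀ i, (6 : ℤ) ∣ A i + 2 * B i - 3 * P i := by
    intro i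
    have h1 := h.m3A i
    have h2 := h.m3B i
    have h3 := h.parP i
    omega
  have hd3 : ∀ i, (6 : ℤ) ∣ 2 * A i + B i + 3 * Q i := by
    intro i
    have h1 := h.m3A i
    have h2 := h.m3B i
    have h3 := h.parQ i
    omega
  have hd4 : ∀ i, (6 : ℤ) ∣ 2 * A i + B i - 3 * Q i := by
    intro i
    have h1 := h.m3A i
    have h2 := h.m3B i
    have h3 := h.parQ i
    omega
  obtain ⟨w₁, hw₁⟩ : ∃ w₁ : ι → ℤ, ∀ i, 6 * w₁ i = 1 * A i + 2 * B i + 3 * P i + 0 * Q i :=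
    ⟨fun i => (A i + 2 * B i + 3 * P i) / 6, fun i => by
      rw [Int.mul_ediv_cancel' (hd1 i)]; ring⟩
  obtain ⟨w₂, hw₂⟩ : ∃ w₂ : ι → ℤ, ∀ i, 6 * w₂ i = 1 * A i + 2 * B i + (-3) * P i + 0 * Q i :=
    ⟨fun i => (A i + 2 * B i - 3 * P i) / 6, fun i => by
      rw [Int.mul_ediv_cancel' (hd2 i)]; ring⟩
  obtain ⟨w₃, hw₃⟩ : ∃ w₃ : ι → ℤ, ∀ i, 6 * w₃ i = 2 * A i + 1 * B i + 0 * P i + 3 * Q i :=
    ⟨fun i => (2 * A i + B i + 3 * Q i) / 6, fun i => by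
      rw [Int.mul_ediv_cancel' (hd3 i)]; ring⟩
  obtain ⟨w₄, hw₄⟩ : ∃ w₄ : ι → ℤ, ∀ i, 6 * w₄ i = 2 * A i + 1 * B i + 0 * P i + (-3) * Q i :=
    ⟨fun i => (2 * A i + B i - 3 * Q i) / 6, fun i => by
      rw [Int.mul_ediv_cancel' (hd4 i)]; ring⟩
  have sq_sum : ∀ w : ι → ℤ, ∑ i, w i ^ 2 = ∑ i, w i * w i := fun w =>
    Finset.sum_congr rfl (fun i _ => sq (w i))
  refine ⟨w₁, w₂, w₃, w₄, ?_, ?_, ?_, ?_, ?_⟩
  · refine ⟨h.dpos, ?_, ?_, ?_, ?_, ?_, ?_, ?_, ?_, ?_, ?_, ?_, ?_, ?_, ?_, ?_, ?_, ?_, ?_, ?_⟩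
    · have := hw₁ o
      rw [h.A_o, h.B_o, h.P_o, h.Q_o] at this
      omega
    · have := hw₂ o
      rw [h.A_o, h.B_o, h.P_o, h.Q_o] at this
      omega
    · have := hw₃ o
      rw [h.A_o, h.B_o, h.P_o, h.Q_o] at this
      omega
    · have := hw₄ o
      rw [h.A_o, h.B_o, h.P_o, h.Q_o] at this
      omega
    · have := gram_six A B P Q w₁ w₁ _ _ _ _ _ _ _ _ hw₁ hw₁
      rw [h.AA, h.BB, h.PP, h.QQ, h.AB, h.AP, h.AQ, h.BP, h.BQ, h.PQ] at this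
      rw [sq_sum]
      omega
    · have := gram_six A B P Q w₂ w₂ _ _ _ _ _ _ _ _ hw₂ hw₂
      rw [h.AA, h.BB, h.PP, h.QQ, h.AB, h.AP, h.AQ, h.BP, h.BQ, h.PQ] at this
      rw [sq_sum]
      omega
    · have := gram_six A B P Q w₃ w₃ _ _ _ _ _ _ _ _ hw₃ hw₃
      rw [h.AA, h.BB, h.PP, h.QQ, h.AB, h.AP, h.AQ, h.BP, h.BQ, h.PQ] at this
      rw [sq_sum]
      omega
    · have := gram_six A B P Q w₄ w₄ _ _ _ _ _ _ _ _ hw₄ hw₄
      rw [h.AA, h.BB, h.PP, h.QQ, h.AB, h.AP, h.AQ, h.BP, h.BQ, h.PQ] at this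
      rw [sq_sum]
      omega
    · have := gram_six A B P Q w₁ w₂ _ _ _ _ _ _ _ _ hw₁ hw₂
      rw [h.AA, h.BB, h.PP, h.QQ, h.AB, h.AP, h.AQ, h.BP, h.BQ, h.PQ] at this
      omega
    · have := gram_six A B P Q w₃ w₄ _ _ _ _ _ _ _ _ hw₃ hw₄
      rw [h.AA, h.BB, h.PP, h.QQ, h.AB, h.AP, h.AQ, h.BP, h.BQ, h.PQ] at this
      omega
    · have := gram_six A B P Q w₁ w₃ _ _ _ _ _ _ _ _ hw₁ hw₃
      rw [h.AA, h.BB, h.PP, h.QQ, h.AB, h.AP, h.AQ, h.BP, h.BQ, h.PQ] at this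
      omega
    · have := gram_six A B P Q w₁ w₄ _ _ _ _ _ _ _ _ hw₁ hw₄
      rw [h.AA, h.BB, h.PP, h.QQ, h.AB, h.AP, h.AQ, h.BP, h.BQ, h.PQ] at this
      omega
    · have := gram_six A B P Q w₂ w₃ _ _ _ _ _ _ _ _ hw₂ hw₃
      rw [h.AA, h.BB, h.PP, h.QQ, h.AB, h.AP, h.AQ, h.BP, h.BQ, h.PQ] at this
      omega
    · have := gram_six A B P Q w₂ w₄ _ _ _ _ _ _ _ _ hw₂ hw₄
      rw [h.AA, h.BB, h.PP, h.QQ, h.AB, h.AP, h.AQ, h.BP, h.BQ, h.PQ] at this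
      omega
    · have := lin_six d A B P Q w₁ _ _ _ _ hw₁
      rw [h.dA, h.dB, h.dP, h.dQ] at this
      omega
    · have := lin_six d A B P Q w₂ _ _ _ _ hw₂
      rw [h.dA, h.dB, h.dP, h.dQ] at this
      omega
    · have := lin_six d A B P Q w₃ _ _ _ _ hw₃
      rw [h.dA, h.dB, h.dP, h.dQ] at this
      omega
    · have := lin_six d A B P Q w₄ _ _ _ _ hw₄
      rw [h.dA, h.dB, h.dP, h.dQ] at this
      omega
    · intro i h12 h34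
      have e1 := hw₁ i
      have e2 := hw₂ i
      have e3 := hw₃ i
      have e4 := hw₄ i
      have hA : A i = 0 := by omega
      have hB : B i = 0 := by omega
      obtain ⟨hP, hQ⟩ := h.dz i hA hB
      rw [hA, hB, hP, hQ] at e1 e2 e3 e4
      refine ⟨?_, ?_, ?_, ?_⟩ <;> omega
  · intro i
    have e1 := hw₁ i
    have e2 := hw₂ i
    have e3 := hw₃ i
    have e4 := hw₄ i
    omega
  · intro i
    have e1 := hw₁ i
    have e2 := hw₂ i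
    have e3 := hw₃ i
    have e4 := hw₄ i
    omega
  · intro i
    have e1 := hw₁ i
    have e2 := hw₂ i
    omega
  · intro i
    have e3 := hw₃ i
    have e4 := hw₄ i
    omega

end arith

end Cfsg.Agent.Helper69.D8
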