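import Mathlib
import Cfsg.Agent.Helper42.MaxSylB

/-!
# (S3), (S3') for S2222 (helper86 skeleton): signs of compatible permutations
-/

set_option autoImplicit false
set_option linter.unusedSectionVars false
set_option linter.unusedVariables false

namespace Cfsg.Agent.Helper69.AltPro

open Equiv Equiv.Perm Cfsg.Agent.Helper42 Cfsg.Agent.Helper42.MaxSyl

theorem sign_viaEmbedding_aux {α δ : Type*} [DecidableEq α] [Fintype α] [DecidableEq δ]
    [Fintype δ] (e : Perm α) (ι : α ↪ δ) : Perm.sign (e.viaEmbedding ι) = Perm.sign e := by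
  unfold Perm.viaEmbedding
  have key : ∀ (inst : DecidablePred (fun b => b ∈ Set.range ι.1)),
      Perm.sign (@Perm.extendDomain α δ e (fun b => b ∈ Set.range ι.1) inst
        (ofInjective ι.1 ι.2)) = Perm.sign e := by
    intro inst
    exact Perm.sign_extendDomain e _
  exact key _

theorem sign_addRight_zmod2 (a : ZMod 2) :
    Perm.sign (Equiv.addRight a) = if a = 1 then -1 else 1 := by
  revert a
  decide

variable {β γ : Type*} [DecidableEq β] [Fintype β] [DecidableEq γ] [Fintype γ]

/-- (S3) the sign of a compatible permutation with trivial fibre permutation. -/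
theorem sign_of_compat_one {ι : β × ZMod 2 ↪ γ} {y : Perm γ} {f : β → ZMod 2}
    (h : Compat ι y 1 f) :
    Perm.sign y = (-1) ^ (Finset.univ.filter (fun i => f i = 1)).card := by
  rw [compat_iff] at h
  rw [h, lf_one, mul_one, sign_viaEmbedding_aux, tr, Perm.sign_prodCongrRight]
  simp_rw [sign_addRight_zmod2]
  rw [Finset.prod_ite, Finset.prod_const_one, mul_one, Finset.prod_const]

/-- (S3') lifts of fibre permutations are even. -/
theorem sign_of_compat_zero {ι : β × ZMod 2 ↪ γ} {y : Perm γ} {σ : Perm β}
    (h : Compat ι y σ 0) : Perm.sign y = 1 := by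
  rw [compat_iff] at h
  rw [h, tr_zero, one_mul, sign_viaEmbedding_aux, lf, Perm.sign_prodCongrLeft]
  rw [Finset.prod_const, Finset.card_univ, ZMod.card, sq]
  exact Int.units_mul_self _

end Cfsg.Agent.Helper69.AltPro
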