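import Mathlib
import Cfsg.Agent.Helper42.MaxSylB

/-!
# (S4) for S2222 (helper86 skeleton): the number of moved points
-/

set_option autoImplicit false
set_option linter.unusedSectionVars false
set_option linter.unusedVariables false

namespace Cfsg.Agent.Helper69.AltPro

open Equiv Equiv.Perm Cfsg.Agent.Helper42 Cfsg.Agent.Helper42.MaxSyl

variable {β γ : Type*} [DecidableEq β] [Fintype β] [DecidableEq γ] [Fintype γ]

/-- (S4) the number of moved points. -/
theorem card_support_of_compat_one {ι : β × ZMod 2 ↪ γ} {y : Perm γ} {f : β → ZMod 2}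
    (h : Compat ι y 1 f) :
    y.support.card = 2 * (Finset.univ.filter (fun i => f i = 1)).card := by
  have hs : y.support = ((Finset.univ.filter (fun i => f i = 1)) ×ˢ
      (Finset.univ : Finset (ZMod 2))).map ι := by
    ext b
    rw [Perm.mem_support, Finset.mem_map]
    constructor
    · intro hb
      by_cases hr : b ∈ Set.range ι
      · obtain ⟨⟨i, t⟩, rfl⟩ := hr
        refine ⟨(i, t), ?_, rfl⟩
        rw [Finset.mem_product]
        refine ⟨?_, Finset.mem_univ _⟩
        rw [Finset.mem_filter]
        refine ⟨Finset.mem_univ _, ?_⟩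
        rcases zmod2_cases (f i) with h0 | h1
        · exfalso; apply hb; rw [h.app, Perm.one_apply, h0, add_zero]
        · exact h1
      · exact absurd (h.out b hr) hb
    · rintro ⟨⟨i, t⟩, hit, rfl⟩
      rw [Finset.mem_product, Finset.mem_filter] at hit
      rw [h.app, Perm.one_apply, hit.1.2]
      intro heq
      have := ι.injective heq
      rw [Prod.mk.injEq] at this
      exact zmod2_add_one_ne t this.2
  rw [hs, Finset.card_map, Finset.card_product, Finset.card_univ, ZMod.card, mul_comm]

end Cfsg.Agent.Helper69.AltPro
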