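-- helper69: groups whose two largest class sizes are coprime (Bianchi–Gillio–Casolo), part 1:
-- basic lemmas on products with elements of the two largest classes.
import Mathlib
import Cfsg.Agent.Helper69.Bhm3
import Cfsg.Agent.S4127

set_option autoImplicit false

namespace Cfsg.Agent.Helper69.Bgc

open Subgroup Cfsg.Agent.Helper69 Cfsg.Agent.Helper69.Bhm

variable {G : Type*} [Group G]

/-- The hypotheses: `m > n > 1` coprime, every class size is at most `m`, and every class size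
below `m` is at most `n`. -/
structure Two (G : Type*) [Group G] (m n : ℕ) : Prop where
  hmn : n < m
  hn : 1 < n
  hcop : m.Coprime n
  htop : ∀ z : G, ci z ≤ m
  hsecond : ∀ z : G, ci z < m → ci z ≤ n

/-- centralizer of a product of commuting elements of coprime orders -/
theorem cz_mul_of_coprime {x v : G} (hc : Commute x v)
    (hcop : (orderOf x).Coprime (orderOf v)) : cz (x * v) = cz x ⊓ cz v := by
  apply le_antisymm
  · have h1 : x ∈ zpowers (x * v) := Cfsg.Agent.S4127.mem_zpowers_mul_of_coprime hc.eq hcop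
    have h2 : v ∈ zpowers (x * v) := by
      have := Cfsg.Agent.S4127.mem_zpowers_mul_of_coprime hc.symm.eq hcop.symm
      rwa [hc.symm.eq] at this
    exact le_inf (cz_le_of_mem_zpowers h1) (cz_le_of_mem_zpowers h2)
  · exact cz_inf_le_cz_mul x v

theorem mem_zpowers_mul_left {x v : G} (hc : Commute x v)
    (hcop : (orderOf x).Coprime (orderOf v)) : x ∈ zpowers (x * v) :=
  Cfsg.Agent.S4127.mem_zpowers_mul_of_coprime hc.eq hcop

theorem mem_zpowers_mul_right {x v : G} (hc : Commute x v)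
    (hcop : (orderOf x).Coprime (orderOf v)) : v ∈ zpowers (x * v) := by
  have := Cfsg.Agent.S4127.mem_zpowers_mul_of_coprime hc.symm.eq hcop.symm
  rwa [hc.symm.eq] at this

section finite
variable [Finite G] {m n : ℕ}

theorem le_of_le_of_index_eq {H K : Subgroup G} (hle : H ≤ K) (he : H.index = K.index) :
    K ≤ H := by
  have h3 : H.relIndex K * K.index = H.index := Subgroup.relIndex_mul_index hle
  have hK : 0 < K.index := Nat.pos_of_ne_zero Subgroup.index_ne_zero_of_finite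
  have h4 : H.relIndex K = 1 := by
    rw [he] at h3
    exact Nat.eq_of_mul_eq_mul_right hK (by rw [h3, one_mul])
  exact Subgroup.relIndex_eq_one.mp h4

theorem Two.n_not_dvd_m (h : Two G m n) : ¬ n ∣ m := by
  intro hd
  have h1 : n ∣ Nat.gcd m n := Nat.dvd_gcd hd dvd_rfl
  rw [h.hcop.gcd_eq_one] at h1
  have h2 := Nat.le_of_dvd one_pos h1
  have := h.hn
  omega

theorem Two.ci_eq_n_of_dvd (h : Two G m n) {g : G} (hd : n ∣ ci g) : ci g = n := by
  have h1 := h.htop g
  have h2 : ci g ≠ m := fun e => h.n_not_dvd_m (e ▸ hd)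
  have h3 : ci g ≤ n := h.hsecond g (lt_of_le_of_ne h1 h2)
  exact le_antisymm h3 (Nat.le_of_dvd (ci_pos g) hd)

theorem Two.ci_eq_m_of_dvd (h : Two G m n) {g : G} (hd : m ∣ ci g) : ci g = m :=
  le_antisymm (h.htop g) (Nat.le_of_dvd (ci_pos g) hd)

theorem Two.ci_eq_m_of_not_le (h : Two G m n) {g : G} (hg : ¬ ci g ≤ n) : ci g = m := by
  by_contra hne
  exact hg (h.hsecond g (lt_of_le_of_ne (h.htop g) hne))

/-- (F1) -/
theorem Two.f1 (h : Two G m n) {a y : G} (ha : ci a = n) (hc : Commute a y)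
    (hcop : (orderOf a).Coprime (orderOf y)) : ci (a * y) = n ∧ cz a ≤ cz y := by
  have e := cz_mul_of_coprime hc hcop
  have hd : ci a ∣ ci (a * y) := by
    unfold ci; rw [e]; exact Subgroup.index_dvd_of_le inf_le_left
  rw [ha] at hd
  have h1 := h.ci_eq_n_of_dvd hd
  refine ⟨h1, ?_⟩
  have h2 : (cz a ⊓ cz y).index = (cz a).index := by
    rw [← e]; exact h1.trans ha.symm
  exact (le_of_le_of_index_eq inf_le_left h2).trans inf_le_right

/-- (F2) -/
theorem Two.f2 (h : Two G m n) {b y : G} (hb : ci b = m) (hc : Commute b y)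
    (hcop : (orderOf b).Coprime (orderOf y)) : ci (b * y) = m ∧ cz b ≤ cz y := by
  have e := cz_mul_of_coprime hc hcop
  have hd : ci b ∣ ci (b * y) := by
    unfold ci; rw [e]; exact Subgroup.index_dvd_of_le inf_le_left
  rw [hb] at hd
  have h1 := h.ci_eq_m_of_dvd hd
  refine ⟨h1, ?_⟩
  have h2 : (cz b ⊓ cz y).index = (cz b).index := by
    rw [← e]; exact h1.trans hb.symm
  exact (le_of_le_of_index_eq inf_le_left h2).trans inf_le_right

/-- The absorption lemma in general form. -/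
theorem abs_conj' {u v : G} (hcop : Nat.Coprime (ci u) (ci v)) (heq : ci (u * v) = ci v) (g : G) :
    ∃ c : G, u⁻¹ * (g * u * g⁻¹) * v = c * v * c⁻¹ := by
  obtain ⟨t, ht⟩ := conj_mul_conj hcop g 1
  have hcop2 : Nat.Coprime (ci u) (ci (u * v)) := by rw [heq]; exact hcop
  obtain ⟨c, hc, d, hdd, hw⟩ :=
    Cfsg.Agent.Helper9.exists_mul_of_coprime_index (cz u) (cz (u * v)) hcop2 t
  rw [mem_cz_iff] at hc hdd
  refine ⟨c, ?_⟩
  have h1 : g * u * g⁻¹ * v = t * (u * v) * t⁻¹ := by simpa using ht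
  have h2 : t * (u * v) * t⁻¹ = c * (u * v) * c⁻¹ := by
    have h4 : d * (u * v) * d⁻¹ = u * v := by rw [hdd]; group
    rw [hw]
    calc c * d * (u * v) * (c * d)⁻¹ = c * (d * (u * v) * d⁻¹) * c⁻¹ := by group
      _ = c * (u * v) * c⁻¹ := by rw [h4]
  have h3 : c * u * c⁻¹ = u := by rw [hc]; group
  calc u⁻¹ * (g * u * g⁻¹) * v = u⁻¹ * (g * u * g⁻¹ * v) := by group
    _ = u⁻¹ * (c * (u * v) * c⁻¹) := by rw [h1, h2]
    _ = u⁻¹ * ((c * u * c⁻¹) * (c * v * c⁻¹)) := by group
    _ = c * v * c⁻¹ := by rw [h3]; group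

theorem gen_mem_pres' {u v : G} (hcop : Nat.Coprime (ci u) (ci v))
    (heq : ∀ t : G, ci (u * (t * v * t⁻¹)) = ci v) (g : G) :
    u⁻¹ * (g * u * g⁻¹) ∈ presSubgroup v := by
  rintro x ⟨t, rfl⟩
  have hcop' : Nat.Coprime (ci u) (ci (t * v * t⁻¹)) := by rw [ci_conj]; exact hcop
  have heq' : ci (u * (t * v * t⁻¹)) = ci (t * v * t⁻¹) := by rw [ci_conj]; exact heq t
  obtain ⟨c, hc⟩ := abs_conj' hcop' heq' g
  refine ⟨c * t, ?_⟩
  show c * t * v * (c * t)⁻¹ = u⁻¹ * (g * u * g⁻¹) * (t * v * t⁻¹)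
  rw [hc]; group

/-- (E1) -/
theorem Two.ci_mul_B (h : Two G m n) {g b : G} (hb : ci b = m) (hg : (ci g).Coprime m) :
    ci (g * b) = m := by
  have h1 : ci b ≤ ci (g * b) := ci_le_ci_mul_right (by rw [hb]; exact hg)
  rw [hb] at h1
  exact le_antisymm (h.htop _) h1

theorem Two.gen_mem_pres_B (h : Two G m n) {g b : G} (hb : ci b = m) (hg : (ci g).Coprime m)
    (t : G) : g⁻¹ * (t * g * t⁻¹) ∈ presSubgroup b := by
  apply gen_mem_pres' (by rw [hb]; exact hg)
  intro s
  rw [hb]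
  exact h.ci_mul_B (by rw [ci_conj]; exact hb) hg

/-- (E2) -/
theorem Two.ci_mul_A (h : Two G m n) {g a : G} (ha : ci a = n) (hg : (ci g).Coprime n)
    (hgm : ci g ≠ m) : ci (g * a) = n := by
  have hcop : Nat.Coprime (ci g) (ci a) := by rw [ha]; exact hg
  have h1 : ci a ≤ ci (g * a) := ci_le_ci_mul_right hcop
  have h2 : ci (g * a) ∣ ci g * ci a := ci_mul_dvd hcop
  rw [ha] at h1 h2
  have h3 : ci (g * a) ≠ m := by
    intro e
    rw [e] at h2
    have h4 : m ∣ ci g := (Nat.Coprime.dvd_mul_right h.hcop).mp h2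
    have h5 := Nat.le_of_dvd (ci_pos g) h4
    have h6 := h.htop g
    omega
  have h4 : ci (g * a) ≤ n := h.hsecond _ (lt_of_le_of_ne (h.htop _) h3)
  omega

theorem Two.gen_mem_pres_A (h : Two G m n) {g a : G} (ha : ci a = n) (hg : (ci g).Coprime n)
    (hgm : ci g ≠ m) (t : G) : g⁻¹ * (t * g * t⁻¹) ∈ presSubgroup a := by
  apply gen_mem_pres' (by rw [ha]; exact hg)
  intro s
  rw [ha]
  exact h.ci_mul_A (by rw [ci_conj]; exact ha) hg hgm

end finite

end Cfsg.Agent.Helper69.Bgc
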