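-- helper69: coprime conjugacy class sizes (Bertram–Herzog–Mann / Kazarin style lemmas), part 4:
-- big-side elements act fixed-point-freely on `N / Z`.
import Mathlib
import Cfsg.Agent.Helper69.Bhm3
import Cfsg.Agent.S4127
import Cfsg.Agent.Helper67.Conj

set_option autoImplicit false

namespace Cfsg.Agent.Helper69.Bhm

open Subgroup

variable {G : Type*} [Group G] [Finite G] {σ τ : Set ℕ}

theorem Cfg.kSub_le_pres' (h : Cfg G σ τ) {c : G} (hc : IsA τ c) :
    kSub G σ ≤ presSubgroup c := by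
  unfold kSub
  rw [closure_le]
  rintro x ⟨a, g, ha, rfl⟩
  exact gen_mem_presSubgroup h.disj h.dich ha.2 hc (h.ci_lt ha hc) g

/-- the commutator map `n ↦ n⁻¹ (x n x⁻¹)` on the abelian normal subgroup `N` -/
def Cfg.theta (h : Cfg G σ τ) (x : G) : h.nSub →* h.nSub :=
  MonoidHom.mk' (fun n => ⟨(n : G)⁻¹ * (x * (n : G) * x⁻¹),
      mul_mem (inv_mem n.2) (h.nSub_normal.conj_mem _ n.2 x)⟩) (by
    intro n m
    apply Subtype.ext
    show ((n * m : h.nSub) : G)⁻¹ * (x * ((n * m : h.nSub) : G) * x⁻¹) =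
      ((n : G)⁻¹ * (x * n * x⁻¹)) * ((m : G)⁻¹ * (x * m * x⁻¹))
    simp only [Subgroup.coe_mul]
    have hc : (m : G)⁻¹ * ((n : G)⁻¹ * (x * n * x⁻¹)) = ((n : G)⁻¹ * (x * n * x⁻¹)) * (m : G)⁻¹ :=
      h.nSub_comm (inv_mem m.2) (mul_mem (inv_mem n.2) (h.nSub_normal.conj_mem _ n.2 x))
    calc ((n : G) * m)⁻¹ * (x * ((n : G) * m) * x⁻¹)
        = (m : G)⁻¹ * ((n : G)⁻¹ * (x * n * x⁻¹)) * (x * m * x⁻¹) := by group
      _ = ((n : G)⁻¹ * (x * n * x⁻¹)) * (m : G)⁻¹ * (x * m * x⁻¹) := by rw [hc]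
      _ = ((n : G)⁻¹ * (x * n * x⁻¹)) * ((m : G)⁻¹ * (x * m * x⁻¹)) := by group)

theorem Cfg.theta_coe (h : Cfg G σ τ) (x : G) (n : h.nSub) :
    ((h.theta x n : h.nSub) : G) = (n : G)⁻¹ * (x * (n : G) * x⁻¹) := rfl

theorem Cfg.mem_ker_theta (h : Cfg G σ τ) (x : G) (n : h.nSub) :
    n ∈ (h.theta x).ker ↔ x * (n : G) = (n : G) * x := by
  rw [MonoidHom.mem_ker, Subtype.ext_iff, h.theta_coe]
  show (n : G)⁻¹ * (x * (n : G) * x⁻¹) = 1 ↔ _
  constructor
  · intro h1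
    have h2 : x * (n : G) * x⁻¹ = n := by
      have h3 : (n : G) * ((n : G)⁻¹ * (x * (n : G) * x⁻¹)) = (n : G) * 1 := by rw [h1]
      rwa [mul_inv_cancel_left, mul_one] at h3
    calc x * (n : G) = (x * (n : G) * x⁻¹) * x := by group
      _ = (n : G) * x := by rw [h2]
  · intro h1
    rw [h1]; group

theorem Cfg.theta_mem_kSub (h : Cfg G σ τ) (x : G) (m : h.nSub) :
    ((h.theta x m : h.nSub) : G) ∈ kSub G σ := by
  rw [h.theta_coe]
  rcases h.mem_center_or_isA m.2 with hc | ha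
  · have h1 : x * (m : G) * x⁻¹ = m := by
      rw [Subgroup.mem_center_iff.mp hc x]; group
    rw [h1, inv_mul_cancel]
    exact one_mem _
  · exact gen_mem_kSub ha x

/-- `θ_u ∘ θ_u` has kernel inside the centre when `u` is a `σ`-element with `C_N(u) = Z`. -/
theorem Cfg.ker_theta_sq (h : Cfg G σ τ) {u : G} (hpi : IsPi σ u)
    (hcu : ∀ n ∈ h.nSub, n * u = u * n → n ∈ center G) (n : h.nSub)
    (hn : h.theta u (h.theta u n) = 1) : (n : G) ∈ center G := by
  obtain ⟨z, hz⟩ : ∃ z : G, z = ((h.theta u n : h.nSub) : G) := ⟨_, rfl⟩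
  have hzN : z ∈ h.nSub := by rw [hz]; exact (h.theta u n).2
  have hzu : u * z = z * u := by
    rw [hz]
    exact (h.mem_ker_theta u (h.theta u n)).mp (MonoidHom.mem_ker.mpr hn)
  have hzc : z ∈ center G := hcu z hzN hzu.symm
  have hzg : ∀ g : G, g * z = z * g := Subgroup.mem_center_iff.mp hzc
  have hzK : z ∈ kSub G σ := by rw [hz]; exact h.theta_mem_kSub u n
  have hunz : u * (n : G) * u⁻¹ = (n : G) * z := by
    rw [hz, h.theta_coe]; group
  have hind : ∀ j : ℕ, u ^ j * (n : G) * (u ^ j)⁻¹ = (n : G) * z ^ j := by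
    intro j
    induction j with
    | zero => simp
    | succ j ih =>
      have hzj : u * z ^ j * u⁻¹ = z ^ j := by
        have := (Commute.pow_right (show Commute u z from hzg u) j).eq
        rw [this]; group
      calc u ^ (j + 1) * (n : G) * (u ^ (j + 1))⁻¹
          = u * (u ^ j * (n : G) * (u ^ j)⁻¹) * u⁻¹ := by rw [pow_succ']; group
        _ = u * ((n : G) * z ^ j) * u⁻¹ := by rw [ih]
        _ = (u * (n : G) * u⁻¹) * (u * z ^ j * u⁻¹) := by group
        _ = (n : G) * z * z ^ j := by rw [hunz, hzj]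
        _ = (n : G) * z ^ (j + 1) := by rw [pow_succ', mul_assoc]
  have hpow : z ^ orderOf u = 1 := by
    have h1 := hind (orderOf u)
    rw [pow_orderOf_eq_one, one_mul, inv_one, mul_one] at h1
    have h2 : (n : G) * 1 = (n : G) * z ^ orderOf u := by rw [mul_one]; exact h1
    exact (mul_left_cancel h2).symm
  have hdvd : orderOf z ∣ orderOf u := orderOf_dvd_of_pow_eq_one hpow
  have h1 : orderOf z = 1 :=
    PiNat.eq_one' h.disj (fun p hp hd => hpi p hp (hd.trans hdvd)) (h.piNat_orderOf hzK)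
  have hz1 : z = 1 := orderOf_eq_one_iff.mp h1
  rw [hz1, mul_one] at hunz
  apply hcu _ n.2
  calc (n : G) * u = (u * (n : G) * u⁻¹) * u := by rw [hunz]
    _ = u * (n : G) := by group

/-- For `k ∈ K`, `θ_u k` lies in the range of `θ_c`. -/
theorem Cfg.theta_mem_range (h : Cfg G σ τ) {c u : G} (hc : IsA τ c) (hucomm : u * c = c * u)
    (hP2 : ∀ t : G, t * u * t⁻¹ * u⁻¹ ∈ h.nSub) (k : h.nSub) (hk : (k : G) ∈ kSub G σ) :
    h.theta u k ∈ (h.theta c).range := by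
  have hcc : c ∈ cls c := ⟨1, by simp⟩
  obtain ⟨t, ht⟩ := (h.kSub_le_pres' hc hk) c hcc
  have ht' : t * c * t⁻¹ = (k : G) * c := ht
  obtain ⟨nn, hnn⟩ : ∃ nn : G, nn = t * u * t⁻¹ * u⁻¹ := ⟨_, rfl⟩
  have hnnN : nn ∈ h.nSub := by rw [hnn]; exact hP2 t
  have htu : t * u * t⁻¹ = nn * u := by rw [hnn]; group
  have e1 : nn * u * ((k : G) * c) = (k : G) * c * (nn * u) := by
    rw [← htu, ← ht']
    calc t * u * t⁻¹ * (t * c * t⁻¹) = t * (u * c) * t⁻¹ := by group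
      _ = t * (c * u) * t⁻¹ := by rw [hucomm]
      _ = t * c * t⁻¹ * (t * u * t⁻¹) := by group
  have e2 : nn * (u * (k : G) * u⁻¹) = (k : G) * (c * nn * c⁻¹) := by
    have e3 : nn * (u * (k : G) * u⁻¹) * (u * c) = (k : G) * (c * nn * c⁻¹) * (u * c) := by
      calc nn * (u * (k : G) * u⁻¹) * (u * c) = nn * u * ((k : G) * c) := by group
        _ = (k : G) * c * (nn * u) := e1
        _ = (k : G) * (c * nn * c⁻¹) * (c * u) := by group
        _ = (k : G) * (c * nn * c⁻¹) * (u * c) := by rw [hucomm]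
    exact mul_right_cancel e3
  have hcomm : nn⁻¹ * (k : G) = (k : G) * nn⁻¹ := h.nSub_comm (inv_mem hnnN) k.2
  refine ⟨⟨nn, hnnN⟩, ?_⟩
  apply Subtype.ext
  rw [h.theta_coe, h.theta_coe]
  show nn⁻¹ * (c * nn * c⁻¹) = (k : G)⁻¹ * (u * (k : G) * u⁻¹)
  symm
  calc (k : G)⁻¹ * (u * (k : G) * u⁻¹)
      = (k : G)⁻¹ * nn⁻¹ * (nn * (u * (k : G) * u⁻¹)) := by group
    _ = (k : G)⁻¹ * nn⁻¹ * ((k : G) * (c * nn * c⁻¹)) := by rw [e2]
    _ = (k : G)⁻¹ * (nn⁻¹ * (k : G)) * (c * nn * c⁻¹) := by group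
    _ = (k : G)⁻¹ * ((k : G) * nn⁻¹) * (c * nn * c⁻¹) := by rw [hcomm]
    _ = nn⁻¹ * (c * nn * c⁻¹) := by group

theorem Cfg.cent_big_aux (h : Cfg G σ τ) {c u : G} (hc : IsA τ c) (hpi : IsPi σ u)
    (hcu : ∀ n ∈ h.nSub, n * u = u * n → n ∈ center G) (hucomm : u * c = c * u)
    (hP2 : ∀ t : G, t * u * t⁻¹ * u⁻¹ ∈ h.nSub) {n : G} (hn : n ∈ h.nSub)
    (hcomm : n * c = c * n) : n ∈ center G := by
  obtain ⟨f, hf⟩ : ∃ f : h.nSub →* h.nSub, f = (h.theta u).comp (h.theta u) := ⟨_, rfl⟩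
  obtain ⟨g, hg⟩ : ∃ g : h.nSub →* h.nSub, g = h.theta c := ⟨_, rfl⟩
  have hrange : f.range ≤ g.range := by
    rintro x ⟨m, rfl⟩
    rw [hf, hg]
    exact h.theta_mem_range hc hucomm hP2 (h.theta u m) (h.theta_mem_kSub u m)
  have hkerf : ∀ m : h.nSub, m ∈ f.ker → (m : G) ∈ center G := by
    intro m hm
    rw [hf, MonoidHom.mem_ker] at hm
    exact h.ker_theta_sq hpi hcu m hm
  have hker : f.ker ≤ g.ker := by
    intro m hm
    rw [hg, h.mem_ker_theta]
    exact Subgroup.mem_center_iff.mp (hkerf m hm) c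
  have hcard : Nat.card g.ker ≤ Nat.card f.ker := by
    have h1 : f.ker.index = Nat.card f.range := Subgroup.index_ker f
    have h2 : g.ker.index = Nat.card g.range := Subgroup.index_ker g
    have h3 : Nat.card f.range ≤ Nat.card g.range := Subgroup.card_le_of_le hrange
    have h4 := Subgroup.card_mul_index f.ker
    have h5 := Subgroup.card_mul_index g.ker
    have h6 : f.ker.index ≤ g.ker.index := by rw [h1, h2]; exact h3
    have h7 : Nat.card g.ker * g.ker.index ≤ Nat.card f.ker * g.ker.index := by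
      rw [h5, ← h4]
      exact Nat.mul_le_mul_left _ h6
    exact Nat.le_of_mul_le_mul_right h7 (Nat.pos_of_ne_zero Subgroup.index_ne_zero_of_finite)
  have heq : f.ker = g.ker := Subgroup.eq_of_le_of_card_ge hker hcard
  have h8 : (⟨n, hn⟩ : h.nSub) ∈ g.ker := by
    rw [hg, h.mem_ker_theta]
    exact hcomm.symm
  rw [← heq] at h8
  exact hkerf _ h8

/-- a Sylow `p`-subgroup for a prime `p` dividing a class size on the small side is not central -/
theorem exists_noncentral_of_dvd (p : ℕ) [Fact p.Prime] (P : Sylow p G) {a : G}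
    (hpa : p ∣ ci a) : ∃ u ∈ (P : Subgroup G), u ∉ center G := by
  by_contra hcon
  push Not at hcon
  have h1 : (P : Subgroup G) ≤ cz a := fun s hs => center_le_cz a (hcon s hs)
  have h2 : ci a ∣ (P : Subgroup G).index := Subgroup.index_dvd_of_le h1
  exact P.not_dvd_index (hpa.trans h2)

theorem isPi_of_mem_sylow (p : ℕ) [hp : Fact p.Prime] (P : Sylow p G) (hpσ : p ∈ σ) {u : G}
    (hu : u ∈ (P : Subgroup G)) : IsPi σ u := by
  obtain ⟨k, hk⟩ := P.2 ⟨u, hu⟩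
  have h1 : u ^ p ^ k = 1 := by
    have := congrArg Subtype.val hk
    simpa using this
  have h2 : orderOf u ∣ p ^ k := orderOf_dvd_of_pow_eq_one h1
  intro q hq hd
  have h3 : q ∣ p ^ k := hd.trans h2
  have h4 : q = p := (Nat.prime_dvd_prime_iff_eq hq hp.out).mp (hq.dvd_of_dvd_pow h3)
  rw [h4]; exact hpσ

/-- an element of the big side is conjugate into the centralizer of a given Sylow `p`-subgroup,
`p ∈ σ` -/
theorem Cfg.exists_conj_commuting (h : Cfg G σ τ) (p : ℕ) [hp : Fact p.Prime] (hpσ : p ∈ σ)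
    (P : Sylow p G) {b : G} (hb : IsA τ b) :
    ∃ g : G, ∀ s ∈ (P : Subgroup G), s * (g * b * g⁻¹) = (g * b * g⁻¹) * s := by
  have hnd : ¬ p ∣ ci b := fun hd => h.disj p hp.out hpσ (hb.2 p hp.out hd)
  have hcop : (ci b).Coprime p := ((Nat.Prime.coprime_iff_not_dvd hp.out).mpr hnd).symm
  obtain ⟨Q, -, hQ⟩ := Cfsg.Agent.S4127.exists_sylow_commuting b 1 hcop ⟨0, by simp⟩ (by simp)
  obtain ⟨g, hg⟩ := MulAction.exists_smul_eq G Q P
  refine ⟨g, ?_⟩
  intro s hs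
  -- `g⁻¹ s g ∈ Q`
  have hs' : g⁻¹ * s * g ∈ (Q : Subgroup G) := by
    have h1 : g⁻¹ * s * g⁻¹⁻¹ ∈ ((g⁻¹ • P : Sylow p G) : Subgroup G) :=
      Cfsg.Agent.S4127.conj_mem_smul P g⁻¹ s hs
    rw [inv_inv] at h1
    have h2 : g⁻¹ • P = Q := by rw [← hg, inv_smul_smul]
    rwa [h2] at h1
  have h3 := hQ _ hs'
  calc s * (g * b * g⁻¹) = g * ((g⁻¹ * s * g) * b) * g⁻¹ := by group
    _ = g * (b * (g⁻¹ * s * g)) * g⁻¹ := by rw [h3]
    _ = g * b * g⁻¹ * s := by group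

/-- the image of a Sylow `p`-subgroup (`p ∈ σ`) in `G / N` is central -/
theorem Cfg.sylow_central_mod (h : Cfg G σ τ) (p : ℕ) [hp : Fact p.Prime] (hpσ : p ∈ σ)
    (P : Sylow p G) {y : G} (hy : y ∈ (P : Subgroup G)) (t : G) :
    t * y * t⁻¹ * y⁻¹ ∈ h.nSub := by
  haveI := h.nSub_normal
  obtain ⟨M, hM⟩ : ∃ M : Subgroup (G ⧸ h.nSub),
      M = centralizer (((P : Subgroup G).map (QuotientGroup.mk' h.nSub) : Subgroup (G ⧸ h.nSub)) :
        Set (G ⧸ h.nSub)) := ⟨_, rfl⟩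
  have hall : ∀ x : G ⧸ h.nSub, ∃ g : G ⧸ h.nSub, g * x * g⁻¹ ∈ M := by
    intro x
    obtain ⟨x, rfl⟩ := QuotientGroup.mk_surjective x
    by_cases hx : x ∈ h.nSub
    · refine ⟨1, ?_⟩
      have : (QuotientGroup.mk x : G ⧸ h.nSub) = 1 := (QuotientGroup.eq_one_iff x).mpr hx
      rw [this]
      simp
    · obtain ⟨g, hg⟩ := h.exists_conj_commuting p hpσ P (h.isA_of_not_mem hx)
      refine ⟨QuotientGroup.mk g, ?_⟩
      rw [hM, mem_centralizer_iff]
      rintro _ ⟨s, hs, rfl⟩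
      have := congrArg (QuotientGroup.mk' h.nSub) (hg s hs)
      simpa using this
  have htop : M = ⊤ := Cfsg.Agent.Helper67.eq_top_of_forall_exists_conj_mem M hall
  have hmem : (QuotientGroup.mk t : G ⧸ h.nSub) ∈ M := by rw [htop]; exact mem_top _
  rw [hM, mem_centralizer_iff] at hmem
  have h1 := hmem (QuotientGroup.mk y) ⟨y, hy, rfl⟩
  -- mk y * mk t = mk t * mk y
  rw [← QuotientGroup.eq_one_iff]
  have h2 : ((t * y * t⁻¹ * y⁻¹ : G) : G ⧸ h.nSub) =
      (QuotientGroup.mk t * QuotientGroup.mk y) * (QuotientGroup.mk t)⁻¹ * (QuotientGroup.mk y)⁻¹ := by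
    simp
  rw [h2, ← h1]
  group

/-- Step 7: big-side elements commute with no noncentral element of `N`. -/
theorem Cfg.cent_big (h : Cfg G σ τ) {c n : G} (hc : IsA τ c) (hn : n ∈ h.nSub)
    (hcomm : n * c = c * n) : n ∈ center G := by
  obtain ⟨a, ha⟩ := h.exA
  obtain ⟨p, hp, hpa⟩ := Nat.exists_prime_and_dvd ha.1
  have hpσ : p ∈ σ := ha.2 p hp hpa
  haveI : Fact p.Prime := ⟨hp⟩
  obtain ⟨P⟩ := (inferInstance : Nonempty (Sylow p G))
  obtain ⟨u, huP, huc⟩ := exists_noncentral_of_dvd p P hpa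
  have hpi : IsPi σ u := isPi_of_mem_sylow p P hpσ huP
  have hu1 : ci u ≠ 1 := fun h1 => huc ((ci_eq_one_iff u).mp h1)
  have huB : IsA τ u := by
    apply h.isA_of_not_mem
    intro hm
    rcases h.mem_center_or_isA hm with h1 | h1
    · exact huc h1
    · exact h.not_isPi_of_isA h1 hpi
  have hcu : ∀ m ∈ h.nSub, m * u = u * m → m ∈ center G := by
    intro m hm hmu
    rcases h.mem_center_or_isA hm with h1 | h1
    · exact h1
    · exact (h.not_comm_pi h1 huB hpi hmu).elim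
  obtain ⟨g, hg⟩ := h.exists_conj_commuting p hpσ P hc
  have hc' : IsA τ (g * c * g⁻¹) := hc.conj g
  have hn' : g * n * g⁻¹ ∈ h.nSub := h.nSub_normal.conj_mem _ hn g
  have hcomm' : (g * n * g⁻¹) * (g * c * g⁻¹) = (g * c * g⁻¹) * (g * n * g⁻¹) := by
    calc (g * n * g⁻¹) * (g * c * g⁻¹) = g * (n * c) * g⁻¹ := by group
      _ = g * (c * n) * g⁻¹ := by rw [hcomm]
      _ = (g * c * g⁻¹) * (g * n * g⁻¹) := by group
  have hres := h.cent_big_aux hc' hpi hcu (hg u huP)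
    (fun t => h.sylow_central_mod p hpσ P huP t) hn' hcomm'
  have hzg : ∀ x : G, x * (g * n * g⁻¹) = (g * n * g⁻¹) * x := Subgroup.mem_center_iff.mp hres
  have e : n = g * n * g⁻¹ := by
    have := hzg g
    calc n = g⁻¹ * ((g * n * g⁻¹) * g) := by group
      _ = g⁻¹ * (g * (g * n * g⁻¹)) := by rw [← this]
      _ = g * n * g⁻¹ := by group
  rw [e]; exact hres

end Cfsg.Agent.Helper69.Bhm
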