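-- helper69: groups whose two largest class sizes are coprime, part 2:
-- parts of elements of the two largest classes are central; `|G : Z| = m n`.
import Mathlib
import Cfsg.Agent.Helper69.Bgc1
import Cfsg.Agent.Helper69.Bhm4

set_option autoImplicit false

namespace Cfsg.Agent.Helper69.Bgc

open Subgroup Cfsg.Agent.Helper69 Cfsg.Agent.Helper69.Bhm

variable {G : Type*} [Group G]

/-- the subgroup generated by the `u⁻¹ u^t` -/
def cSub (u : G) : Subgroup G := closure (Set.range fun t : G => u⁻¹ * (t * u * t⁻¹))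

theorem gen_mem_cSub (u t : G) : u⁻¹ * (t * u * t⁻¹) ∈ cSub u := subset_closure ⟨t, rfl⟩

instance cSub_normal (u : G) : (cSub u).Normal := by
  constructor
  intro x hx g
  refine Subgroup.closure_induction (p := fun x _ => g * x * g⁻¹ ∈ cSub u) ?_ ?_ ?_ ?_ hx
  · rintro x ⟨t, rfl⟩
    have e : g * (u⁻¹ * (t * u * t⁻¹)) * g⁻¹ =
        (u⁻¹ * (g * u * g⁻¹))⁻¹ * (u⁻¹ * ((g * t) * u * (g * t)⁻¹)) := by group
    rw [e]
    exact mul_mem (inv_mem (gen_mem_cSub u g)) (gen_mem_cSub u (g * t))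
  · simp
  · intro x y _ _ hx hy
    have e : g * (x * y) * g⁻¹ = (g * x * g⁻¹) * (g * y * g⁻¹) := by group
    rw [e]; exact mul_mem hx hy
  · intro x _ hx
    have e : g * x⁻¹ * g⁻¹ = (g * x * g⁻¹)⁻¹ := by group
    rw [e]; exact inv_mem hx

theorem eq_one_of_dvd_of_coprime {d a b : ℕ} (h1 : d ∣ a) (h2 : d ∣ b) (hc : a.Coprime b) :
    d = 1 := by
  have := Nat.dvd_gcd h1 h2
  rw [hc.gcd_eq_one] at this
  exact Nat.dvd_one.mp this

theorem not_dvd_of_coprime {p a b : ℕ} (hp : p.Prime) (hc : a.Coprime b) (h1 : p ∣ a) :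
    ¬ p ∣ b := fun h2 => hp.one_lt.ne' (eq_one_of_dvd_of_coprime h1 h2 hc)

section finite
variable [Finite G] {m n : ℕ}

theorem cSub_le_pres {u v : G} (hpres : ∀ t, u⁻¹ * (t * u * t⁻¹) ∈ presSubgroup v) :
    cSub u ≤ presSubgroup v := by
  unfold cSub
  rw [closure_le]
  rintro x ⟨t, rfl⟩
  exact hpres t

theorem coprime_card_of_le_pres {K : Subgroup G} {v : G} (hK : K ≤ presSubgroup v) {k : ℕ}
    (hk : k.Coprime (ci v)) : (Nat.card K).Coprime k := by
  apply Nat.coprime_of_dvd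
  intro r hr hd1 hd2
  haveI : Fact r.Prime := ⟨hr⟩
  obtain ⟨x, hx⟩ := exists_prime_orderOf_dvd_card' r hd1
  have h1 : r ∣ orderOf (x : G) := by rw [Subgroup.orderOf_coe, hx]
  have h2 : r ∣ ci v := prime_dvd_ci_of_mem_pres (hK x.2) hr h1
  exact not_dvd_of_coprime hr hk hd2 h2

theorem le_cz_of_le_pres {K : Subgroup G} [K.Normal] {v w : G} (hK : K ≤ presSubgroup v)
    (hw : (ci w).Coprime (ci v)) : K ≤ cz w := by
  rw [← Subgroup.relIndex_eq_one]
  have h1 : (cz w).relIndex K ∣ Nat.card K := Subgroup.relIndex_dvd_card _ _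
  have h2 : (cz w).relIndex K ∣ ci w := relIndex_dvd_index_of_normal_right _ _
  exact eq_one_of_dvd_of_coprime h1 h2 (coprime_card_of_le_pres hK hw)

/-- An element all of whose `u⁻¹ u^t` preserve the class of `v`, with order and class size
coprime to `|v^G|`, is central. -/
theorem central_of_pres {u v : G} (hpres : ∀ t, u⁻¹ * (t * u * t⁻¹) ∈ presSubgroup v)
    (ho : (orderOf u).Coprime (ci v)) (hi : (ci u).Coprime (ci v)) : u ∈ center G := by
  have hK : cSub u ≤ presSubgroup v := cSub_le_pres hpres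
  have hle : cSub u ≤ cz u := le_cz_of_le_pres hK hi
  rw [Subgroup.mem_center_iff]
  intro g
  obtain ⟨k, hk⟩ : ∃ k : G, k = u⁻¹ * (g * u * g⁻¹) := ⟨_, rfl⟩
  have hkK : k ∈ cSub u := by rw [hk]; exact gen_mem_cSub u g
  have hcomm : k * u = u * k := mem_cz_iff.mp (hle hkK)
  have hga : g * u * g⁻¹ = u * k := by rw [hk]; group
  have hpow : k ^ orderOf u = 1 := by
    have h1 : (g * u * g⁻¹) ^ orderOf u = 1 := by
      rw [conj_pow, pow_orderOf_eq_one]; group
    rw [hga, (Commute.mul_pow (show Commute u k from hcomm.symm)), pow_orderOf_eq_one,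
      one_mul] at h1
    exact h1
  have hdvd : orderOf k ∣ orderOf u := orderOf_dvd_of_pow_eq_one hpow
  have h1 : orderOf k = 1 := by
    by_contra hne
    obtain ⟨r, hr, hrd⟩ := Nat.exists_prime_and_dvd hne
    have h2 : r ∣ ci v := prime_dvd_ci_of_mem_pres (hK hkK) hr hrd
    exact not_dvd_of_coprime hr ho (hrd.trans hdvd) h2
  have hk1 : k = 1 := orderOf_eq_one_iff.mp h1
  rw [hk1, mul_one] at hga
  calc g * u = (g * u * g⁻¹) * g := by group
    _ = u * g := by rw [hga]

/-- (C') -/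
theorem Two.central_of_coprime_m (h : Two G m n) {b u : G} (hb : ci b = m)
    (ho : (orderOf u).Coprime m) (hi : (ci u).Coprime m) : u ∈ center G :=
  central_of_pres (v := b) (fun t => h.gen_mem_pres_B hb hi t) (by rw [hb]; exact ho)
    (by rw [hb]; exact hi)

/-- (D') -/
theorem Two.central_of_coprime_n (h : Two G m n) {a u : G} (ha : ci a = n)
    (ho : (orderOf u).Coprime n) (hi : (ci u).Coprime n) (hne : ci u ≠ m) : u ∈ center G :=
  central_of_pres (v := a) (fun t => h.gen_mem_pres_A ha hi hne t) (by rw [ha]; exact ho)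
    (by rw [ha]; exact hi)

/-- an element whose class size is prime to `p` is conjugate into the centralizer of a given
Sylow `p`-subgroup -/
theorem exists_conj_commuting' (p : ℕ) [hp : Fact p.Prime] (P : Sylow p G) {b : G}
    (hnd : ¬ p ∣ ci b) :
    ∃ g : G, ∀ s ∈ (P : Subgroup G), s * (g * b * g⁻¹) = (g * b * g⁻¹) * s := by
  have hcop : (ci b).Coprime p := ((Nat.Prime.coprime_iff_not_dvd hp.out).mpr hnd).symm
  obtain ⟨Q, -, hQ⟩ := Cfsg.Agent.S4127.exists_sylow_commuting b 1 hcop ⟨0, by simp⟩ (by simp)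
  obtain ⟨g, hg⟩ := MulAction.exists_smul_eq G Q P
  refine ⟨g, ?_⟩
  intro s hs
  have hs' : g⁻¹ * s * g ∈ (Q : Subgroup G) := by
    have h1 : g⁻¹ * s * g⁻¹⁻¹ ∈ ((g⁻¹ • P : Sylow p G) : Subgroup G) :=
      Cfsg.Agent.S4127.conj_mem_smul P g⁻¹ s hs
    rw [inv_inv] at h1
    have h2 : g⁻¹ • P = Q := by rw [← hg, inv_smul_smul]
    rwa [h2] at h1
  have h3 := hQ _ hs'
  calc s * (g * b * g⁻¹) = g * ((g⁻¹ * s * g) * b) * g⁻¹ := by group
    _ = g * (b * (g⁻¹ * s * g)) * g⁻¹ := by rw [h3]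
    _ = g * b * g⁻¹ * s := by group

/-- (E, core) no element of the largest class has prime power order for a prime not
dividing `n`. -/
theorem Two.no_prime_power_B (h : Two G m n) {a u : G} (ha : ci a = n) (hu : ci u = m)
    {t k : ℕ} (ht : t.Prime) (hto : orderOf u = t ^ k) (htn : ¬ t ∣ n) : False := by
  obtain ⟨r, hr, hrn⟩ := Nat.exists_prime_and_dvd (show n ≠ 1 from fun e => by
    have := h.hn; omega)
  haveI : Fact r.Prime := ⟨hr⟩
  haveI : Fact t.Prime := ⟨ht⟩
  have hrm : ¬ r ∣ m := fun hd => not_dvd_of_coprime hr h.hcop hd hrn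
  have hrt : r ≠ t := fun e => htn (e ▸ hrn)
  have hcop : (ci u).Coprime r := by
    rw [hu]; exact ((Nat.Prime.coprime_iff_not_dvd hr).mpr hrm).symm
  obtain ⟨R, -, hR⟩ := Cfsg.Agent.S4127.exists_sylow_commuting u 1 hcop ⟨0, by simp⟩ (by simp)
  obtain ⟨T, hT⟩ := Cfsg.Agent.S4153.exists_sylow_mem (p := t) ⟨k, hto⟩
  obtain ⟨g, hg⟩ := exists_conj_commuting' t T (b := a) (by rw [ha]; exact htn)
  have hua : u * (g * a * g⁻¹) = (g * a * g⁻¹) * u := hg u hT
  obtain ⟨a', ha'⟩ : ∃ a' : G, a' = g * a * g⁻¹ := ⟨_, rfl⟩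
  rw [← ha'] at hua
  have hle : (R : Subgroup G) ≤ cz a' := by
    intro s hs
    have hsu : Commute u s := (hR s hs).symm
    obtain ⟨j, hj⟩ := Cfsg.Agent.S4153.orderOf_of_mem_sylow R hs
    have hcop2 : (orderOf u).Coprime (orderOf s) := by
      rw [hto, hj]
      exact Nat.Coprime.pow _ _ ((Nat.coprime_primes ht hr).mpr hrt.symm)
    have h2 := (h.f2 hu hsu hcop2).2
    have h3 : a' ∈ cz u := mem_cz_iff.mpr hua.symm
    have h4 := h2 h3
    exact mem_cz_iff.mpr (mem_cz_iff.mp h4).symm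
  have h5 : ci a' ∣ (R : Subgroup G).index := Subgroup.index_dvd_of_le hle
  have h6 : ci a' = n := by rw [ha', ci_conj]; exact ha
  rw [h6] at h5
  exact R.not_dvd_index (hrn.trans h5)

/-- An element all of whose primary parts lie in a subgroup lies in that subgroup. -/
theorem mem_of_primary_parts (S : Subgroup G) (g : G)
    (hS : ∀ u ∈ zpowers g, ∀ t k : ℕ, t.Prime → orderOf u = t ^ k → u ∈ S) : g ∈ S := by
  induction hm : orderOf g using Nat.strong_induction_on generalizing g with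
  | _ N ih =>
    by_cases h1 : orderOf g = 1
    · rw [orderOf_eq_one_iff.mp h1]; exact one_mem _
    · obtain ⟨q, hq, hqd⟩ := Nat.exists_prime_and_dvd h1
      haveI : Fact q.Prime := ⟨hq⟩
      obtain ⟨y, z, hy, hz, hgyz, hyq, k, hzk⟩ :=
        Cfsg.Agent.Helper67.exists_pprime_ppart q (isOfFinOrder_of_finite g)
      have hdvd : orderOf y ∣ N := by
        rw [← hm]; exact orderOf_dvd_of_mem_zpowers hy
      have hlt : orderOf y < N := by
        apply lt_of_le_of_ne (Nat.le_of_dvd (by rw [← hm]; exact orderOf_pos g) hdvd)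
        intro heq
        rw [heq, ← hm] at hyq
        exact (Nat.Prime.coprime_iff_not_dvd hq).mp hyq.symm hqd
      have hle : zpowers y ≤ zpowers g := zpowers_le.mpr hy
      have hyS : y ∈ S :=
        ih (orderOf y) hlt y (fun u hu t k ht hk => hS u (hle hu) t k ht hk) rfl
      obtain ⟨i, hi⟩ := Cfsg.Agent.S4127.orderOf_eq_of_pow_eq_one hzk
      have hzS : z ∈ S := hS z hz q i hq hi
      rw [hgyz]; exact mul_mem hyS hzS

/-- (E'') powers of an element of the largest class with order prime to `n` are central -/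
theorem Two.central_of_mem_zpowers_B (h : Two G m n) {a b u : G} (ha : ci a = n) (hb : ci b = m)
    (hu : u ∈ zpowers b) (ho : (orderOf u).Coprime n) : u ∈ center G := by
  apply mem_of_primary_parts
  intro u' hu' t k ht hk
  have hu'b : u' ∈ zpowers b := (zpowers_le.mpr hu) hu'
  by_contra hc
  have hk0 : k ≠ 0 := by
    rintro rfl
    rw [pow_zero, orderOf_eq_one_iff] at hk
    exact hc (hk ▸ one_mem _)
  have htn : ¬ t ∣ n := by
    intro hd
    have h1 : t ∣ orderOf u' := by rw [hk]; exact dvd_pow_self t hk0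
    have h2 : t ∣ orderOf u := h1.trans (orderOf_dvd_of_mem_zpowers hu')
    exact not_dvd_of_coprime ht ho h2 hd
  have h1 : ci u' ∣ m := hb ▸ ci_dvd_of_mem_zpowers hu'b
  have hcopn : (ci u').Coprime n := Nat.Coprime.coprime_dvd_left h1 h.hcop
  have hon : (orderOf u').Coprime n := by
    rw [hk]; exact Nat.Coprime.pow_left _ ((Nat.Prime.coprime_iff_not_dvd ht).mpr htn)
  by_cases hm : ci u' = m
  · exact h.no_prime_power_B ha hm ht hk htn
  · exact hc (h.central_of_coprime_n ha hon hcopn hm)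

theorem coprime_of_isPi_compl {k : ℕ} {g : G} (hg : IsPi {q : ℕ | q ∣ k}ᶜ g) :
    (orderOf g).Coprime k :=
  Nat.coprime_of_dvd (fun q hq h1 h2 => hg q hq h1 h2)

theorem coprime_of_isPi {k l : ℕ} (hkl : k.Coprime l) {g : G} (hg : IsPi {q : ℕ | q ∣ k} g) :
    (orderOf g).Coprime l :=
  Nat.coprime_of_dvd (fun q hq h1 h2 => not_dvd_of_coprime hq hkl (hg q hq h1) h2)

theorem coprime_orderOf_of_isPi_of_coprime {k : ℕ} {g y : G} (hg : IsPi {q : ℕ | q ∣ k} g)
    (hy : (orderOf y).Coprime k) : (orderOf g).Coprime (orderOf y) :=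
  Nat.coprime_of_dvd (fun q hq h1 h2 => not_dvd_of_coprime hq hy h2 (hg q hq h1))

/-- decomposition of an element of class size `n`: replace it by an element with the same
centralizer whose order involves only primes dividing `m` -/
theorem Two.exists_pi_A (h : Two G m n) {a b : G} (ha : ci a = n) (hb : ci b = m) :
    ∃ a₁ : G, a₁ ∈ zpowers a ∧ IsPi {q : ℕ | q ∣ m} a₁ ∧ ci a₁ = n ∧ cz a₁ = cz a := by
  obtain ⟨a₁, a₂, h1, h2, ha12, hp1, hp2⟩ := exists_pi_decomp {q : ℕ | q ∣ m} a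
  have h3 : ci a₂ ∣ n := ha ▸ ci_dvd_of_mem_zpowers h2
  have hz : a₂ ∈ center G :=
    h.central_of_coprime_m hb (coprime_of_isPi_compl hp2)
      (Nat.Coprime.coprime_dvd_left h3 h.hcop.symm)
  have hcomm : a₁ * a₂ = a₂ * a₁ := (Subgroup.mem_center_iff.mp hz a₁)
  have h4 : cz a₁ ≤ cz a := by
    intro k hk
    rw [mem_cz_iff] at hk ⊢
    have hzk : k * a₂ = a₂ * k := Subgroup.mem_center_iff.mp hz k
    calc k * a = k * (a₁ * a₂) := by rw [← ha12]
      _ = (k * a₁) * a₂ := by rw [mul_assoc]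
      _ = (a₁ * k) * a₂ := by rw [hk]
      _ = a₁ * (k * a₂) := by rw [mul_assoc]
      _ = a₁ * (a₂ * k) := by rw [hzk]
      _ = (a₁ * a₂) * k := by rw [mul_assoc]
      _ = a * k := by rw [← ha12]
  have h5 : cz a₁ = cz a := le_antisymm h4 (cz_le_of_mem_zpowers h1)
  exact ⟨a₁, h1, hp1, by unfold ci; rw [h5]; exact ha, h5⟩

/-- same for the largest class, with primes dividing `n` -/
theorem Two.exists_pi_B (h : Two G m n) {a b : G} (ha : ci a = n) (hb : ci b = m) :
    ∃ b₁ : G, b₁ ∈ zpowers b ∧ IsPi {q : ℕ | q ∣ n} b₁ ∧ ci b₁ = m ∧ cz b₁ = cz b := by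
  obtain ⟨b₁, b₂, h1, h2, hb12, hp1, hp2⟩ := exists_pi_decomp {q : ℕ | q ∣ n} b
  have hz : b₂ ∈ center G :=
    h.central_of_mem_zpowers_B ha hb h2 (coprime_of_isPi_compl hp2)
  have h4 : cz b₁ ≤ cz b := by
    intro k hk
    rw [mem_cz_iff] at hk ⊢
    have hzk : k * b₂ = b₂ * k := Subgroup.mem_center_iff.mp hz k
    calc k * b = k * (b₁ * b₂) := by rw [← hb12]
      _ = (k * b₁) * b₂ := by rw [mul_assoc]
      _ = (b₁ * k) * b₂ := by rw [hk]
      _ = b₁ * (k * b₂) := by rw [mul_assoc]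
      _ = b₁ * (b₂ * k) := by rw [hzk]
      _ = (b₁ * b₂) * k := by rw [mul_assoc]
      _ = b * k := by rw [← hb12]
  have h5 : cz b₁ = cz b := le_antisymm h4 (cz_le_of_mem_zpowers h1)
  exact ⟨b₁, h1, hp1, by unfold ci; rw [h5]; exact hb, h5⟩

/-- (F-A) elements of `C(a)` of order prime to `m` are central -/
theorem Two.central_of_mem_cz_A (h : Two G m n) {a b y : G} (ha : ci a = n) (hb : ci b = m)
    (hy : y ∈ cz a) (ho : (orderOf y).Coprime m) : y ∈ center G := by
  obtain ⟨a₁, -, hp1, hci, hcz⟩ := h.exists_pi_A ha hb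
  rw [← hcz] at hy
  have hc : Commute a₁ y := (mem_cz_iff.mp hy).symm
  have hcop := coprime_orderOf_of_isPi_of_coprime hp1 ho
  have h1 := (h.f1 hci hc hcop).2
  have h2 : ci y ∣ ci a₁ := Subgroup.index_dvd_of_le h1
  rw [hci] at h2
  exact h.central_of_coprime_m hb ho (Nat.Coprime.coprime_dvd_left h2 h.hcop.symm)

/-- (F-B) elements of `C(b)` of order prime to `n` are central -/
theorem Two.central_of_mem_cz_B (h : Two G m n) {a b y : G} (ha : ci a = n) (hb : ci b = m)
    (hy : y ∈ cz b) (ho : (orderOf y).Coprime n) : y ∈ center G := by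
  obtain ⟨b₁, -, hp1, hci, hcz⟩ := h.exists_pi_B ha hb
  rw [← hcz] at hy
  have hc : Commute b₁ y := (mem_cz_iff.mp hy).symm
  have hcop := coprime_orderOf_of_isPi_of_coprime hp1 ho
  have h1 := (h.f2 hci hc hcop).1
  exact h.central_of_mem_zpowers_B ha h1 (mem_zpowers_mul_right hc hcop) ho

theorem Two.inf_cz_eq_center (h : Two G m n) {a b : G} (ha : ci a = n) (hb : ci b = m) :
    cz a ⊓ cz b = center G := by
  apply le_antisymm
  · intro y hy
    obtain ⟨y₁, y₂, h1, h2, hy12, hp1, hp2⟩ := exists_pi_decomp {q : ℕ | q ∣ m} y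
    have hy2 : y₂ ∈ center G := by
      have : zpowers y ≤ cz a := zpowers_le.mpr hy.1
      exact h.central_of_mem_cz_A ha hb (this h2) (coprime_of_isPi_compl hp2)
    have hy1 : y₁ ∈ center G := by
      have : zpowers y ≤ cz b := zpowers_le.mpr hy.2
      exact h.central_of_mem_cz_B ha hb (this h1) (coprime_of_isPi h.hcop hp1)
    rw [hy12]; exact mul_mem hy1 hy2
  · exact le_inf (center_le_cz a) (center_le_cz b)

theorem Two.relIndex_center_cz_B (h : Two G m n) {a b : G} (ha : ci a = n) (hb : ci b = m) :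
    (center G).relIndex (cz b) = n := by
  have hcop : Nat.Coprime (cz a).index (cz b).index := by
    show Nat.Coprime (ci a) (ci b)
    rw [ha, hb]; exact h.hcop.symm
  have h1 := relIndex_eq_index_of_coprime' (cz a) (cz b) hcop
  rw [← Subgroup.inf_relIndex_right, h.inf_cz_eq_center ha hb] at h1
  rw [h1]; exact ha

theorem Two.relIndex_center_cz_A (h : Two G m n) {a b : G} (ha : ci a = n) (hb : ci b = m) :
    (center G).relIndex (cz a) = m := by
  have hcop : Nat.Coprime (cz b).index (cz a).index := by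
    show Nat.Coprime (ci b) (ci a)
    rw [ha, hb]; exact h.hcop
  have h1 := relIndex_eq_index_of_coprime' (cz b) (cz a) hcop
  rw [← Subgroup.inf_relIndex_right, inf_comm, h.inf_cz_eq_center ha hb] at h1
  rw [h1]; exact hb

theorem Two.card_cz_B (h : Two G m n) {a b : G} (ha : ci a = n) (hb : ci b = m) :
    Nat.card (cz b) = n * Nat.card (center G) := by
  have h1 := Subgroup.relIndex_mul_relIndex (⊥ : Subgroup G) (center G) (cz b) bot_le
    (center_le_cz b)
  rw [Subgroup.relIndex_bot_left, Subgroup.relIndex_bot_left, h.relIndex_center_cz_B ha hb] at h1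
  rw [← h1, mul_comm]

end finite

end Cfsg.Agent.Helper69.Bgc
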