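-- helper69: groups whose two largest class sizes are coprime, part 3:
-- the normal closure of an element of class size `n`, norms, a fibre counting lemma.
import Mathlib
import Cfsg.Agent.Helper69.Bgc2

set_option autoImplicit false

namespace Cfsg.Agent.Helper69.Bgc

open Subgroup Cfsg.Agent.Helper69 Cfsg.Agent.Helper69.Bhm

/-- a map all of whose fibres inject into `γ` -/
theorem card_le_mul_of_fiber_inj {α β γ : Type*} [Finite α] [Finite β] [Finite γ] (f : α → β)
    (hf : ∀ x : α, ∃ ι : {x' : α // f x' = f x} → γ, Function.Injective ι) :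
    Nat.card α ≤ Nat.card γ * Nat.card β := by
  classical
  haveI := Fintype.ofFinite β
  rw [← Nat.card_congr (Equiv.sigmaFiberEquiv f), Nat.card_sigma]
  calc ∑ b : β, Nat.card {x // f x = b} ≤ ∑ _b : β, Nat.card γ := by
        apply Finset.sum_le_sum
        intro b _
        by_cases hb : Nonempty {x // f x = b}
        · obtain ⟨⟨x, hx⟩⟩ := hb
          obtain ⟨ι, hι⟩ := hf x
          subst hx
          exact Nat.card_le_card_of_injective ι hι
        · rw [not_nonempty_iff] at hb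
          simp
    _ = Nat.card γ * Nat.card β := by
        simp [Nat.card_eq_fintype_card, mul_comm]

variable {G : Type*} [Group G]

theorem commute_of_mem_closure {S : Set G} (hS : ∀ x ∈ S, ∀ y ∈ S, Commute x y) {x y : G}
    (hx : x ∈ closure S) (hy : y ∈ closure S) : Commute x y := by
  have h1 : ∀ x ∈ S, ∀ y ∈ closure S, Commute x y := by
    intro x hx y hy
    refine Subgroup.closure_induction (p := fun y _ => Commute x y) ?_ ?_ ?_ ?_ hy
    · intro y hy; exact hS x hx y hy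
    · exact Commute.one_right x
    · intro y z _ _ h1 h2; exact h1.mul_right h2
    · intro y _ h1; exact h1.inv_right
  refine Subgroup.closure_induction (p := fun x _ => Commute x y) ?_ ?_ ?_ ?_ hx
  · intro x hx; exact h1 x hx y hy
  · exact Commute.one_left y
  · intro x z _ _ h1 h2; exact h1.mul_left h2
  · intro x _ h1; exact h1.inv_left

/-- the normal closure of `a` -/
def vSub (a : G) : Subgroup G := closure (cls a)

theorem conj_mem_vSub (a t : G) : t * a * t⁻¹ ∈ vSub a := subset_closure ⟨t, rfl⟩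

theorem self_mem_vSub (a : G) : a ∈ vSub a := by simpa using conj_mem_vSub a 1

instance vSub_normal (a : G) : (vSub a).Normal := by
  constructor
  intro x hx g
  refine Subgroup.closure_induction (p := fun x _ => g * x * g⁻¹ ∈ vSub a) ?_ ?_ ?_ ?_ hx
  · rintro x ⟨t, rfl⟩
    have e : g * (t * a * t⁻¹) * g⁻¹ = (g * t) * a * (g * t)⁻¹ := by group
    rw [e]; exact conj_mem_vSub a _
  · simp
  · intro x y _ _ hx hy
    have e : g * (x * y) * g⁻¹ = (g * x * g⁻¹) * (g * y * g⁻¹) := by group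
    rw [e]; exact mul_mem hx hy
  · intro x _ hx
    have e : g * x⁻¹ * g⁻¹ = (g * x * g⁻¹)⁻¹ := by group
    rw [e]; exact inv_mem hx

/-- the norm `u ↦ u u^v u^{v²} ⋯` written as a power -/
noncomputable def nrm (v u : G) : G := (u * v) ^ orderOf v

theorem nrm_one (v : G) : nrm v 1 = 1 := by
  unfold nrm; rw [one_mul, pow_orderOf_eq_one]

theorem nrm_of_commute {v w : G} (h : Commute w v) : nrm v w = w ^ orderOf v := by
  unfold nrm; rw [h.mul_pow, pow_orderOf_eq_one, mul_one]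

theorem nrm_conj {v q : G} (h : Commute q v) (u : G) : nrm v (q * u * q⁻¹) = q * nrm v u * q⁻¹ := by
  unfold nrm
  have e : q * u * q⁻¹ * v = q * (u * v) * q⁻¹ := by
    have h1 : q⁻¹ * v = v * q⁻¹ := h.inv_left.eq
    calc q * u * q⁻¹ * v = q * u * (q⁻¹ * v) := by group
      _ = q * u * (v * q⁻¹) := by rw [h1]
      _ = q * (u * v) * q⁻¹ := by group
  rw [e, conj_pow]

/-- the partial norms -/
def pk (v u : G) (k : ℕ) : G := (u * v) ^ k * (v ^ k)⁻¹

theorem pk_succ (v u : G) (k : ℕ) : pk v u (k + 1) = pk v u k * (v ^ k * u * (v ^ k)⁻¹) := by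
  unfold pk
  rw [pow_succ, pow_succ]
  group

theorem nrm_eq_pk (v u : G) : nrm v u = pk v u (orderOf v) := by
  unfold nrm pk; rw [pow_orderOf_eq_one, inv_one, mul_one]

section normal
variable {K : Subgroup G} [K.Normal]

theorem pk_mem (v : G) {u : G} (hu : u ∈ K) (k : ℕ) : pk v u k ∈ K := by
  induction k with
  | zero => unfold pk; simp
  | succ k ih =>
    rw [pk_succ]
    exact mul_mem ih (Subgroup.Normal.conj_mem inferInstance u hu _)

theorem pk_mul (hK : ∀ x ∈ K, ∀ y ∈ K, Commute x y) (v : G) {u₁ u₂ : G} (h1 : u₁ ∈ K)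
    (h2 : u₂ ∈ K) (k : ℕ) : pk v (u₁ * u₂) k = pk v u₁ k * pk v u₂ k := by
  induction k with
  | zero => unfold pk; simp
  | succ k ih =>
    rw [pk_succ, pk_succ, pk_succ, ih]
    have c1 : v ^ k * u₁ * (v ^ k)⁻¹ ∈ K := Subgroup.Normal.conj_mem inferInstance u₁ h1 _
    have hc : Commute (pk v u₂ k) (v ^ k * u₁ * (v ^ k)⁻¹) := hK _ (pk_mem v h2 k) _ c1
    have e : v ^ k * (u₁ * u₂) * (v ^ k)⁻¹ = (v ^ k * u₁ * (v ^ k)⁻¹) * (v ^ k * u₂ * (v ^ k)⁻¹) := by
      group
    rw [e]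
    calc pk v u₁ k * pk v u₂ k * (v ^ k * u₁ * (v ^ k)⁻¹ * (v ^ k * u₂ * (v ^ k)⁻¹))
        = pk v u₁ k * (pk v u₂ k * (v ^ k * u₁ * (v ^ k)⁻¹)) * (v ^ k * u₂ * (v ^ k)⁻¹) := by
          simp only [mul_assoc]
      _ = pk v u₁ k * ((v ^ k * u₁ * (v ^ k)⁻¹) * pk v u₂ k) * (v ^ k * u₂ * (v ^ k)⁻¹) := by
          rw [hc.eq]
      _ = pk v u₁ k * (v ^ k * u₁ * (v ^ k)⁻¹) * (pk v u₂ k * (v ^ k * u₂ * (v ^ k)⁻¹)) := by
          simp only [mul_assoc]

theorem nrm_mem (v : G) {u : G} (hu : u ∈ K) : nrm v u ∈ K := by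
  rw [nrm_eq_pk]; exact pk_mem v hu _

theorem nrm_mul (hK : ∀ x ∈ K, ∀ y ∈ K, Commute x y) (v : G) {u₁ u₂ : G} (h1 : u₁ ∈ K)
    (h2 : u₂ ∈ K) : nrm v (u₁ * u₂) = nrm v u₁ * nrm v u₂ := by
  rw [nrm_eq_pk, nrm_eq_pk, nrm_eq_pk]; exact pk_mul hK v h1 h2 _

theorem nrm_inv (hK : ∀ x ∈ K, ∀ y ∈ K, Commute x y) (v : G) {u : G} (hu : u ∈ K) :
    nrm v u⁻¹ = (nrm v u)⁻¹ := by
  have h1 := nrm_mul hK v hu (inv_mem hu)
  rw [mul_inv_cancel, nrm_one] at h1
  exact (inv_eq_of_mul_eq_one_right h1.symm).symm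

theorem nrm_pow (hK : ∀ x ∈ K, ∀ y ∈ K, Commute x y) (v : G) {u : G} (hu : u ∈ K) (j : ℕ) :
    nrm v (u ^ j) = (nrm v u) ^ j := by
  induction j with
  | zero => simp [nrm_one]
  | succ j ih =>
    rw [pow_succ, pow_succ, nrm_mul hK v (pow_mem hu j) hu, ih]

theorem nrm_commute (hK : ∀ x ∈ K, ∀ y ∈ K, Commute x y) (v : G) {u : G} (hu : u ∈ K) :
    Commute (nrm v u) v := by
  have hN : nrm v u ∈ K := nrm_mem v hu
  have h1 : v * nrm v u * v⁻¹ = u⁻¹ * nrm v u * u := by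
    unfold nrm
    rw [← conj_pow]
    have e : v * (u * v) * v⁻¹ = u⁻¹ * (u * v) * u⁻¹⁻¹ := by group
    rw [e, conj_pow, inv_inv]
  have h2 : u⁻¹ * nrm v u * u = nrm v u := by
    have hc : Commute (nrm v u) u := hK _ hN _ hu
    calc u⁻¹ * nrm v u * u = u⁻¹ * (nrm v u * u) := by rw [mul_assoc]
      _ = u⁻¹ * (u * nrm v u) := by rw [hc.eq]
      _ = nrm v u := by group
  rw [h2] at h1
  show nrm v u * v = v * nrm v u
  calc nrm v u * v = (v * nrm v u * v⁻¹) * v := by rw [h1]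
    _ = v * nrm v u := by group

end normal

end Cfsg.Agent.Helper69.Bgc
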