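-- helper69: groups whose two largest class sizes are coprime, part 4:
-- fixed points of `n`-elements on the normal closure of an element of class size `n` are central.
import Mathlib
import Cfsg.Agent.Helper69.Bgc3

set_option autoImplicit false

namespace Cfsg.Agent.Helper69.Bgc

open Subgroup Cfsg.Agent.Helper69 Cfsg.Agent.Helper69.Bhm

variable {G : Type*} [Group G] [Finite G] {m n : ℕ}

/-- conjugates of an element of class size `n` commute -/
theorem Two.commute_conj_A (h : Two G m n) {a b : G} (ha : ci a = n) (hb : ci b = m) (s t : G) :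
    Commute (s * a * s⁻¹) (t * a * t⁻¹) := by
  have key : ∀ a' : G, ci a' = n → ∀ r : G, Commute a' (r * a' * r⁻¹) := by
    intro a' ha' r
    have hi : (ci a').Coprime m := by rw [ha']; exact h.hcop.symm
    have hK : cSub a' ≤ presSubgroup b := cSub_le_pres (fun t => h.gen_mem_pres_B hb hi t)
    have hle : cSub a' ≤ cz a' := le_cz_of_le_pres hK (by rw [hb]; exact hi)
    have hk := mem_cz_iff.mp (hle (gen_mem_cSub a' r))
    have e : r * a' * r⁻¹ = a' * (a'⁻¹ * (r * a' * r⁻¹)) := by group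
    rw [e]
    exact (Commute.refl a').mul_right hk.symm
  have h1 := key (s * a * s⁻¹) (by rw [ci_conj]; exact ha) (t * s⁻¹)
  have e : t * s⁻¹ * (s * a * s⁻¹) * (t * s⁻¹)⁻¹ = t * a * t⁻¹ := by group
  rwa [e] at h1

theorem Two.vSub_comm (h : Two G m n) {a b : G} (ha : ci a = n) (hb : ci b = m) :
    ∀ x ∈ vSub a, ∀ y ∈ vSub a, Commute x y := by
  intro x hx y hy
  refine commute_of_mem_closure ?_ hx hy
  rintro _ ⟨s, rfl⟩ _ ⟨t, rfl⟩
  exact h.commute_conj_A ha hb s t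

omit [Finite G] in
theorem coprime_orderOf_of_mem_vSub {a : G} (hK : ∀ x ∈ vSub a, ∀ y ∈ vSub a, Commute x y) {k : ℕ}
    (hk : (orderOf a).Coprime k) {x : G} (hx : x ∈ vSub a) : (orderOf x).Coprime k := by
  refine Subgroup.closure_induction (p := fun x _ => (orderOf x).Coprime k) ?_ ?_ ?_ ?_ hx
  · rintro x ⟨t, rfl⟩
    rw [orderOf_conj_eq]; exact hk
  · rw [orderOf_one]; exact Nat.coprime_one_left k
  · intro x y hx hy h1 h2
    have hc : Commute x y := hK x hx y hy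
    exact Nat.Coprime.coprime_dvd_left hc.orderOf_mul_dvd_mul_orderOf (Nat.Coprime.mul_left h1 h2)
  · intro x _ h1
    rw [orderOf_inv]; exact h1

omit [Finite G] in
/-- splitting an element of `C(b) K` centralizing `v` -/
theorem core_split {K : Subgroup G} [K.Normal] {b v y u : G} (hv : v ∈ cz b)
    (hKY : ∀ x ∈ K, x ∈ cz b → x ∈ center G) (hKo : ∀ x ∈ K, (orderOf x).Coprime (orderOf v))
    (hy : y ∈ cz b) (hu : u ∈ K) (hc : y * u ∈ cz v) : y ∈ cz v ∧ u ∈ cz v := by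
  obtain ⟨z, hz⟩ : ∃ z : G, z = y⁻¹ * (v * y * v⁻¹) := ⟨_, rfl⟩
  have hc' : v * (y * u) * v⁻¹ = y * u := by
    have := mem_cz_iff.mp hc
    calc v * (y * u) * v⁻¹ = ((y * u) * v) * v⁻¹ := by rw [this]
      _ = y * u := by group
  have hz2 : z = u * (v * u * v⁻¹)⁻¹ := by
    have e : (v * y * v⁻¹) * (v * u * v⁻¹) = y * u := by rw [← hc']; group
    rw [hz]
    calc y⁻¹ * (v * y * v⁻¹)
        = y⁻¹ * ((v * y * v⁻¹) * (v * u * v⁻¹)) * (v * u * v⁻¹)⁻¹ := by group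
      _ = y⁻¹ * (y * u) * (v * u * v⁻¹)⁻¹ := by rw [e]
      _ = u * (v * u * v⁻¹)⁻¹ := by group
  have hzY : z ∈ cz b := by
    rw [hz]; exact mul_mem (inv_mem hy) (mul_mem (mul_mem hv hy) (inv_mem hv))
  have hzK : z ∈ K := by
    rw [hz2]; exact mul_mem hu (inv_mem (Subgroup.Normal.conj_mem inferInstance u hu v))
  have hzc : z ∈ center G := hKY z hzK hzY
  have hconj : y⁻¹ * v * y⁻¹⁻¹ = z * v := by
    have hzv : v * z = z * v := Subgroup.mem_center_iff.mp hzc v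
    calc y⁻¹ * v * y⁻¹⁻¹ = (y⁻¹ * (v * y * v⁻¹)) * v := by group
      _ = z * v := by rw [← hz]
  have hzv : Commute z v := (Subgroup.mem_center_iff.mp hzc v).symm
  have hpow : z ^ orderOf v = 1 := by
    have h1 : (y⁻¹ * v * y⁻¹⁻¹) ^ orderOf v = 1 := by
      rw [conj_pow, pow_orderOf_eq_one]; group
    rw [hconj, hzv.mul_pow, pow_orderOf_eq_one, mul_one] at h1
    exact h1
  have hz1 : z = 1 := by
    have hd : orderOf z ∣ orderOf v := orderOf_dvd_of_pow_eq_one hpow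
    exact orderOf_eq_one_iff.mp (eq_one_of_dvd_of_coprime dvd_rfl hd (hKo z hzK))
  have hyv : y ∈ cz v := by
    rw [mem_cz_iff]
    have h1 : v * y * v⁻¹ = y := by
      have h2 : y * z = v * y * v⁻¹ := by rw [hz]; group
      rw [← h2, hz1, mul_one]
    calc y * v = (v * y * v⁻¹) * v := by rw [h1]
      _ = v * y := by group
  refine ⟨hyv, ?_⟩
  have e : u = y⁻¹ * (y * u) := by group
  rw [e]; exact mul_mem (inv_mem hyv) hc

/-- (Part A) -/
theorem Two.partA (h : Two G m n) {a b v : G} (ha : ci a = n) (hao : (orderOf a).Coprime n)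
    (hb : ci b = m) (hv : v ∈ cz b) (hvZ : v ∉ center G) (hvo : IsPi {q : ℕ | q ∣ n} v)
    {w₀ : G} (hw₀ : w₀ ∈ vSub a) (hw₀v : Commute w₀ v) : w₀ ∈ center G := by
  by_contra hw₀Z
  have hK : ∀ x ∈ vSub a, ∀ y ∈ vSub a, Commute x y := h.vSub_comm ha hb
  have hKn : ∀ x ∈ vSub a, (orderOf x).Coprime n :=
    fun x hx => coprime_orderOf_of_mem_vSub hK hao hx
  have hKo : ∀ x ∈ vSub a, (orderOf x).Coprime (orderOf v) := fun x hx =>
    (coprime_orderOf_of_isPi_of_coprime hvo (hKn x hx)).symm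
  have hKY : ∀ x ∈ vSub a, x ∈ cz b → x ∈ center G := fun x hx hxb =>
    h.central_of_mem_cz_B ha hb hxb (hKn x hx)
  -- Step 1: some conjugate of `a` has noncentral norm
  have hstep1 : ∃ t : G, nrm v (t * a * t⁻¹) ∉ center G := by
    by_contra hcon
    push Not at hcon
    have hall : ∀ u ∈ vSub a, nrm v u ∈ center G := by
      intro u hu
      refine Subgroup.closure_induction (p := fun u _ => nrm v u ∈ center G) ?_ ?_ ?_ ?_ hu
      · rintro x ⟨t, rfl⟩; exact hcon t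
      · rw [nrm_one]; exact one_mem _
      · intro x y hx hy hx' hy'
        rw [nrm_mul hK v hx hy]; exact mul_mem hx' hy'
      · intro x hx hx'
        rw [nrm_inv hK v hx]; exact inv_mem hx'
    have h1 := hall w₀ hw₀
    rw [nrm_of_commute hw₀v] at h1
    obtain ⟨j, hj⟩ := exists_pow_eq_self_of_coprime (hKo w₀ hw₀).symm
    exact hw₀Z (hj ▸ pow_mem h1 j)
  obtain ⟨t, ht⟩ := hstep1
  obtain ⟨a', ha'def⟩ : ∃ a' : G, a' = t * a * t⁻¹ := ⟨_, rfl⟩
  rw [← ha'def] at ht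
  have ha'ci : ci a' = n := by rw [ha'def, ci_conj]; exact ha
  have ha'V : a' ∈ vSub a := by rw [ha'def]; exact conj_mem_vSub a t
  obtain ⟨a₁, ha₁⟩ : ∃ a₁ : G, a₁ = nrm v a' := ⟨_, rfl⟩
  rw [← ha₁] at ht
  have ha₁V : a₁ ∈ vSub a := by rw [ha₁]; exact nrm_mem v ha'V
  have ha₁v : Commute a₁ v := by rw [ha₁]; exact nrm_commute hK v ha'V
  obtain ⟨a₂, ha₂⟩ : ∃ a₂ : G, a₂ = a' ^ orderOf v * a₁⁻¹ := ⟨_, rfl⟩
  have ha₂V : a₂ ∈ vSub a := by rw [ha₂]; exact mul_mem (pow_mem ha'V _) (inv_mem ha₁V)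
  have ha₂N : nrm v a₂ = 1 := by
    rw [ha₂, nrm_mul hK v (pow_mem ha'V _) (inv_mem ha₁V), nrm_pow hK v ha'V, nrm_inv hK v ha₁V,
      ← ha₁, nrm_of_commute ha₁v, mul_inv_cancel]
  have hpowa' : ∀ x : G, Commute x (a' ^ orderOf v) → Commute x a' := by
    intro x hx
    obtain ⟨j, hj⟩ := exists_pow_eq_self_of_coprime (hKo a' ha'V).symm
    rw [← hj]; exact hx.pow_right j
  have hinf : cz a' ⊓ cz b = center G := h.inf_cz_eq_center ha'ci hb
  have ha₂ne : a₂ ≠ 1 := by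
    intro e
    rw [ha₂, mul_inv_eq_one] at e
    have h2 : Commute v (a' ^ orderOf v) := by rw [e]; exact ha₁v.symm
    have h3 : Commute v a' := hpowa' v h2
    apply hvZ
    rw [← hinf]
    exact ⟨mem_cz_iff.mpr h3.eq, hv⟩
  have hcop_g : (orderOf a₁).Coprime (orderOf v) := hKo a₁ ha₁V
  have hcz_g : cz (a₁ * v) = cz a₁ ⊓ cz v := cz_mul_of_coprime ha₁v hcop_g
  have hci_g : ci (a₁ * v) ≤ n := by
    by_contra hnot
    have hm := h.ci_eq_m_of_not_le hnot
    exact ht (h.central_of_mem_zpowers_B ha hm (mem_zpowers_mul_left ha₁v hcop_g) (hKn a₁ ha₁V))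
  obtain ⟨g, hg⟩ : ∃ g : G, g = a₁ * v := ⟨_, rfl⟩
  rw [← hg] at hcz_g hci_g
  obtain ⟨Q, hQ⟩ : ∃ Q : Subgroup G, Q = cz b ⊓ (cz a₁ ⊓ cz v) := ⟨_, rfl⟩
  have hQmem : ∀ q : G, q ∈ Q ↔ q ∈ cz b ∧ q ∈ cz a₁ ∧ q ∈ cz v := by
    intro q; rw [hQ]; simp only [Subgroup.mem_inf]
  obtain ⟨S, hS⟩ : ∃ S : Set G, S = {x | ∃ q ∈ Q, x = q * a₂ * q⁻¹} := ⟨_, rfl⟩
  -- first count: `|Q| ≤ |Z| |S|`
  have hc1 : Nat.card Q ≤ Nat.card (center G) * Nat.card S := by
    apply card_le_mul_of_fiber_inj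
      (fun q : Q => (⟨(q : G) * a₂ * (q : G)⁻¹, by rw [hS]; exact ⟨q, q.2, rfl⟩⟩ : S))
    intro q
    refine ⟨fun q' => ⟨(q : G)⁻¹ * (q'.1 : G), ?_⟩, ?_⟩
    · have heq : ((q'.1 : Q) : G) * a₂ * ((q'.1 : Q) : G)⁻¹ = (q : G) * a₂ * (q : G)⁻¹ :=
        congrArg Subtype.val q'.2
      obtain ⟨r, hr⟩ : ∃ r : G, r = (q : G)⁻¹ * ((q'.1 : Q) : G) := ⟨_, rfl⟩
      have hrQ : r ∈ Q := by rw [hr]; exact mul_mem (inv_mem q.2) q'.1.2
      have hr2 : Commute r a₂ := by
        have h1 : r * a₂ * r⁻¹ = a₂ := by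
          rw [hr]
          calc (q : G)⁻¹ * ((q'.1 : Q) : G) * a₂ * ((q : G)⁻¹ * ((q'.1 : Q) : G))⁻¹
              = (q : G)⁻¹ * (((q'.1 : Q) : G) * a₂ * ((q'.1 : Q) : G)⁻¹) * (q : G) := by group
            _ = (q : G)⁻¹ * ((q : G) * a₂ * (q : G)⁻¹) * (q : G) := by rw [heq]
            _ = a₂ := by group
        show r * a₂ = a₂ * r
        calc r * a₂ = (r * a₂ * r⁻¹) * r := by group
          _ = a₂ * r := by rw [h1]
      have hr1 : Commute r a₁ := mem_cz_iff.mp ((hQmem r).mp hrQ).2.1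
      have hr3 : Commute r (a' ^ orderOf v) := by
        have e : a' ^ orderOf v = a₂ * a₁ := by rw [ha₂]; group
        rw [e]; exact hr2.mul_right hr1
      have hr4 : Commute r a' := hpowa' r hr3
      rw [← hr, ← hinf]
      exact ⟨mem_cz_iff.mpr hr4.eq, ((hQmem r).mp hrQ).1⟩
    · intro q' q'' heq
      have h1 : (q : G)⁻¹ * ((q'.1 : Q) : G) = (q : G)⁻¹ * ((q''.1 : Q) : G) :=
        congrArg Subtype.val heq
      exact Subtype.ext (Subtype.ext (mul_left_cancel h1))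
  -- second count
  obtain ⟨val, hvaldef⟩ : ∃ val : Option S → G, val = fun k => k.elim 1 (fun x => x.1) :=
    ⟨_, rfl⟩
  have hval : ∀ k : Option S, val k ∈ vSub a ∧ nrm v (val k) = 1 := by
    intro k
    rw [hvaldef]
    cases k with
    | none => exact ⟨one_mem _, nrm_one v⟩
    | some x =>
      obtain ⟨x, hx⟩ := x
      have hx' := hx
      rw [hS] at hx'
      obtain ⟨q, hq, rfl⟩ := hx'
      refine ⟨Subgroup.Normal.conj_mem inferInstance a₂ ha₂V q, ?_⟩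
      show nrm v (q * a₂ * q⁻¹) = 1
      rw [nrm_conj (mem_cz_iff.mp ((hQmem q).mp hq).2.2), ha₂N]
      group
  have hvalinj : Function.Injective val := by
    have hne : ∀ x : S, (x : G) ≠ 1 := by
      rintro ⟨x, hx⟩ e
      rw [hS] at hx
      obtain ⟨q, -, rfl⟩ := hx
      apply ha₂ne
      have e' : q * a₂ * q⁻¹ = 1 := e
      calc a₂ = q⁻¹ * (q * a₂ * q⁻¹) * q := by group
        _ = 1 := by rw [e']; group
    intro k k' hkk
    rw [hvaldef] at hkk
    cases k with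
    | none =>
      cases k' with
      | none => rfl
      | some x => exact absurd hkk.symm (hne x)
    | some x =>
      cases k' with
      | none => exact absurd hkk (hne x)
      | some x' => exact congrArg some (Subtype.ext hkk)
  have hkey : ∀ y y' k k' : G, y ∈ cz b → y' ∈ cz b → k ∈ vSub a → k' ∈ vSub a →
      (y * k) * g * (y * k)⁻¹ = (y' * k') * g * (y' * k')⁻¹ →
      y⁻¹ * y' ∈ Q ∧ (y⁻¹ * y')⁻¹ * k⁻¹ * (y⁻¹ * y') * k' ∈ cz v := by
    intro y y' k k' hy hy' hk hk' heq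
    obtain ⟨c, hc⟩ : ∃ c : G, c = (y * k)⁻¹ * (y' * k') := ⟨_, rfl⟩
    have hcg : c ∈ cz g := by
      rw [mem_cz_iff, hc]
      calc (y * k)⁻¹ * (y' * k') * g
          = (y * k)⁻¹ * ((y' * k') * g * (y' * k')⁻¹) * (y' * k') := by group
        _ = (y * k)⁻¹ * ((y * k) * g * (y * k)⁻¹) * (y' * k') := by rw [heq]
        _ = g * ((y * k)⁻¹ * (y' * k')) := by group
    rw [hcz_g] at hcg
    obtain ⟨y'', hy''⟩ : ∃ y'' : G, y'' = y⁻¹ * y' := ⟨_, rfl⟩
    obtain ⟨u'', hu''⟩ : ∃ u'' : G, u'' = y''⁻¹ * k⁻¹ * y'' * k' := ⟨_, rfl⟩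
    have hy''Y : y'' ∈ cz b := by rw [hy'']; exact mul_mem (inv_mem hy) hy'
    have hu''K : u'' ∈ vSub a := by
      rw [hu'']
      have h1 : y''⁻¹ * k⁻¹ * y''⁻¹⁻¹ ∈ vSub a :=
        Subgroup.Normal.conj_mem inferInstance k⁻¹ (inv_mem hk) y''⁻¹
      rw [inv_inv] at h1
      exact mul_mem h1 hk'
    have hcyu : c = y'' * u'' := by rw [hc, hu'', hy'']; group
    rw [← hy'', ← hu'']
    have hsplit := core_split hv hKY hKo hy''Y hu''K (by rw [← hcyu]; exact hcg.2)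
    refine ⟨(hQmem y'').mpr ⟨hy''Y, ?_, hsplit.1⟩, hsplit.2⟩
    have hu''a₁ : u'' ∈ cz a₁ := mem_cz_iff.mpr (hK u'' hu''K a₁ ha₁V).eq
    have e : y'' = c * u''⁻¹ := by rw [hcyu]; group
    rw [e]; exact mul_mem hcg.1 (inv_mem hu''a₁)
  have hc2 : Nat.card (↥(cz b) × Option S) ≤ Nat.card Q * Nat.card (cls g) := by
    apply card_le_mul_of_fiber_inj
      (fun p : ↥(cz b) × Option S =>
        (⟨((p.1 : G) * val p.2) * g * ((p.1 : G) * val p.2)⁻¹, ⟨_, rfl⟩⟩ : cls g))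
    rintro ⟨y, k⟩
    refine ⟨fun p' => ⟨(y : G)⁻¹ * ((p'.1.1 : ↥(cz b)) : G), ?_⟩, ?_⟩
    · have heq : (((p'.1.1 : ↥(cz b)) : G) * val p'.1.2) * g *
          (((p'.1.1 : ↥(cz b)) : G) * val p'.1.2)⁻¹ =
          ((y : G) * val k) * g * ((y : G) * val k)⁻¹ := congrArg Subtype.val p'.2
      exact (hkey _ _ _ _ y.2 p'.1.1.2 (hval k).1 (hval p'.1.2).1 heq.symm).1
    · rintro ⟨⟨y', k'⟩, h1⟩ ⟨⟨y'', k''⟩, h2⟩ heq
      have e1 : (y : G)⁻¹ * (y' : G) = (y : G)⁻¹ * (y'' : G) := congrArg Subtype.val heq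
      have e2 : (y' : G) = (y'' : G) := mul_left_cancel e1
      have e3 : y' = y'' := Subtype.ext e2
      subst e3
      have h1' : ((y' : G) * val k') * g * ((y' : G) * val k')⁻¹ =
          ((y : G) * val k) * g * ((y : G) * val k)⁻¹ := congrArg Subtype.val h1
      have h2' : ((y' : G) * val k'') * g * ((y' : G) * val k'')⁻¹ =
          ((y : G) * val k) * g * ((y : G) * val k)⁻¹ := congrArg Subtype.val h2
      have h3 := (hkey _ _ _ _ y'.2 y'.2 (hval k').1 (hval k'').1 (h1'.trans h2'.symm)).2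
      have h4 : (val k')⁻¹ * val k'' ∈ cz v := by
        have e : ((y' : G)⁻¹ * (y' : G))⁻¹ * (val k')⁻¹ * ((y' : G)⁻¹ * (y' : G)) * val k'' =
            (val k')⁻¹ * val k'' := by group
        rwa [e] at h3
      obtain ⟨u, hu⟩ : ∃ u : G, u = (val k')⁻¹ * val k'' := ⟨_, rfl⟩
      rw [← hu] at h4
      have huK : u ∈ vSub a := by rw [hu]; exact mul_mem (inv_mem (hval k').1) (hval k'').1
      have huN : nrm v u = 1 := by
        rw [hu, nrm_mul hK v (inv_mem (hval k').1) (hval k'').1, nrm_inv hK v (hval k').1,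
          (hval k').2, (hval k'').2]
        group
      have huv : Commute u v := mem_cz_iff.mp h4
      rw [nrm_of_commute huv] at huN
      have hd : orderOf u ∣ orderOf v := orderOf_dvd_of_pow_eq_one huN
      have hu1 : u = 1 :=
        orderOf_eq_one_iff.mp (eq_one_of_dvd_of_coprime dvd_rfl hd (hKo u huK))
      have e4 : val k' = val k'' := by
        rw [hu] at hu1
        exact (inv_mul_eq_one.mp hu1)
      have e5 : k' = k'' := hvalinj e4
      subst e5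
      rfl
  -- arithmetic
  rw [Nat.card_prod, Finite.card_option, card_cls, h.card_cz_B ha hb] at hc2
  have hZpos : 0 < Nat.card (center G) := Nat.card_pos
  have hnpos : 0 < n := by have := h.hn; omega
  have h5 : Nat.card Q * ci g ≤ Nat.card (center G) * Nat.card S * n :=
    Nat.mul_le_mul hc1 hci_g
  have h6 : n * Nat.card (center G) * (Nat.card S + 1) ≤ Nat.card (center G) * Nat.card S * n :=
    le_trans hc2 h5
  have h7 : 0 < n * Nat.card (center G) := Nat.mul_pos hnpos hZpos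
  nlinarith

end Cfsg.Agent.Helper69.Bgc
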