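-- helper69: groups whose two largest class sizes are coprime, part 5:
-- elements of coprime orders outside the centre do not commute; every noncentral class has
-- size `n` or `m`.
import Mathlib
import Cfsg.Agent.Helper69.Bgc4

set_option autoImplicit false

namespace Cfsg.Agent.Helper69.Bgc

open Subgroup Cfsg.Agent.Helper69 Cfsg.Agent.Helper69.Bhm

variable {G : Type*} [Group G] [Finite G] {m n : ℕ}

/-- a central element preserving the class of `b` has order dividing that of `b` -/
theorem orderOf_dvd_of_central_pres {z b : G} (hz : z ∈ center G) (hp : z ∈ presSubgroup b) :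
    orderOf z ∣ orderOf b := by
  have h1 : z * b ∈ cls b := hp b ⟨1, by group⟩
  obtain ⟨d, hd⟩ := h1
  have hd' : d * b * d⁻¹ = z * b := hd
  have hzb : Commute z b := (Subgroup.mem_center_iff.mp hz b).symm
  have h2 : (z * b) ^ orderOf b = 1 := by
    rw [← hd', conj_pow, pow_orderOf_eq_one]; group
  rw [hzb.mul_pow, pow_orderOf_eq_one, mul_one] at h2
  exact orderOf_dvd_of_pow_eq_one h2

/-- (KEY) noncentral elements, one of order prime to `n`, the other an `n`-element, never
commute. -/
theorem Two.key (h : Two G m n) {a b w v : G} (ha : ci a = n) (hb : ci b = m) (hc : Commute w v)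
    (hw : (orderOf w).Coprime n) (hv : IsPi {q : ℕ | q ∣ n} v) (hwZ : w ∉ center G)
    (hvZ : v ∉ center G) : False := by
  have hex : ∃ u ∈ zpowers v, ∃ t k : ℕ, t.Prime ∧ orderOf u = t ^ k ∧ u ∉ center G := by
    by_contra hcon
    push Not at hcon
    exact hvZ (mem_of_primary_parts (center G) v (fun u hu t k ht hk => hcon u hu t k ht hk))
  obtain ⟨u, huv, t, k, ht, hk, huZ⟩ := hex
  haveI : Fact t.Prime := ⟨ht⟩
  have hupi : IsPi {q : ℕ | q ∣ n} u := hv.of_mem_zpowers huv
  have hk0 : k ≠ 0 := by
    rintro rfl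
    rw [pow_zero, orderOf_eq_one_iff] at hk
    exact huZ (hk ▸ one_mem _)
  have htn : t ∣ n := hupi t ht (by rw [hk]; exact dvd_pow_self t hk0)
  have htm : ¬ t ∣ m := fun hd => not_dvd_of_coprime ht h.hcop hd htn
  have hcu : Commute w u := commute_of_mem_zpowers_right huv hc
  obtain ⟨b₁, -, hb₁pi, hb₁ci, -⟩ := h.exists_pi_B ha hb
  obtain ⟨T, hT⟩ := Cfsg.Agent.S4153.exists_sylow_mem (p := t) ⟨k, hk⟩
  obtain ⟨d, hd⟩ := exists_conj_commuting' t T (b := b₁) (by rw [hb₁ci]; exact htm)
  obtain ⟨b', hb'⟩ : ∃ b' : G, b' = d * b₁ * d⁻¹ := ⟨_, rfl⟩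
  have hb'ci : ci b' = m := by rw [hb', ci_conj]; exact hb₁ci
  have hb'pi : IsPi {q : ℕ | q ∣ n} b' := by rw [hb', isPi_conj]; exact hb₁pi
  have hub' : u ∈ cz b' := mem_cz_iff.mpr (by rw [hb']; exact hd u hT)
  obtain ⟨a₁, -, ha₁pi, ha₁ci, -⟩ := h.exists_pi_A ha hb
  have ha₁o : (orderOf a₁).Coprime n := coprime_of_isPi h.hcop ha₁pi
  have hA : ∀ w' ∈ vSub a₁, Commute w' u → w' ∈ center G := fun w' hw' hcw' =>
    h.partA ha₁ci ha₁o hb'ci hub' huZ hupi hw' hcw'
  have hcop : (orderOf w).Coprime (orderOf u) :=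
    (coprime_orderOf_of_isPi_of_coprime hupi hw).symm
  have hczg : cz (w * u) = cz w ⊓ cz u := cz_mul_of_coprime hcu hcop
  have hcig : ci (w * u) ≤ n := by
    by_contra hnot
    have hm := h.ci_eq_m_of_not_le hnot
    exact hwZ (h.central_of_mem_zpowers_B ha hm (mem_zpowers_mul_left hcu hcop) hw)
  have hK := h.vSub_comm ha₁ci hb
  have hKn : ∀ x ∈ vSub a₁, (orderOf x).Coprime n :=
    fun x hx => coprime_orderOf_of_mem_vSub hK ha₁o hx
  have hclsne : ∀ x ∈ cls a₁, x ∉ center G := by
    rintro x ⟨s, rfl⟩ hx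
    have h1 := (ci_eq_one_iff _).mpr hx
    rw [ci_conj, ha₁ci] at h1
    have := h.hn
    omega
  obtain ⟨val, hvaldef⟩ : ∃ val : Option (cls a₁) → G,
      val = fun k => k.elim 1 (fun x => x.1) := ⟨_, rfl⟩
  have hvalV : ∀ k, val k ∈ vSub a₁ := by
    intro k
    rw [hvaldef]
    cases k with
    | none => exact one_mem _
    | some x => exact subset_closure x.2
  have hinj : Function.Injective (fun k : Option (cls a₁) =>
      (⟨val k * (w * u) * (val k)⁻¹, ⟨_, rfl⟩⟩ : cls (w * u))) := by
    intro k k' hkk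
    have heq : val k * (w * u) * (val k)⁻¹ = val k' * (w * u) * (val k')⁻¹ :=
      congrArg Subtype.val hkk
    obtain ⟨z, hz⟩ : ∃ z : G, z = (val k')⁻¹ * val k := ⟨_, rfl⟩
    have hzg : z ∈ cz (w * u) := by
      rw [mem_cz_iff, hz]
      calc (val k')⁻¹ * val k * (w * u)
          = (val k')⁻¹ * (val k * (w * u) * (val k)⁻¹) * val k := by group
        _ = (val k')⁻¹ * (val k' * (w * u) * (val k')⁻¹) * val k := by rw [heq]
        _ = w * u * ((val k')⁻¹ * val k) := by group
    have hzV : z ∈ vSub a₁ := by rw [hz]; exact mul_mem (inv_mem (hvalV k')) (hvalV k)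
    rw [hczg] at hzg
    have hzc : z ∈ center G := hA z hzV (mem_cz_iff.mp hzg.2)
    have hz1 : z = 1 := by
      rw [hvaldef] at hz
      cases k with
      | none =>
        cases k' with
        | none => rw [hz]; simp
        | some x' =>
          exfalso
          have e : (x' : G) = z⁻¹ := by rw [hz]; simp
          exact hclsne x' x'.2 (e ▸ inv_mem hzc)
      | some x =>
        cases k' with
        | none =>
          exfalso
          have e : (x : G) = z := by rw [hz]; simp
          exact hclsne x x.2 (e ▸ hzc)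
        | some x' =>
          obtain ⟨s, hs⟩ := x'.2
          obtain ⟨r, hr⟩ := x.2
          have hs' : s * a₁ * s⁻¹ = (x' : G) := hs
          have hr' : r * a₁ * r⁻¹ = (x : G) := hr
          have hcix' : ci (x' : G) = n := by rw [← hs', ci_conj]; exact ha₁ci
          have hzp : z ∈ presSubgroup b' := by
            have e : z = (x' : G)⁻¹ * ((r * s⁻¹) * (x' : G) * (r * s⁻¹)⁻¹) := by
              rw [hz]
              show (x' : G)⁻¹ * (x : G) = _
              rw [← hr', ← hs']
              group
            rw [e]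
            exact h.gen_mem_pres_B hb'ci (by rw [hcix']; exact h.hcop.symm) _
          have hd1 : orderOf z ∣ orderOf b' := orderOf_dvd_of_central_pres hzc hzp
          have hc1 : (orderOf b').Coprime (orderOf z) :=
            coprime_orderOf_of_isPi_of_coprime hb'pi (hKn z hzV)
          exact orderOf_eq_one_iff.mp (eq_one_of_dvd_of_coprime hd1 dvd_rfl hc1)
    have e4 : val k = val k' := by
      rw [hz] at hz1
      exact (inv_mul_eq_one.mp hz1).symm
    rw [hvaldef] at e4
    cases k with
    | none =>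
      cases k' with
      | none => rfl
      | some x' =>
        exfalso
        have e : (x' : G) = 1 := e4.symm
        exact hclsne x' x'.2 (e ▸ one_mem _)
    | some x =>
      cases k' with
      | none =>
        exfalso
        have e : (x : G) = 1 := e4
        exact hclsne x x.2 (e ▸ one_mem _)
      | some x' => exact congrArg some (Subtype.ext e4)
  have hcard := Nat.card_le_card_of_injective _ hinj
  rw [Finite.card_option, card_cls, card_cls, ha₁ci] at hcard
  omega

/-- every noncentral class has size `n` or `m` -/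
theorem Two.dich (h : Two G m n) {a b g : G} (ha : ci a = n) (hb : ci b = m)
    (hg : g ∉ center G) : ci g = n ∨ ci g = m := by
  obtain ⟨g₁, g₂, h1, h2, hg12, hp1, hp2⟩ := exists_pi_decomp {q : ℕ | q ∣ n} g
  have hg2o : (orderOf g₂).Coprime n := coprime_of_isPi_compl hp2
  have hcomm : Commute g₂ g₁ := commute_of_mem_zpowers h2 h1
  by_cases hz1 : g₁ ∈ center G
  · left
    have e : ci g = ci g₂ := by rw [hg12]; exact ci_central_mul hz1 g₂
    have hg2Z : g₂ ∉ center G := fun hz2 => hg (hg12 ▸ mul_mem hz1 hz2)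
    rw [e]
    have hle : cz b ⊓ cz g₂ ≤ center G := by
      intro y hy
      obtain ⟨y₁, y₂, k1, k2, hy12, hq1, hq2⟩ := exists_pi_decomp {q : ℕ | q ∣ n} y
      have hy2 : y₂ ∈ center G := by
        have : zpowers y ≤ cz b := zpowers_le.mpr hy.1
        exact h.central_of_mem_cz_B ha hb (this k2) (coprime_of_isPi_compl hq2)
      have hy1 : y₁ ∈ center G := by
        by_contra hy1Z
        have : zpowers y ≤ cz g₂ := zpowers_le.mpr hy.2
        have hc : Commute g₂ y₁ := (mem_cz_iff.mp (this k1)).symm
        exact h.key ha hb hc hg2o hq1 hg2Z hy1Z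
      rw [hy12]; exact mul_mem hy1 hy2
    have h3 : (cz g₂).relIndex (cz b) = n := by
      rw [← Subgroup.inf_relIndex_right, inf_comm,
        le_antisymm hle (le_inf (center_le_cz b) (center_le_cz g₂))]
      exact h.relIndex_center_cz_B ha hb
    have h4 : n ≤ ci g₂ := h3 ▸ relIndex_le_index' _ _
    have h5 : ci g₂ ≠ m := fun e =>
      hg2Z (h.central_of_mem_zpowers_B ha e (mem_zpowers g₂) hg2o)
    have h6 : ci g₂ ≤ n := h.hsecond _ (lt_of_le_of_ne (h.htop _) h5)
    omega
  · have hz2 : g₂ ∈ center G := by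
      by_contra hz2
      exact h.key ha hb hcomm hg2o hp1 hz2 hz1
    right
    have e : ci g = ci g₁ := by
      rw [hg12, hcomm.symm.eq]; exact ci_central_mul hz2 g₁
    rw [e]
    have hle : cz a ⊓ cz g₁ ≤ center G := by
      intro y hy
      obtain ⟨y₁, y₂, k1, k2, hy12, hq1, hq2⟩ := exists_pi_decomp {q : ℕ | q ∣ m} y
      have hy2 : y₂ ∈ center G := by
        have : zpowers y ≤ cz a := zpowers_le.mpr hy.1
        exact h.central_of_mem_cz_A ha hb (this k2) (coprime_of_isPi_compl hq2)
      have hy1 : y₁ ∈ center G := by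
        by_contra hy1Z
        have : zpowers y ≤ cz g₁ := zpowers_le.mpr hy.2
        have hc : Commute y₁ g₁ := mem_cz_iff.mp (this k1)
        exact h.key ha hb hc (coprime_of_isPi h.hcop hq1) hp1 hy1Z hz1
      rw [hy12]; exact mul_mem hy1 hy2
    have h3 : (cz g₁).relIndex (cz a) = m := by
      rw [← Subgroup.inf_relIndex_right, inf_comm,
        le_antisymm hle (le_inf (center_le_cz a) (center_le_cz g₁))]
      exact h.relIndex_center_cz_A ha hb
    have h4 : m ≤ ci g₁ := h3 ▸ relIndex_le_index' _ _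
    exact le_antisymm (h.htop _) h4

/-- the Bertram–Herzog–Mann configuration holds -/
theorem Two.cfg (h : Two G m n) {a b : G} (ha : ci a = n) (hb : ci b = m) :
    Cfg G {q : ℕ | q ∣ n} {q : ℕ | q ∣ m} where
  disj := fun p hp h1 h2 => not_dvd_of_coprime hp h.hcop h2 h1
  dich := fun g => by
    by_cases hg : g ∈ center G
    · left; rw [(ci_eq_one_iff g).mpr hg]; exact piNat_one _
    · rcases h.dich ha hb hg with e | e
      · left; rw [e]; exact fun p _ hd => hd
      · right; rw [e]; exact fun p _ hd => hd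
  exA := ⟨a, by rw [ha]; exact (ne_of_gt h.hn), by rw [ha]; exact fun p _ hd => hd⟩
  exB := ⟨b, ⟨by rw [hb]; have := h.hn; have := h.hmn; omega,
    by rw [hb]; exact fun p _ hd => hd⟩, fun g => by rw [hb]; exact h.htop g⟩

end Cfsg.Agent.Helper69.Bgc
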