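-- helper69: coprime conjugacy class sizes (Bertram–Herzog–Mann / Kazarin style lemmas), part 5:
-- `G / Z(G)` is a Frobenius group with abelian kernel and complement.
import Mathlib
import Cfsg.Prelude.Def_Solvable
import Cfsg.Agent.Helper69.Bhm4

set_option autoImplicit false

namespace Cfsg.Agent.Helper69.Bhm

open Subgroup
open scoped Pointwise

theorem mem_conj_smul_iff {Q : Type*} [Group Q] (H : Subgroup Q) (g x : Q) :
    x ∈ MulAut.conj g • H ↔ g⁻¹ * x * g ∈ H := by
  rw [Subgroup.mem_pointwise_smul_iff_inv_smul_mem, MulAut.smul_def, ← map_inv,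
    MulAut.conj_apply, inv_inv]

variable {G : Type*} [Group G] [Finite G] {σ τ : Set ℕ}

/-- `G = N C(b)` for `b` on the big side. -/
theorem Cfg.exists_mul (h : Cfg G σ τ) {b : G} (hb : IsA τ b) (g : G) :
    ∃ n ∈ h.nSub, ∃ y ∈ cz b, g = n * y := by
  obtain ⟨a, ha⟩ := h.exA
  have hcop : Nat.Coprime (ci a) (ci b) := PiNat.coprime' h.disj ha.2 hb.2
  obtain ⟨x, hx, y, hy, hxy⟩ :=
    Cfsg.Agent.Helper9.exists_mul_of_coprime_index (cz a) (cz b) hcop g
  refine ⟨x, ?_, y, hy, hxy⟩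
  by_contra hxN
  have hxB : IsA τ x := h.isA_of_not_mem hxN
  have hcomm : a * x = x * a := (mem_cz_iff.mp hx).symm
  exact ha.not_mem_center (h.cent_big hxB (h.mem_nSub_of_isA ha) hcomm)

/-- `G / N` is abelian. -/
theorem Cfg.comm_mod (h : Cfg G σ τ) (x y : G) : x * y * x⁻¹ * y⁻¹ ∈ h.nSub := by
  by_cases hx : x ∈ h.nSub
  · have h1 : y * x⁻¹ * y⁻¹ ∈ h.nSub := h.nSub_normal.conj_mem _ (inv_mem hx) y
    have e : x * y * x⁻¹ * y⁻¹ = x * (y * x⁻¹ * y⁻¹) := by group
    rw [e]; exact mul_mem hx h1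
  · have hxB : IsA τ x := h.isA_of_not_mem hx
    obtain ⟨n, hn, y', hy', rfl⟩ := h.exists_mul hxB y
    rw [mem_cz_iff] at hy'
    have h1 : x * y' * x⁻¹ = y' := by
      calc x * y' * x⁻¹ = (y' * x) * x⁻¹ := by rw [hy']
        _ = y' := by group
    have e : x * (n * y') * x⁻¹ * (n * y')⁻¹ = (x * n * x⁻¹) * (x * y' * x⁻¹) * y'⁻¹ * n⁻¹ := by
      group
    rw [e, h1]
    have e2 : x * n * x⁻¹ * y' * y'⁻¹ * n⁻¹ = (x * n * x⁻¹) * n⁻¹ := by group
    rw [e2]
    exact mul_mem (h.nSub_normal.conj_mem _ hn x) (inv_mem hn)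

/-- The main structure theorem. -/
theorem Cfg.frobenius (h : Cfg G σ τ) :
    ∃ H : Subgroup (G ⧸ center G), Cfsg.IsFrobeniusComplement H ∧ IsMulCommutative H ∧
      ∀ x ∈ Cfsg.frobeniusKernel H, ∀ y ∈ Cfsg.frobeniusKernel H, x * y = y * x := by
  obtain ⟨a, ha⟩ := h.exA
  obtain ⟨p, hp, hpa⟩ := Nat.exists_prime_and_dvd ha.1
  have hpσ : p ∈ σ := ha.2 p hp hpa
  haveI : Fact p.Prime := ⟨hp⟩
  obtain ⟨P⟩ := (inferInstance : Nonempty (Sylow p G))
  obtain ⟨u, huP, huc⟩ := exists_noncentral_of_dvd p P hpa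
  have hpi : IsPi σ u := isPi_of_mem_sylow p P hpσ huP
  have huB : IsA τ u := by
    apply h.isA_of_not_mem
    intro hm
    rcases h.mem_center_or_isA hm with h1 | h1
    · exact huc h1
    · exact h.not_isPi_of_isA h1 hpi
  have hcu : ∀ m ∈ h.nSub, m * u = u * m → m ∈ center G := by
    intro m hm hmu
    rcases h.mem_center_or_isA hm with h1 | h1
    · exact h1
    · exact (h.not_comm_pi h1 huB hpi hmu).elim
  -- the complement
  obtain ⟨H, hH⟩ : ∃ H : Subgroup (G ⧸ center G),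
      H = (cz u).map (QuotientGroup.mk' (center G)) := ⟨_, rfl⟩
  have hmemH : ∀ g : G, (QuotientGroup.mk g : G ⧸ center G) ∈ H ↔ g ∈ cz u := by
    intro g
    rw [hH, Subgroup.mem_map]
    constructor
    · rintro ⟨x, hx, hxg⟩
      have h1 : x⁻¹ * g ∈ center G := QuotientGroup.eq.mp hxg
      have h2 : x * (x⁻¹ * g) ∈ cz u := mul_mem hx (center_le_cz u h1)
      rwa [mul_inv_cancel_left] at h2
    · intro hg
      exact ⟨g, hg, rfl⟩
  have hone : ∀ g : G, (QuotientGroup.mk g : G ⧸ center G) = 1 ↔ g ∈ center G :=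
    fun g => QuotientGroup.eq_one_iff g
  -- elements of `C(u)` outside the centre are on the big side
  have hbig : ∀ x : G, x ∈ cz u → x ∉ center G → IsA τ x := by
    intro x hx hxc
    apply h.isA_of_not_mem
    intro hxN
    exact hxc (hcu x hxN (mem_cz_iff.mp hx))
  refine ⟨H, ⟨?_, ?_, ?_⟩, ?_, ?_⟩
  · -- H ≠ ⊥
    intro hbot
    have h1 : (QuotientGroup.mk u : G ⧸ center G) ∈ H := (hmemH u).mpr (self_mem_cz u)
    rw [hbot, Subgroup.mem_bot, hone] at h1
    exact huc h1
  · -- H ≠ ⊤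
    intro htop
    have h1 : (QuotientGroup.mk a : G ⧸ center G) ∈ H := by rw [htop]; exact mem_top _
    rw [hmemH] at h1
    exact ha.not_mem_center (hcu a (h.mem_nSub_of_isA ha) (mem_cz_iff.mp h1))
  · -- malnormality
    intro gbar hg
    obtain ⟨g, rfl⟩ := QuotientGroup.mk_surjective gbar
    rw [hmemH] at hg
    rw [eq_bot_iff]
    intro xbar hx
    obtain ⟨x, rfl⟩ := QuotientGroup.mk_surjective xbar
    rw [Subgroup.mem_inf, mem_conj_smul_iff] at hx
    obtain ⟨hx1, hx2⟩ := hx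
    rw [hmemH] at hx1
    have hx2' : g⁻¹ * x * g ∈ cz u := by
      rw [← hmemH]
      exact hx2
    rw [Subgroup.mem_bot, hone]
    by_contra hxc
    have hxB : IsA τ x := hbig x hx1 hxc
    obtain ⟨m, hm, y', hy', hgm⟩ := h.exists_mul huB g
    rw [mem_cz_iff] at hy' hx1 hx2'
    -- `k = m⁻¹ (u⁻¹ m u)`
    obtain ⟨k, hk⟩ : ∃ k : G, k = m⁻¹ * (u⁻¹ * m * u⁻¹⁻¹) := ⟨_, rfl⟩
    have hkK : k ∈ kSub G σ := by
      have := h.theta_mem_kSub u⁻¹ ⟨m, hm⟩
      rw [h.theta_coe] at this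
      rw [hk]; exact this
    have hkN : k ∈ h.nSub := h.kSub_le_nSub hkK
    have hmk : m * k = k * m := h.nSub_comm hm hkN
    have hmu : m * u * m⁻¹ = u * k := by
      have e1 : m * k = u⁻¹ * m * u := by rw [hk]; group
      calc m * u * m⁻¹ = u * (u⁻¹ * m * u) * m⁻¹ := by group
        _ = u * (m * k) * m⁻¹ := by rw [e1]
        _ = u * (k * m) * m⁻¹ := by rw [hmk]
        _ = u * k := by group
    have hgu : g * u * g⁻¹ = u * k := by
      have e1 : y' * u * y'⁻¹ = u := by rw [hy']; group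
      rw [hgm]
      calc m * y' * u * (m * y')⁻¹ = m * (y' * u * y'⁻¹) * m⁻¹ := by group
        _ = m * u * m⁻¹ := by rw [e1]
        _ = u * k := hmu
    -- `x` commutes with `g u g⁻¹`
    have hxgu : x * (u * k) = (u * k) * x := by
      rw [← hgu]
      calc x * (g * u * g⁻¹) = g * ((g⁻¹ * x * g) * u) * g⁻¹ := by group
        _ = g * (u * (g⁻¹ * x * g)) * g⁻¹ := by rw [hx2']
        _ = g * u * g⁻¹ * x := by group
    have hxk : k * x = x * k := by
      have e1 : u * (x * k) = u * (k * x) := by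
        calc u * (x * k) = (u * x) * k := by rw [mul_assoc]
          _ = (x * u) * k := by rw [hx1]
          _ = x * (u * k) := by rw [mul_assoc]
          _ = (u * k) * x := hxgu
          _ = u * (k * x) := by rw [mul_assoc]
      exact (mul_left_cancel e1).symm
    have hkc : k ∈ center G := h.cent_big hxB hkN hxk
    have hkg : ∀ t : G, t * k = k * t := Subgroup.mem_center_iff.mp hkc
    have hpow : k ^ orderOf u = 1 := by
      have h1 : (g * u * g⁻¹) ^ orderOf u = 1 := by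
        rw [conj_pow, pow_orderOf_eq_one]; group
      rw [hgu, (Commute.mul_pow (show Commute u k from hkg u)), pow_orderOf_eq_one,
        one_mul] at h1
      exact h1
    have hdvd : orderOf k ∣ orderOf u := orderOf_dvd_of_pow_eq_one hpow
    have hk1 : k = 1 := orderOf_eq_one_iff.mp
      (PiNat.eq_one' h.disj (fun q hq hd => hpi q hq (hd.trans hdvd)) (h.piNat_orderOf hkK))
    rw [hk1, mul_one] at hmu
    have hmc : m ∈ center G := by
      apply hcu m hm
      calc m * u = (m * u * m⁻¹) * m := by group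
        _ = u * m := by rw [hmu]
    apply hg
    rw [hgm]
    exact mul_mem (center_le_cz u hmc) (mem_cz_iff.mpr hy')
  · -- H abelian
    apply IsMulCommutative.of_comm
    rintro ⟨xbar, hx⟩ ⟨ybar, hy⟩
    apply Subtype.ext
    show xbar * ybar = ybar * xbar
    obtain ⟨x, rfl⟩ := QuotientGroup.mk_surjective xbar
    obtain ⟨y, rfl⟩ := QuotientGroup.mk_surjective ybar
    rw [hmemH] at hx hy
    have h1 : x * y * x⁻¹ * y⁻¹ ∈ h.nSub := h.comm_mod x y
    have h2 : x * y * x⁻¹ * y⁻¹ ∈ cz u :=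
      mul_mem (mul_mem (mul_mem hx hy) (inv_mem hx)) (inv_mem hy)
    have h3 : x * y * x⁻¹ * y⁻¹ ∈ center G := hcu _ h1 (mem_cz_iff.mp h2)
    have h4 : ((x * y * x⁻¹ * y⁻¹ : G) : G ⧸ center G) = 1 := (hone _).mpr h3
    have h5 : (QuotientGroup.mk x : G ⧸ center G) * QuotientGroup.mk y *
        (QuotientGroup.mk x)⁻¹ * (QuotientGroup.mk y)⁻¹ = 1 := by
      rw [← h4]; simp
    calc (QuotientGroup.mk x : G ⧸ center G) * QuotientGroup.mk y
        = ((QuotientGroup.mk x : G ⧸ center G) * QuotientGroup.mk y *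
          (QuotientGroup.mk x)⁻¹ * (QuotientGroup.mk y)⁻¹) *
          (QuotientGroup.mk y * QuotientGroup.mk x) := by group
      _ = QuotientGroup.mk y * QuotientGroup.mk x := by rw [h5, one_mul]
  · -- the kernel lies in the image of `N`
    have hker : ∀ x : G, (QuotientGroup.mk x : G ⧸ center G) ∈ Cfsg.frobeniusKernel H →
        x ∈ h.nSub := by
      intro x hx
      by_contra hxN
      have hxB : IsA τ x := h.isA_of_not_mem hxN
      rcases hx with hx | hx
      · exact hxN (h.center_le_nSub ((hone x).mp hx))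
      · obtain ⟨g, hg⟩ := h.exists_conj_commuting p hpσ P hxB
        have h1 : g * x * g⁻¹ ∈ cz u := mem_cz_iff.mpr (hg u huP).symm
        apply hx (QuotientGroup.mk g⁻¹)
        rw [mem_conj_smul_iff]
        have h2 : (QuotientGroup.mk g⁻¹ : G ⧸ center G)⁻¹ * QuotientGroup.mk x *
            QuotientGroup.mk g⁻¹ = QuotientGroup.mk (g * x * g⁻¹) := by simp
        rw [h2, hmemH]
        exact h1
    intro xbar hx ybar hy
    obtain ⟨x, rfl⟩ := QuotientGroup.mk_surjective xbar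
    obtain ⟨y, rfl⟩ := QuotientGroup.mk_surjective ybar
    have h1 := h.nSub_comm (hker x hx) (hker y hy)
    have := congrArg (QuotientGroup.mk' (center G)) h1
    simpa using this

end Cfsg.Agent.Helper69.Bhm
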