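-- helper69: the Frobenius structure of `G / Z(G)` in the Bertram–Herzog–Mann configuration,
-- for a prescribed noncentral `p`-element `u` (`p ∈ σ`): the image of `C(u)` is a Frobenius
-- complement and the Frobenius kernel lies in the image of `N`.
import Mathlib
import Cfsg.Prelude.Def_Solvable
import Cfsg.Agent.Helper69.Bhm5

set_option autoImplicit false

namespace Cfsg.Agent.Helper69.Bhm

open Subgroup
open scoped Pointwise

variable {G : Type*} [Group G]

theorem mk_mem_map_cz_iff (u g : G) :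
    (QuotientGroup.mk g : G ⧸ center G) ∈ (cz u).map (QuotientGroup.mk' (center G)) ↔
      g ∈ cz u := by
  rw [Subgroup.mem_map]
  constructor
  · rintro ⟨x, hx, hxg⟩
    have h1 : x⁻¹ * g ∈ center G := QuotientGroup.eq.mp hxg
    have h2 : x * (x⁻¹ * g) ∈ cz u := mul_mem hx (center_le_cz u h1)
    rwa [mul_inv_cancel_left] at h2
  · intro hg
    exact ⟨g, hg, rfl⟩

variable [Finite G] {σ τ : Set ℕ}

theorem Cfg.frobenius_at (h : Cfg G σ τ) (p : ℕ) [hp : Fact p.Prime] (hpσ : p ∈ σ)
    (P : Sylow p G) {u : G} (huP : u ∈ (P : Subgroup G)) (huc : u ∉ center G) :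
    Cfsg.IsFrobeniusComplement ((cz u).map (QuotientGroup.mk' (center G))) ∧
    (∀ x : G, (QuotientGroup.mk x : G ⧸ center G) ∈
      Cfsg.frobeniusKernel ((cz u).map (QuotientGroup.mk' (center G))) → x ∈ h.nSub) := by
  have hpi : IsPi σ u := isPi_of_mem_sylow p P hpσ huP
  have huB : IsA τ u := by
    apply h.isA_of_not_mem
    intro hm
    rcases h.mem_center_or_isA hm with h1 | h1
    · exact huc h1
    · exact h.not_isPi_of_isA h1 hpi
  have hcu : ∀ m ∈ h.nSub, m * u = u * m → m ∈ center G := by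
    intro m hm hmu
    rcases h.mem_center_or_isA hm with h1 | h1
    · exact h1
    · exact (h.not_comm_pi h1 huB hpi hmu).elim
  obtain ⟨a, ha⟩ := h.exA
  obtain ⟨H, hH⟩ : ∃ H : Subgroup (G ⧸ center G),
      H = (cz u).map (QuotientGroup.mk' (center G)) := ⟨_, rfl⟩
  rw [← hH]
  have hmemH : ∀ g : G, (QuotientGroup.mk g : G ⧸ center G) ∈ H ↔ g ∈ cz u := by
    intro g
    rw [hH]
    exact mk_mem_map_cz_iff u g
  have hone : ∀ g : G, (QuotientGroup.mk g : G ⧸ center G) = 1 ↔ g ∈ center G :=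
    fun g => QuotientGroup.eq_one_iff g
  have hbig : ∀ x : G, x ∈ cz u → x ∉ center G → IsA τ x := by
    intro x hx hxc
    apply h.isA_of_not_mem
    intro hxN
    exact hxc (hcu x hxN (mem_cz_iff.mp hx))
  refine ⟨⟨?_, ?_, ?_⟩, ?_⟩
  · intro hbot
    have h1 : (QuotientGroup.mk u : G ⧸ center G) ∈ H := (hmemH u).mpr (self_mem_cz u)
    rw [hbot, Subgroup.mem_bot, hone] at h1
    exact huc h1
  · intro htop
    have h1 : (QuotientGroup.mk a : G ⧸ center G) ∈ H := by rw [htop]; exact mem_top _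
    rw [hmemH] at h1
    exact ha.not_mem_center (hcu a (h.mem_nSub_of_isA ha) (mem_cz_iff.mp h1))
  · intro gbar hg
    obtain ⟨g, rfl⟩ := QuotientGroup.mk_surjective gbar
    rw [hmemH] at hg
    rw [eq_bot_iff]
    intro xbar hx
    obtain ⟨x, rfl⟩ := QuotientGroup.mk_surjective xbar
    rw [Subgroup.mem_inf, mem_conj_smul_iff] at hx
    obtain ⟨hx1, hx2⟩ := hx
    rw [hmemH] at hx1
    have hx2' : g⁻¹ * x * g ∈ cz u := by
      rw [← hmemH]
      exact hx2
    rw [Subgroup.mem_bot, hone]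
    by_contra hxc
    have hxB : IsA τ x := hbig x hx1 hxc
    obtain ⟨m, hm, y', hy', hgm⟩ := h.exists_mul huB g
    rw [mem_cz_iff] at hy' hx1 hx2'
    obtain ⟨k, hk⟩ : ∃ k : G, k = m⁻¹ * (u⁻¹ * m * u⁻¹⁻¹) := ⟨_, rfl⟩
    have hkK : k ∈ kSub G σ := by
      have := h.theta_mem_kSub u⁻¹ ⟨m, hm⟩
      rw [h.theta_coe] at this
      rw [hk]; exact this
    have hkN : k ∈ h.nSub := h.kSub_le_nSub hkK
    have hmk : m * k = k * m := h.nSub_comm hm hkN
    have hmu : m * u * m⁻¹ = u * k := by
      have e1 : m * k = u⁻¹ * m * u := by rw [hk]; group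
      calc m * u * m⁻¹ = u * (u⁻¹ * m * u) * m⁻¹ := by group
        _ = u * (m * k) * m⁻¹ := by rw [e1]
        _ = u * (k * m) * m⁻¹ := by rw [hmk]
        _ = u * k := by group
    have hgu : g * u * g⁻¹ = u * k := by
      have e1 : y' * u * y'⁻¹ = u := by rw [hy']; group
      rw [hgm]
      calc m * y' * u * (m * y')⁻¹ = m * (y' * u * y'⁻¹) * m⁻¹ := by group
        _ = m * u * m⁻¹ := by rw [e1]
        _ = u * k := hmu
    have hxgu : x * (u * k) = (u * k) * x := by
      rw [← hgu]
      calc x * (g * u * g⁻¹) = g * ((g⁻¹ * x * g) * u) * g⁻¹ := by group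
        _ = g * (u * (g⁻¹ * x * g)) * g⁻¹ := by rw [hx2']
        _ = g * u * g⁻¹ * x := by group
    have hxk : k * x = x * k := by
      have e1 : u * (x * k) = u * (k * x) := by
        calc u * (x * k) = (u * x) * k := by rw [mul_assoc]
          _ = (x * u) * k := by rw [hx1]
          _ = x * (u * k) := by rw [mul_assoc]
          _ = (u * k) * x := hxgu
          _ = u * (k * x) := by rw [mul_assoc]
      exact (mul_left_cancel e1).symm
    have hkc : k ∈ center G := h.cent_big hxB hkN hxk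
    have hkg : ∀ t : G, t * k = k * t := Subgroup.mem_center_iff.mp hkc
    have hpow : k ^ orderOf u = 1 := by
      have h1 : (g * u * g⁻¹) ^ orderOf u = 1 := by
        rw [conj_pow, pow_orderOf_eq_one]; group
      rw [hgu, (Commute.mul_pow (show Commute u k from hkg u)), pow_orderOf_eq_one,
        one_mul] at h1
      exact h1
    have hdvd : orderOf k ∣ orderOf u := orderOf_dvd_of_pow_eq_one hpow
    have hk1 : k = 1 := orderOf_eq_one_iff.mp
      (PiNat.eq_one' h.disj (fun q hq hd => hpi q hq (hd.trans hdvd)) (h.piNat_orderOf hkK))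
    rw [hk1, mul_one] at hmu
    have hmc : m ∈ center G := by
      apply hcu m hm
      calc m * u = (m * u * m⁻¹) * m := by group
        _ = u * m := by rw [hmu]
    apply hg
    rw [hgm]
    exact mul_mem (center_le_cz u hmc) (mem_cz_iff.mpr hy')
  · intro x hx
    by_contra hxN
    have hxB : IsA τ x := h.isA_of_not_mem hxN
    rcases hx with hx | hx
    · exact hxN (h.center_le_nSub ((hone x).mp hx))
    · obtain ⟨g, hg⟩ := h.exists_conj_commuting p hpσ P hxB
      have h1 : g * x * g⁻¹ ∈ cz u := mem_cz_iff.mpr (hg u huP).symm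
      apply hx (QuotientGroup.mk g⁻¹)
      rw [mem_conj_smul_iff]
      have h2 : (QuotientGroup.mk g⁻¹ : G ⧸ center G)⁻¹ * QuotientGroup.mk x *
          QuotientGroup.mk g⁻¹ = QuotientGroup.mk (g * x * g⁻¹) := by simp
      rw [h2, hmemH]
      exact h1

end Cfsg.Agent.Helper69.Bhm
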