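import Cfsg.Agent.S2326
import Cfsg.Agent.Helper36.ChevAutDefs

/-!
# Piece A of helper36's plan for S2156 (board post #4877): the Sylow step

Every automorphism `θ` of a Chevalley group `G` of type G₂, B₂, D₄, F₄, E₆, E₇, E₈ over a finite field
can be composed with an inner automorphism so as to stabilise `U`.
-/

set_option autoImplicit false

namespace Cfsg.Agent.Helper69.ChevAutA

open Cfsg Cfsg.Lie

theorem pieceA {F : Type*} [Field F] [Finite F] (D : ChevalleyDatum)
    (hD : D ∈ [chevG2, chevB2, chevD4, chevF4, chevE6, chevE7, chevE8])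
    (θ : ↥(D.group F) ≃* ↥(D.group F)) :
    ∃ x : ↥(D.group F), ∀ u : ↥(D.group F), (u : GL D.Idx F) ∈ D.posUnipotent F →
      ((x * θ u * x⁻¹ : ↥(D.group F)) : GL D.Idx F) ∈ D.posUnipotent F := by
  classical
  letI : Fintype F := Fintype.ofFinite F
  haveI hcp : CharP F (ringChar F) := ringChar.charP F
  haveI : Fact (ringChar F).Prime := ⟨CharP.char_is_prime F (ringChar F)⟩
  obtain ⟨P, hP⟩ := Cfsg.Agent.S2326.result (F := F) (ringChar F) D hD
  haveI : Finite ↥(D.group F) := inferInstance
  -- the Sylow subgroup `θ(U)`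
  have hinj : Function.Injective (θ.symm.toMonoidHom : ↥(D.group F) →* ↥(D.group F)) :=
    θ.symm.injective
  have hrange : (P : Subgroup ↥(D.group F)) ≤
      (θ.symm.toMonoidHom : ↥(D.group F) →* ↥(D.group F)).range := by
    intro g _
    exact ⟨θ g, θ.symm_apply_apply g⟩
  obtain ⟨x, hx⟩ := MulAction.exists_smul_eq ↥(D.group F)
    (P.comapOfInjective (θ.symm.toMonoidHom : ↥(D.group F) →* ↥(D.group F)) hinj hrange) P
  refine ⟨x, fun u hu => ?_⟩
  have huP : u ∈ (P : Subgroup ↥(D.group F)) := by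
    rw [hP]
    exact Subgroup.mem_subgroupOf.2 hu
  have hQ : θ u ∈ ((P.comapOfInjective (θ.symm.toMonoidHom : ↥(D.group F) →* ↥(D.group F))
      hinj hrange : Sylow (ringChar F) ↥(D.group F)) : Subgroup ↥(D.group F)) := by
    rw [Sylow.coe_comapOfInjective, Subgroup.mem_comap]
    change θ.symm (θ u) ∈ (P : Subgroup ↥(D.group F))
    rw [θ.symm_apply_apply]
    exact huP
  have hconj : x * θ u * x⁻¹ ∈ ((x • (P.comapOfInjective
      (θ.symm.toMonoidHom : ↥(D.group F) →* ↥(D.group F)) hinj hrange) :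
        Sylow (ringChar F) ↥(D.group F)) : Subgroup ↥(D.group F)) := by
    rw [Sylow.smul_def, Sylow.pointwise_smul_def]
    have := Subgroup.smul_mem_pointwise_smul (θ u) (MulAut.conj x) _ hQ
    simpa [MulAut.smul_def] using this
  rw [hx, hP] at hconj
  exact Subgroup.mem_subgroupOf.1 hconj

end Cfsg.Agent.Helper69.ChevAutA
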