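import Mathlib
import Cfsg.Agent.Helper62.D8.Defs

/-!
# (K1d) for S3716 (helper62 skeleton): assembly of the shape from the core and the sections
-/

set_option autoImplicit false
set_option linter.unusedVariables false
open Finset

namespace Cfsg.Agent.Helper69.D8

open Cfsg Cfsg.Agent.Helper62.D8

section arith
variable {ι : Type*} [Fintype ι] [DecidableEq ι]

theorem sum_ind_mul (j : ι) (f : ι → ℤ) : ∑ i, ind j i * f i = f j := by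
  unfold ind
  simp

/-- the Gram form against a combination of four indicators -/
theorem sum_lin4 (c₁ c₂ c₃ c₄ : ℤ) (j₁ j₂ j₃ j₄ : ι) (z f : ι → ℤ)
    (hz : ∀ i, z i = c₁ * ind j₁ i + c₂ * ind j₂ i + c₃ * ind j₃ i + c₄ * ind j₄ i) :
    ∑ i, z i * f i = c₁ * f j₁ + c₂ * f j₂ + c₃ * f j₃ + c₄ * f j₄ := by
  have : ∀ i, z i * f i = c₁ * (ind j₁ i * f i) + c₂ * (ind j₂ i * f i) + c₃ * (ind j₃ i * f i)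
      + c₄ * (ind j₄ i * f i) := by
    intro i
    rw [hz i]
    ring
  simp only [this, Finset.sum_add_distrib, ← Finset.mul_sum, sum_ind_mul]

/-- normalized constructor of `Shape3` -/
theorem mk3 (o θ α α' β β' γ γ₂ γ₄ : ι) (ε a a' b b' g g₂ g₄ : ℤ) (w₁ w₂ w₃ w₄ : ι → ℤ)
    (hnd : [o, θ, α, α', β, β', γ, γ₂, γ₄].Nodup)
    (hε : IsSign ε) (ha : IsSign a) (ha' : IsSign a') (hb : IsSign b) (hb' : IsSign b')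
    (hg : IsSign g) (hg₂ : IsSign g₂) (hg₄ : IsSign g₄)
    (hw₁ : ∀ i, w₁ i = ind o i + ε * ind θ i + a * ind α i + a' * ind α' i)
    (hw₃ : ∀ i, w₃ i = ind o i + ε * ind θ i + b * ind β i + b' * ind β' i)
    (hw₂ : ∀ i, w₂ i = ε * ind θ i + b * ind β i + g * ind γ i + g₂ * ind γ₂ i)
    (hw₄ : ∀ i, w₄ i = ε * ind θ i + a * ind α i + g * ind γ i + g₄ * ind γ₄ i) :
    Shape3 o w₁ w₂ w₃ w₄ := by
  refine ⟨α', γ₂, β', γ₄, γ, β, α, θ, ?_, a', g₂, b', g₄, g, b, a, ε, ha', hg₂, hb', hg₄, hg, hb,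
    ha, hε, ?_, ?_, ?_, ?_⟩
  · simp only [List.nodup_cons, List.mem_cons, List.not_mem_nil, or_false, not_or,
      List.nodup_nil] at hnd ⊢
    grind
  · intro i; rw [hw₁ i]; ring
  · intro i; rw [hw₂ i]; ring
  · intro i; rw [hw₃ i]; ring
  · intro i; rw [hw₄ i]; ring

/-- normalized constructor of `Shape4` -/
theorem mk4 (o θ α₁ α₂ β β' γ γ₂ : ι) (ε a₁ a₂ b b' g g₂ : ℤ) (w₁ w₂ w₃ w₄ : ι → ℤ)
    (hnd : [o, θ, α₁, α₂, β, β', γ, γ₂].Nodup)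
    (hε : IsSign ε) (ha₁ : IsSign a₁) (ha₂ : IsSign a₂) (hb : IsSign b) (hb' : IsSign b')
    (hg : IsSign g) (hg₂ : IsSign g₂)
    (hw₁ : ∀ i, w₁ i = ind o i + ε * ind θ i + a₁ * ind α₁ i + a₂ * ind α₂ i)
    (hw₃ : ∀ i, w₃ i = ind o i + ε * ind θ i + b * ind β i + b' * ind β' i)
    (hw₂ : ∀ i, w₂ i = ε * ind θ i + b * ind β i + g * ind γ i + g₂ * ind γ₂ i)
    (hw₄ : ∀ i, w₄ i = a₁ * ind α₁ i + a₂ * ind α₂ i + b * ind β i + g * ind γ i) :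
    Shape4 o w₁ w₂ w₃ w₄ := by
  refine ⟨β', γ₂, γ, β, α₁, α₂, θ, ?_, b', g₂, g, b, a₁, a₂, ε, hb', hg₂, hg, hb, ha₁, ha₂, hε,
    ?_, ?_, ?_, ?_⟩
  · simp only [List.nodup_cons, List.mem_cons, List.not_mem_nil, or_false, not_or,
      List.nodup_nil] at hnd ⊢
    grind
  · intro i; rw [hw₁ i]; ring
  · intro i; rw [hw₂ i]; ring
  · intro i; rw [hw₃ i]; ring
  · intro i; rw [hw₄ i]; ring

/-- normalized constructor of `Shape5` -/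
theorem mk5 (o θ α α' β₁ β₂ γ γ₄ : ι) (ε a a' b₁ b₂ g g₄ : ℤ) (w₁ w₂ w₃ w₄ : ι → ℤ)
    (hnd : [o, θ, α, α', β₁, β₂, γ, γ₄].Nodup)
    (hε : IsSign ε) (ha : IsSign a) (ha' : IsSign a') (hb₁ : IsSign b₁) (hb₂ : IsSign b₂)
    (hg : IsSign g) (hg₄ : IsSign g₄)
    (hw₁ : ∀ i, w₁ i = ind o i + ε * ind θ i + a * ind α i + a' * ind α' i)
    (hw₃ : ∀ i, w₃ i = ind o i + ε * ind θ i + b₁ * ind β₁ i + b₂ * ind β₂ i)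
    (hw₂ : ∀ i, w₂ i = b₁ * ind β₁ i + b₂ * ind β₂ i + a * ind α i + g * ind γ i)
    (hw₄ : ∀ i, w₄ i = ε * ind θ i + a * ind α i + g * ind γ i + g₄ * ind γ₄ i) :
    Shape5 o w₁ w₂ w₃ w₄ := by
  refine ⟨γ₄, γ, β₁, β₂, α', θ, α, ?_, g₄, g, b₁, b₂, a', ε, a, hg₄, hg, hb₁, hb₂, ha', hε, ha,
    ?_, ?_, ?_, ?_⟩
  · simp only [List.nodup_cons, List.mem_cons, List.not_mem_nil, or_false, not_or,
      List.nodup_nil] at hnd ⊢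
    grind
  · intro i; rw [hw₁ i]; ring
  · intro i; rw [hw₂ i]; ring
  · intro i; rw [hw₃ i]; ring
  · intro i; rw [hw₄ i]; ring

/-- normalized constructor of `Shape6` -/
theorem mk6 (o θ α α' β β' γ γ₄ : ι) (ε a a' b b' g g₄ : ℤ) (w₁ w₂ w₃ w₄ : ι → ℤ)
    (hnd : [o, θ, α, α', β, β', γ, γ₄].Nodup)
    (hε : IsSign ε) (ha : IsSign a) (ha' : IsSign a') (hb : IsSign b) (hb' : IsSign b')
    (hg : IsSign g) (hg₄ : IsSign g₄)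
    (hw₁ : ∀ i, w₁ i = ind o i + ε * ind θ i + a * ind α i + a' * ind α' i)
    (hw₃ : ∀ i, w₃ i = ind o i + ε * ind θ i + b * ind β i + b' * ind β' i)
    (hw₂ : ∀ i, w₂ i = b * ind β i + b' * ind β' i + a * ind α i + g * ind γ i)
    (hw₄ : ∀ i, w₄ i = a * ind α i + a' * ind α' i + b * ind β i + g₄ * ind γ₄ i) :
    Shape6 o w₁ w₂ w₃ w₄ := by
  refine ⟨γ₄, γ, β', β, α', θ, α, ?_, g₄, g, b', b, a', ε, a, hg₄, hg, hb', hb, ha', hε, ha,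
    ?_, ?_, ?_, ?_⟩
  · simp only [List.nodup_cons, List.mem_cons, List.not_mem_nil, or_false, not_or,
      List.nodup_nil] at hnd ⊢
    grind
  · intro i; rw [hw₁ i]; ring
  · intro i; rw [hw₂ i]; ring
  · intro i; rw [hw₃ i]; ring
  · intro i; rw [hw₄ i]; ring

/-! ### bookkeeping of distinctness -/

theorem nodup8 {o θ α α' β β' x y : ι} (hnd : [o, θ, α, α', β, β'].Nodup)
    (hx : x ∉ [o, θ, α, α', β, β']) (hy : y ∉ [o, θ, α, α', β, β']) (hxy : x ≠ y) :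
    [o, θ, α, α', β, β', x, y].Nodup := by
  simp only [List.nodup_cons, List.mem_cons, List.not_mem_nil, or_false, not_or,
    List.nodup_nil] at hnd hx hy ⊢
  grind

theorem nodup9 {o θ α α' β β' x y z : ι} (hnd : [o, θ, α, α', β, β'].Nodup)
    (hx : x ∉ [o, θ, α, α', β, β']) (hy : y ∉ [o, θ, α, α', β, β'])
    (hz : z ∉ [o, θ, α, α', β, β']) (hxy : x ≠ y) (hxz : x ≠ z) (hyz : y ≠ z) :
    [o, θ, α, α', β, β', x, y, z].Nodup := by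
  simp only [List.nodup_cons, List.mem_cons, List.not_mem_nil, or_false, not_or,
    List.nodup_nil] at hnd hx hy hz ⊢
  grind

/-- `(x, c), (x', c')` is `(x₁, c₁), (x₂, c₂)` in one of the two orders -/
def Pr (x₁ x₂ : ι) (c₁ c₂ : ℤ) (x x' : ι) (c c' : ℤ) : Prop :=
  (x = x₁ ∧ c = c₁ ∧ x' = x₂ ∧ c' = c₂) ∨ (x = x₂ ∧ c = c₂ ∧ x' = x₁ ∧ c' = c₁)

theorem Pr.refl (x₁ x₂ : ι) (c₁ c₂ : ℤ) : Pr x₁ x₂ c₁ c₂ x₁ x₂ c₁ c₂ :=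
  Or.inl ⟨rfl, rfl, rfl, rfl⟩

theorem Pr.flip (x₁ x₂ : ι) (c₁ c₂ : ℤ) : Pr x₁ x₂ c₁ c₂ x₂ x₁ c₂ c₁ :=
  Or.inr ⟨rfl, rfl, rfl, rfl⟩

theorem Pr.eq {x₁ x₂ : ι} {c₁ c₂ : ℤ} {x x' : ι} {c c' : ℤ} (h : Pr x₁ x₂ c₁ c₂ x x' c c')
    (i : ι) : c₁ * ind x₁ i + c₂ * ind x₂ i = c * ind x i + c' * ind x' i := by
  rcases h with ⟨rfl, rfl, rfl, rfl⟩ | ⟨rfl, rfl, rfl, rfl⟩
  · rfl
  · exact add_comm _ _

theorem Pr.sign {x₁ x₂ : ι} {c₁ c₂ : ℤ} {x x' : ι} {c c' : ℤ} (h : Pr x₁ x₂ c₁ c₂ x x' c c')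
    (h₁ : IsSign c₁) (h₂ : IsSign c₂) : IsSign c ∧ IsSign c' := by
  rcases h with ⟨rfl, rfl, rfl, rfl⟩ | ⟨rfl, rfl, rfl, rfl⟩
  · exact ⟨h₁, h₂⟩
  · exact ⟨h₂, h₁⟩

theorem Pr.choice {x₁ x₂ : ι} {c₁ c₂ : ℤ} {x x' : ι} {c c' : ℤ} (h : Pr x₁ x₂ c₁ c₂ x x' c c')
    {y : ι} {d : ℤ} (hy : (y = x₁ ∧ d = c₁) ∨ (y = x₂ ∧ d = c₂)) :
    (y = x ∧ d = c) ∨ (y = x' ∧ d = c') := by
  rcases h with ⟨rfl, rfl, rfl, rfl⟩ | ⟨rfl, rfl, rfl, rfl⟩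
  · exact hy
  · exact hy.symm

theorem exists_other (x₁ x₂ x : ι) (c₁ c₂ c : ℤ) (h : (x = x₁ ∧ c = c₁) ∨ (x = x₂ ∧ c = c₂)) :
    ∃ x' : ι, ∃ c' : ℤ, Pr x₁ x₂ c₁ c₂ x x' c c' := by
  rcases h with ⟨rfl, rfl⟩ | ⟨rfl, rfl⟩
  · exact ⟨x₂, c₂, Pr.refl _ _ _ _⟩
  · exact ⟨x₁, c₁, Pr.flip _ _ _ _⟩

theorem pair_nodup {o θ α₁ α₂ β₁ β₂ α α' β β' : ι} {a₁ a₂ b₁ b₂ a a' b b' : ℤ}
    (hnd : [o, θ, α₁, α₂, β₁, β₂].Nodup)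
    (hα : Pr α₁ α₂ a₁ a₂ α α' a a') (hβ : Pr β₁ β₂ b₁ b₂ β β' b b') :
    [o, θ, α, α', β, β'].Nodup := by
  simp only [List.nodup_cons, List.mem_cons, List.not_mem_nil, or_false, not_or,
    List.nodup_nil] at hnd ⊢
  rcases hα with ⟨rfl, -, rfl, -⟩ | ⟨rfl, -, rfl, -⟩ <;>
    rcases hβ with ⟨rfl, -, rfl, -⟩ | ⟨rfl, -, rfl, -⟩ <;> grind

theorem pair_not_mem {o θ α₁ α₂ β₁ β₂ α α' β β' x : ι} {a₁ a₂ b₁ b₂ a a' b b' : ℤ}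
    (hx : x ∉ [o, θ, α₁, α₂, β₁, β₂])
    (hα : Pr α₁ α₂ a₁ a₂ α α' a a') (hβ : Pr β₁ β₂ b₁ b₂ β β' b b') :
    x ∉ [o, θ, α, α', β, β'] := by
  simp only [List.mem_cons, List.not_mem_nil, or_false, not_or] at hx ⊢
  rcases hα with ⟨rfl, -, rfl, -⟩ | ⟨rfl, -, rfl, -⟩ <;>
    rcases hβ with ⟨rfl, -, rfl, -⟩ | ⟨rfl, -, rfl, -⟩ <;> grind

theorem not_mem_swap {o θ α₁ α₂ β₁ β₂ x : ι} (hx : x ∉ [o, θ, β₁, β₂, α₁, α₂]) :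
    x ∉ [o, θ, α₁, α₂, β₁, β₂] := by
  simp only [List.mem_cons, List.not_mem_nil, or_false, not_or] at hx ⊢
  grind

theorem nodup_swap {o θ α₁ α₂ β₁ β₂ : ι} (hnd : [o, θ, α₁, α₂, β₁, β₂].Nodup) :
    [o, θ, β₁, β₂, α₁, α₂].Nodup := by
  simp only [List.nodup_cons, List.mem_cons, List.not_mem_nil, or_false, not_or,
    List.nodup_nil] at hnd ⊢
  grind

theorem sign_mul_self {c : ℤ} (h : IsSign c) : c * c = 1 := by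
  rcases h with rfl | rfl <;> norm_num

/-- which of the two new points of `w₂` is shared with `w₄` -/
theorem share_cases (γ₁ γ₂ δ₁ δ₂ : ι) (g₁ g₂ k₁ k₂ : ℤ) (hγ : γ₁ ≠ γ₂) (hδ : δ₁ ≠ δ₂)
    (hg₁ : IsSign g₁) (hg₂ : IsSign g₂) (hk₁ : IsSign k₁) (hk₂ : IsSign k₂)
    (h : g₁ * (k₁ * ind δ₁ γ₁ + k₂ * ind δ₂ γ₁) + g₂ * (k₁ * ind δ₁ γ₂ + k₂ * ind δ₂ γ₂) = 1) :
    (γ₁ = δ₁ ∧ g₁ = k₁ ∧ γ₂ ≠ δ₂) ∨ (γ₁ = δ₂ ∧ g₁ = k₂ ∧ γ₂ ≠ δ₁) ∨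
      (γ₂ = δ₁ ∧ g₂ = k₁ ∧ γ₁ ≠ δ₂) ∨ (γ₂ = δ₂ ∧ g₂ = k₂ ∧ γ₁ ≠ δ₁) := by
  unfold IsSign at hg₁ hg₂ hk₁ hk₂
  by_cases h11 : γ₁ = δ₁ <;> by_cases h12 : γ₁ = δ₂ <;> by_cases h21 : γ₂ = δ₁ <;>
    by_cases h22 : γ₂ = δ₂ <;> grind [ind]

/-- which of the two new points of `w₂` is the new point of `w₄` -/
theorem share_cases1 (γ₁ γ₂ δ : ι) (g₁ g₂ k : ℤ) (hγ : γ₁ ≠ γ₂)
    (hg₁ : IsSign g₁) (hg₂ : IsSign g₂) (hk : IsSign k)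
    (h : g₁ * (k * ind δ γ₁) + g₂ * (k * ind δ γ₂) = 1) :
    (γ₁ = δ ∧ g₁ = k) ∨ (γ₂ = δ ∧ g₂ = k) := by
  unfold IsSign at hg₁ hg₂ hk
  by_cases h1 : γ₁ = δ <;> by_cases h2 : γ₂ = δ <;> grind [ind]

/-! ### the four good cases, normalized -/

/-- case `(A1, A1')`, normalized: type 3 -/
theorem A1A1n (o θ α α' β β' γ₁ γ₂ δ₁ δ₂ : ι) (ε a a' b b' g₁ g₂ k₁ k₂ : ℤ)
    (w₁ w₂ w₃ w₄ : ι → ℤ) (hnd : [o, θ, α, α', β, β'].Nodup)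
    (hε : IsSign ε) (ha : IsSign a) (ha' : IsSign a') (hb : IsSign b) (hb' : IsSign b')
    (hg₁ : IsSign g₁) (hg₂ : IsSign g₂) (hk₁ : IsSign k₁) (hk₂ : IsSign k₂)
    (hγ : γ₁ ≠ γ₂) (hδ : δ₁ ≠ δ₂)
    (hγ₁ : γ₁ ∉ [o, θ, α, α', β, β']) (hγ₂ : γ₂ ∉ [o, θ, α, α', β, β'])
    (hδ₁ : δ₁ ∉ [o, θ, α, α', β, β']) (hδ₂ : δ₂ ∉ [o, θ, α, α', β, β'])
    (hw₁ : ∀ i, w₁ i = ind o i + ε * ind θ i + a * ind α i + a' * ind α' i)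
    (hw₃ : ∀ i, w₃ i = ind o i + ε * ind θ i + b * ind β i + b' * ind β' i)
    (hw₂ : ∀ i, w₂ i = ε * ind θ i + b * ind β i + g₁ * ind γ₁ i + g₂ * ind γ₂ i)
    (hw₄ : ∀ i, w₄ i = ε * ind θ i + a * ind α i + k₁ * ind δ₁ i + k₂ * ind δ₂ i)
    (g24 : ∑ i, w₂ i * w₄ i = 2) : Shape3 o w₁ w₂ w₃ w₄ := by
  have key : g₁ * (k₁ * ind δ₁ γ₁ + k₂ * ind δ₂ γ₁) + g₂ * (k₁ * ind δ₁ γ₂ + k₂ * ind δ₂ γ₂)
      = 1 := by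
    rw [sum_lin4 _ _ _ _ _ _ _ _ w₂ w₄ hw₂] at g24
    have hnd' := hnd
    have hγ₁' := hγ₁
    have hγ₂' := hγ₂
    have hδ₁' := hδ₁
    have hδ₂' := hδ₂
    simp only [List.nodup_cons, List.mem_cons, List.not_mem_nil, or_false, not_or,
      List.nodup_nil] at hnd' hγ₁' hγ₂' hδ₁' hδ₂'
    have e1 : w₄ θ = ε := by grind [ind]
    have e2 : w₄ β = 0 := by grind [ind]
    have e3 : w₄ γ₁ = k₁ * ind δ₁ γ₁ + k₂ * ind δ₂ γ₁ := by grind [ind]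
    have e4 : w₄ γ₂ = k₁ * ind δ₁ γ₂ + k₂ * ind δ₂ γ₂ := by grind [ind]
    rw [e1, e2, e3, e4, sign_mul_self hε] at g24
    linarith
  rcases share_cases γ₁ γ₂ δ₁ δ₂ g₁ g₂ k₁ k₂ hγ hδ hg₁ hg₂ hk₁ hk₂ key with
    ⟨h1, h2, h3⟩ | ⟨h1, h2, h3⟩ | ⟨h1, h2, h3⟩ | ⟨h1, h2, h3⟩
  · subst h1 h2
    exact mk3 o θ α α' β β' γ₁ γ₂ δ₂ ε a a' b b' g₁ g₂ k₂ w₁ w₂ w₃ w₄
      (nodup9 hnd hγ₁ hγ₂ hδ₂ hγ hδ h3) hε ha ha' hb hb' hg₁ hg₂ hk₂ hw₁ hw₃ hw₂ hw₄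
  · subst h1 h2
    exact mk3 o θ α α' β β' γ₁ γ₂ δ₁ ε a a' b b' g₁ g₂ k₁ w₁ w₂ w₃ w₄
      (nodup9 hnd hγ₁ hγ₂ hδ₁ hγ hδ.symm h3) hε ha ha' hb hb' hg₁ hg₂ hk₁ hw₁ hw₃ hw₂
      (fun i => by rw [hw₄ i]; ring)
  · subst h1 h2
    exact mk3 o θ α α' β β' γ₂ γ₁ δ₂ ε a a' b b' g₂ g₁ k₂ w₁ w₂ w₃ w₄
      (nodup9 hnd hγ₂ hγ₁ hδ₂ hγ.symm hδ h3) hε ha ha' hb hb' hg₂ hg₁ hk₂ hw₁ hw₃
      (fun i => by rw [hw₂ i]; ring) hw₄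
  · subst h1 h2
    exact mk3 o θ α α' β β' γ₂ γ₁ δ₁ ε a a' b b' g₂ g₁ k₁ w₁ w₂ w₃ w₄
      (nodup9 hnd hγ₂ hγ₁ hδ₁ hγ.symm hδ.symm h3) hε ha ha' hb hb' hg₂ hg₁ hk₁ hw₁ hw₃
      (fun i => by rw [hw₂ i]; ring) (fun i => by rw [hw₄ i]; ring)

/-- case `(A1, B')`, normalized: type 4 -/
theorem A1Bn (o θ α α' β β' γ₁ γ₂ δ β₄ : ι) (ε a a' b b' g₁ g₂ k b₄ : ℤ)
    (w₁ w₂ w₃ w₄ : ι → ℤ) (hnd : [o, θ, α, α', β, β'].Nodup)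
    (hε : IsSign ε) (ha : IsSign a) (ha' : IsSign a') (hb : IsSign b) (hb' : IsSign b')
    (hg₁ : IsSign g₁) (hg₂ : IsSign g₂) (hk : IsSign k)
    (hγ : γ₁ ≠ γ₂)
    (hγ₁ : γ₁ ∉ [o, θ, α, α', β, β']) (hγ₂ : γ₂ ∉ [o, θ, α, α', β, β'])
    (hδ : δ ∉ [o, θ, α, α', β, β'])
    (hβ₄ : (β₄ = β ∧ b₄ = b) ∨ (β₄ = β' ∧ b₄ = b'))
    (hw₁ : ∀ i, w₁ i = ind o i + ε * ind θ i + a * ind α i + a' * ind α' i)
    (hw₃ : ∀ i, w₃ i = ind o i + ε * ind θ i + b * ind β i + b' * ind β' i)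
    (hw₂ : ∀ i, w₂ i = ε * ind θ i + b * ind β i + g₁ * ind γ₁ i + g₂ * ind γ₂ i)
    (hw₄ : ∀ i, w₄ i = a * ind α i + a' * ind α' i + b₄ * ind β₄ i + k * ind δ i)
    (g24 : ∑ i, w₂ i * w₄ i = 2) : Shape4 o w₁ w₂ w₃ w₄ := by
  have key : b * (b₄ * ind β₄ β) + (g₁ * (k * ind δ γ₁) + g₂ * (k * ind δ γ₂)) = 2 := by
    rw [sum_lin4 _ _ _ _ _ _ _ _ w₂ w₄ hw₂] at g24
    have hnd' := hnd
    have hγ₁' := hγ₁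
    have hγ₂' := hγ₂
    have hδ' := hδ
    simp only [List.nodup_cons, List.mem_cons, List.not_mem_nil, or_false, not_or,
      List.nodup_nil] at hnd' hγ₁' hγ₂' hδ'
    have e1 : w₄ θ = 0 := by grind [ind]
    have e2 : w₄ β = b₄ * ind β₄ β := by grind [ind]
    have e3 : w₄ γ₁ = k * ind δ γ₁ := by grind [ind]
    have e4 : w₄ γ₂ = k * ind δ γ₂ := by grind [ind]
    rw [e1, e2, e3, e4] at g24
    linarith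
  have hββ' : β' ≠ β := by
    simp only [List.nodup_cons, List.mem_cons, List.not_mem_nil, or_false, not_or,
      List.nodup_nil] at hnd
    grind
  have hbound : g₁ * (k * ind δ γ₁) + g₂ * (k * ind δ γ₂) ≤ 1 := by
    unfold IsSign at hg₁ hg₂ hk
    by_cases h1 : γ₁ = δ <;> by_cases h2 : γ₂ = δ <;> grind [ind]
  rcases hβ₄ with ⟨rfl, rfl⟩ | ⟨rfl, rfl⟩
  · rw [show ind β₄ β₄ = 1 from if_pos rfl, mul_one, sign_mul_self hb] at key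
    have key' : g₁ * (k * ind δ γ₁) + g₂ * (k * ind δ γ₂) = 1 := by linarith
    rcases share_cases1 γ₁ γ₂ δ g₁ g₂ k hγ hg₁ hg₂ hk key' with ⟨h1, h2⟩ | ⟨h1, h2⟩
    · subst h1 h2
      exact mk4 o θ α α' β₄ β' γ₁ γ₂ ε a a' b₄ b' g₁ g₂ w₁ w₂ w₃ w₄
        (nodup8 hnd hγ₁ hγ₂ hγ) hε ha ha' hb hb' hg₁ hg₂ hw₁ hw₃ hw₂ hw₄
    · subst h1 h2
      exact mk4 o θ α α' β₄ β' γ₂ γ₁ ε a a' b₄ b' g₂ g₁ w₁ w₂ w₃ w₄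
        (nodup8 hnd hγ₂ hγ₁ hγ.symm) hε ha ha' hb hb' hg₂ hg₁ hw₁ hw₃
        (fun i => by rw [hw₂ i]; ring) hw₄
  · exfalso
    rw [show ind β₄ β = 0 from if_neg hββ'.symm, mul_zero, mul_zero, zero_add] at key
    linarith

/-- case `(B, A1')`, normalized: type 5 -/
theorem BA1n (o θ α α' β β' γ δ₁ δ₂ α₄ : ι) (ε a a' b b' g k₁ k₂ a₄ : ℤ)
    (w₁ w₂ w₃ w₄ : ι → ℤ) (hnd : [o, θ, α, α', β, β'].Nodup)
    (hε : IsSign ε) (ha : IsSign a) (ha' : IsSign a') (hb : IsSign b) (hb' : IsSign b')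
    (hg : IsSign g) (hk₁ : IsSign k₁) (hk₂ : IsSign k₂)
    (hδ : δ₁ ≠ δ₂)
    (hγ : γ ∉ [o, θ, α, α', β, β'])
    (hδ₁ : δ₁ ∉ [o, θ, α, α', β, β']) (hδ₂ : δ₂ ∉ [o, θ, α, α', β, β'])
    (hα₄ : (α₄ = α ∧ a₄ = a) ∨ (α₄ = α' ∧ a₄ = a'))
    (hw₁ : ∀ i, w₁ i = ind o i + ε * ind θ i + a * ind α i + a' * ind α' i)
    (hw₃ : ∀ i, w₃ i = ind o i + ε * ind θ i + b * ind β i + b' * ind β' i)
    (hw₂ : ∀ i, w₂ i = b * ind β i + b' * ind β' i + a * ind α i + g * ind γ i)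
    (hw₄ : ∀ i, w₄ i = ε * ind θ i + a₄ * ind α₄ i + k₁ * ind δ₁ i + k₂ * ind δ₂ i)
    (g24 : ∑ i, w₂ i * w₄ i = 2) : Shape5 o w₁ w₂ w₃ w₄ := by
  have key : a * (a₄ * ind α₄ α) + g * (k₁ * ind δ₁ γ + k₂ * ind δ₂ γ) = 2 := by
    rw [sum_lin4 _ _ _ _ _ _ _ _ w₂ w₄ hw₂] at g24
    have hnd' := hnd
    have hγ' := hγ
    have hδ₁' := hδ₁
    have hδ₂' := hδ₂
    simp only [List.nodup_cons, List.mem_cons, List.not_mem_nil, or_false, not_or,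
      List.nodup_nil] at hnd' hγ' hδ₁' hδ₂'
    have e1 : w₄ β = 0 := by grind [ind]
    have e2 : w₄ β' = 0 := by grind [ind]
    have e3 : w₄ α = a₄ * ind α₄ α := by grind [ind]
    have e4 : w₄ γ = k₁ * ind δ₁ γ + k₂ * ind δ₂ γ := by grind [ind]
    rw [e1, e2, e3, e4] at g24
    linarith
  have hαα' : α' ≠ α := by
    simp only [List.nodup_cons, List.mem_cons, List.not_mem_nil, or_false, not_or,
      List.nodup_nil] at hnd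
    grind
  have hbound : g * (k₁ * ind δ₁ γ + k₂ * ind δ₂ γ) ≤ 1 := by
    unfold IsSign at hg hk₁ hk₂
    by_cases h1 : γ = δ₁ <;> by_cases h2 : γ = δ₂ <;> grind [ind]
  rcases hα₄ with ⟨rfl, rfl⟩ | ⟨rfl, rfl⟩
  · rw [show ind α₄ α₄ = 1 from if_pos rfl, mul_one, sign_mul_self ha] at key
    have key' : g * (k₁ * ind δ₁ γ + k₂ * ind δ₂ γ) = 1 := by linarith
    have hsh : (γ = δ₁ ∧ g = k₁) ∨ (γ = δ₂ ∧ g = k₂) := by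
      unfold IsSign at hg hk₁ hk₂
      by_cases h1 : γ = δ₁ <;> by_cases h2 : γ = δ₂ <;> grind [ind]
    rcases hsh with ⟨h1, h2⟩ | ⟨h1, h2⟩
    · subst h1 h2
      exact mk5 o θ α₄ α' β β' γ δ₂ ε a₄ a' b b' g k₂ w₁ w₂ w₃ w₄
        (nodup8 hnd hγ hδ₂ hδ) hε ha ha' hb hb' hg hk₂ hw₁ hw₃ hw₂ hw₄
    · subst h1 h2
      exact mk5 o θ α₄ α' β β' γ δ₁ ε a₄ a' b b' g k₁ w₁ w₂ w₃ w₄
        (nodup8 hnd hγ hδ₁ hδ.symm) hε ha ha' hb hb' hg hk₁ hw₁ hw₃ hw₂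
        (fun i => by rw [hw₄ i]; ring)
  · exfalso
    rw [show ind α₄ α = 0 from if_neg hαα'.symm, mul_zero, mul_zero, zero_add] at key
    linarith

/-- case `(B, B')`, normalized: type 6 -/
theorem BBn (o θ α α' β β' γ δ : ι) (ε a a' b b' g k : ℤ)
    (w₁ w₂ w₃ w₄ : ι → ℤ) (hnd : [o, θ, α, α', β, β'].Nodup)
    (hε : IsSign ε) (ha : IsSign a) (ha' : IsSign a') (hb : IsSign b) (hb' : IsSign b')
    (hg : IsSign g) (hk : IsSign k)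
    (hγ : γ ∉ [o, θ, α, α', β, β']) (hδ : δ ∉ [o, θ, α, α', β, β'])
    (hw₁ : ∀ i, w₁ i = ind o i + ε * ind θ i + a * ind α i + a' * ind α' i)
    (hw₃ : ∀ i, w₃ i = ind o i + ε * ind θ i + b * ind β i + b' * ind β' i)
    (hw₂ : ∀ i, w₂ i = b * ind β i + b' * ind β' i + a * ind α i + g * ind γ i)
    (hw₄ : ∀ i, w₄ i = a * ind α i + a' * ind α' i + b * ind β i + k * ind δ i)
    (g24 : ∑ i, w₂ i * w₄ i = 2) : Shape6 o w₁ w₂ w₃ w₄ := by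
  have key : g * (k * ind δ γ) = 0 := by
    rw [sum_lin4 _ _ _ _ _ _ _ _ w₂ w₄ hw₂] at g24
    have hnd' := hnd
    have hγ' := hγ
    have hδ' := hδ
    simp only [List.nodup_cons, List.mem_cons, List.not_mem_nil, or_false, not_or,
      List.nodup_nil] at hnd' hγ' hδ'
    have e1 : w₄ β = b := by grind [ind]
    have e2 : w₄ β' = 0 := by grind [ind]
    have e3 : w₄ α = a := by grind [ind]
    have e4 : w₄ γ = k * ind δ γ := by grind [ind]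
    rw [e1, e2, e3, e4, sign_mul_self hb, sign_mul_self ha] at g24
    linarith
  have hγδ : γ ≠ δ := by
    intro h
    rw [h, show ind δ δ = 1 from if_pos rfl, mul_one] at key
    rcases hg with rfl | rfl <;> rcases hk with rfl | rfl <;> norm_num at key
  exact mk6 o θ α α' β β' γ δ ε a a' b b' g k w₁ w₂ w₃ w₄ (nodup8 hnd hγ hδ hγδ) hε ha ha' hb hb'
    hg hk hw₁ hw₃ hw₂ hw₄

/-! ### the excluded cases: a section of shape `(A2)` -/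

/-- `(A2, A1')`, normalized (`α` carries the negative sign in `w₂`) -/
theorem noA2_A1 (o θ α α' β β' δ₁ δ₂ α₄ : ι) (ε a a' b b' k₁ k₂ a₄ : ℤ)
    (w₁ w₂ w₃ w₄ : ι → ℤ) (hnd : [o, θ, α, α', β, β'].Nodup)
    (hε : IsSign ε) (ha : IsSign a) (ha' : IsSign a') (hb : IsSign b) (hb' : IsSign b')
    (hδ₁ : δ₁ ∉ [o, θ, α, α', β, β']) (hδ₂ : δ₂ ∉ [o, θ, α, α', β, β'])
    (hα₄ : (α₄ = α ∧ a₄ = a) ∨ (α₄ = α' ∧ a₄ = a'))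
    (hw₁ : ∀ i, w₁ i = ind o i + ε * ind θ i + a * ind α i + a' * ind α' i)
    (hw₃ : ∀ i, w₃ i = ind o i + ε * ind θ i + b * ind β i + b' * ind β' i)
    (hw₂ : ∀ i, w₂ i = ε * ind θ i + b * ind β i + a' * ind α' i + (-a) * ind α i)
    (hw₄ : ∀ i, w₄ i = ε * ind θ i + a₄ * ind α₄ i + k₁ * ind δ₁ i + k₂ * ind δ₂ i)
    (g24 : ∑ i, w₂ i * w₄ i = 2)
    (dz : w₁ α + w₂ α = 0 → w₃ α + w₄ α = 0 → w₁ α = 0) : False := by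
  rw [sum_lin4 _ _ _ _ _ _ _ _ w₂ w₄ hw₂] at g24
  simp only [List.nodup_cons, List.mem_cons, List.not_mem_nil, or_false, not_or,
    List.nodup_nil] at hnd hδ₁ hδ₂
  have e1 : w₄ θ = ε := by grind [ind]
  have e2 : w₄ β = 0 := by grind [ind]
  have e3 : w₄ α' = a₄ * ind α₄ α' := by grind [ind]
  have e4 : w₄ α = a₄ * ind α₄ α := by grind [ind]
  have f1 : w₁ α = a := by grind [ind]
  have f2 : w₂ α = -a := by grind [ind]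
  have f3 : w₃ α = 0 := by grind [ind]
  rw [e1, e2, e3, e4, sign_mul_self hε] at g24
  rw [f1, f2, f3, e4] at dz
  have hαα' : α ≠ α' := by grind
  rcases hα₄ with ⟨rfl, rfl⟩ | ⟨rfl, rfl⟩
  · rw [show ind α₄ α₄ = 1 from if_pos rfl, show ind α₄ α' = 0 from if_neg hαα'.symm,
      mul_one, mul_zero, mul_zero, mul_zero] at g24
    have := sign_mul_self ha
    linarith
  · rw [show ind α₄ α = 0 from if_neg hαα'] at dz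
    have h0 := dz (by ring) (by ring)
    rcases ha with rfl | rfl <;> norm_num at h0

/-- `(A2, A2')`, normalized -/
theorem noA2_A2 (o θ α α' β β' α₄ : ι) (ε a a' b b' c c' a₄ : ℤ)
    (w₁ w₂ w₃ w₄ : ι → ℤ) (hnd : [o, θ, α, α', β, β'].Nodup)
    (hε : IsSign ε) (ha : IsSign a) (ha' : IsSign a') (hb : IsSign b) (hb' : IsSign b')
    (hc : (c = b ∧ c' = -b') ∨ (c = -b ∧ c' = b'))
    (hα₄ : (α₄ = α ∧ a₄ = a) ∨ (α₄ = α' ∧ a₄ = a'))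
    (hw₁ : ∀ i, w₁ i = ind o i + ε * ind θ i + a * ind α i + a' * ind α' i)
    (hw₃ : ∀ i, w₃ i = ind o i + ε * ind θ i + b * ind β i + b' * ind β' i)
    (hw₂ : ∀ i, w₂ i = ε * ind θ i + b * ind β i + a' * ind α' i + (-a) * ind α i)
    (hw₄ : ∀ i, w₄ i = ε * ind θ i + a₄ * ind α₄ i + c * ind β i + c' * ind β' i)
    (g24 : ∑ i, w₂ i * w₄ i = 2)
    (dz : w₁ α + w₂ α = 0 → w₃ α + w₄ α = 0 → w₁ α = 0) : False := by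
  rw [sum_lin4 _ _ _ _ _ _ _ _ w₂ w₄ hw₂] at g24
  simp only [List.nodup_cons, List.mem_cons, List.not_mem_nil, or_false, not_or,
    List.nodup_nil] at hnd
  have e1 : w₄ θ = ε := by grind [ind]
  have e2 : w₄ β = c := by grind [ind]
  have e3 : w₄ α' = a₄ * ind α₄ α' := by grind [ind]
  have e4 : w₄ α = a₄ * ind α₄ α := by grind [ind]
  have f1 : w₁ α = a := by grind [ind]
  have f2 : w₂ α = -a := by grind [ind]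
  have f3 : w₃ α = 0 := by grind [ind]
  rw [e1, e2, e3, e4, sign_mul_self hε] at g24
  rw [f1, f2, f3, e4] at dz
  have hαα' : α ≠ α' := by grind
  have hbc : b * c = 1 ∨ b * c = -1 := by
    have := sign_mul_self hb
    rcases hc with ⟨rfl, -⟩ | ⟨rfl, -⟩
    · exact Or.inl this
    · exact Or.inr (by linarith)
  rcases hα₄ with ⟨rfl, rfl⟩ | ⟨rfl, rfl⟩
  · rw [show ind α₄ α₄ = 1 from if_pos rfl, show ind α₄ α' = 0 from if_neg hαα'.symm,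
      mul_one, mul_zero, mul_zero] at g24
    have := sign_mul_self ha
    rcases hbc with h | h <;> linarith
  · rw [show ind α₄ α = 0 from if_neg hαα'] at dz
    have h0 := dz (by ring) (by ring)
    rcases ha with rfl | rfl <;> norm_num at h0

/-- `(A2, B')`, normalized -/
theorem noA2_B (o θ α α' β β' δ β₄ : ι) (ε a a' b b' k b₄ : ℤ)
    (w₂ w₄ : ι → ℤ) (hnd : [o, θ, α, α', β, β'].Nodup)
    (ha : IsSign a) (ha' : IsSign a') (hb : IsSign b) (hb₄ : IsSign b₄)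
    (hδ : δ ∉ [o, θ, α, α', β, β']) (hβ₄ : β₄ = β ∨ β₄ = β')
    (hw₂ : ∀ i, w₂ i = ε * ind θ i + b * ind β i + a' * ind α' i + (-a) * ind α i)
    (hw₄ : ∀ i, w₄ i = a * ind α i + a' * ind α' i + b₄ * ind β₄ i + k * ind δ i)
    (g24 : ∑ i, w₂ i * w₄ i = 2) : False := by
  rw [sum_lin4 _ _ _ _ _ _ _ _ w₂ w₄ hw₂] at g24
  simp only [List.nodup_cons, List.mem_cons, List.not_mem_nil, or_false, not_or,
    List.nodup_nil] at hnd hδ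
  have e1 : w₄ θ = 0 := by grind [ind]
  have e2 : w₄ β = b₄ * ind β₄ β := by grind [ind]
  have e3 : w₄ α' = a' := by grind [ind]
  have e4 : w₄ α = a := by grind [ind]
  rw [e1, e2, e3, e4, sign_mul_self ha'] at g24
  have h1 := sign_mul_self ha
  have h2 : b * (b₄ * ind β₄ β) ≤ 1 := by
    unfold ind
    split_ifs
    · rcases hb with rfl | rfl <;> rcases hb₄ with rfl | rfl <;> norm_num
    · norm_num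
  linarith

/-- a section of shape `(A2)` is impossible (original labelling) -/
theorem noA2 (o θ α₁ α₂ β₁ β₂ : ι) (ε a₁ a₂ b₁ b₂ : ℤ) (w₁ w₂ w₃ w₄ : ι → ℤ)
    (hnd : [o, θ, α₁, α₂, β₁, β₂].Nodup) (hε : IsSign ε) (ha₁ : IsSign a₁) (ha₂ : IsSign a₂)
    (hb₁ : IsSign b₁) (hb₂ : IsSign b₂)
    (hw₁ : ∀ i, w₁ i = ind o i + ε * ind θ i + a₁ * ind α₁ i + a₂ * ind α₂ i)
    (hw₃ : ∀ i, w₃ i = ind o i + ε * ind θ i + b₁ * ind β₁ i + b₂ * ind β₂ i)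
    (g24 : ∑ i, w₂ i * w₄ i = 2)
    (dz : ∀ i, w₁ i + w₂ i = 0 → w₃ i + w₄ i = 0 → w₁ i = 0)
    (h2 : SecA2 θ α₁ α₂ β₁ β₂ ε a₁ a₂ b₁ b₂ w₂)
    (h4 : SecA1 o θ β₁ β₂ α₁ α₂ ε a₁ a₂ w₄ ∨ SecA2 θ β₁ β₂ α₁ α₂ ε b₁ b₂ a₁ a₂ w₄ ∨
      SecB o θ β₁ β₂ α₁ α₂ b₁ b₂ a₁ a₂ w₄) : False := by
  obtain ⟨β, b, hβ, hv⟩ := h2
  obtain ⟨β', b', hPβ⟩ := exists_other β₁ β₂ β b₁ b₂ b hβ
  obtain ⟨α, α', a, a', hPα, hw₂⟩ : ∃ α α' : ι, ∃ a a' : ℤ, Pr α₁ α₂ a₁ a₂ α α' a a' ∧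
      ∀ i, w₂ i = ε * ind θ i + b * ind β i + a' * ind α' i + (-a) * ind α i := by
    rcases hv with hv | hv
    · exact ⟨α₂, α₁, a₂, a₁, Pr.flip _ _ _ _, fun i => by rw [hv i]; ring⟩
    · exact ⟨α₁, α₂, a₁, a₂, Pr.refl _ _ _ _, fun i => by rw [hv i]; ring⟩
  have hnd' := pair_nodup hnd hPα hPβ
  obtain ⟨ha, ha'⟩ := hPα.sign ha₁ ha₂
  obtain ⟨hb, hb'⟩ := hPβ.sign hb₁ hb₂
  have hw₁' : ∀ i, w₁ i = ind o i + ε * ind θ i + a * ind α i + a' * ind α' i := fun i => by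
    rw [hw₁ i, add_assoc, hPα.eq i, ← add_assoc]
  have hw₃' : ∀ i, w₃ i = ind o i + ε * ind θ i + b * ind β i + b' * ind β' i := fun i => by
    rw [hw₃ i, add_assoc, hPβ.eq i, ← add_assoc]
  rcases h4 with h4 | h4 | h4
  · obtain ⟨α₄, a₄, δ₁, δ₂, k₁, k₂, hα₄, hδ, hδ₁, hδ₂, hk₁, hk₂, hw₄⟩ := h4
    exact noA2_A1 o θ α α' β β' δ₁ δ₂ α₄ ε a a' b b' k₁ k₂ a₄ w₁ w₂ w₃ w₄ hnd' hε ha ha' hb hb'
      (pair_not_mem (not_mem_swap hδ₁) hPα hPβ) (pair_not_mem (not_mem_swap hδ₂) hPα hPβ)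
      (hPα.choice hα₄) hw₁' hw₃' hw₂ hw₄ g24 (dz α)
  · obtain ⟨α₄, a₄, hα₄, hv4⟩ := h4
    obtain ⟨c, c', hc, hw₄⟩ : ∃ c c' : ℤ, ((c = b ∧ c' = -b') ∨ (c = -b ∧ c' = b')) ∧
        ∀ i, w₄ i = ε * ind θ i + a₄ * ind α₄ i + c * ind β i + c' * ind β' i := by
      rcases hPβ with ⟨rfl, rfl, rfl, rfl⟩ | ⟨rfl, rfl, rfl, rfl⟩ <;> rcases hv4 with hv4 | hv4
      · exact ⟨b, -b', Or.inl ⟨rfl, rfl⟩, fun i => by rw [hv4 i]; ring⟩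
      · exact ⟨-b, b', Or.inr ⟨rfl, rfl⟩, fun i => by rw [hv4 i]; ring⟩
      · exact ⟨-b, b', Or.inr ⟨rfl, rfl⟩, fun i => by rw [hv4 i]; ring⟩
      · exact ⟨b, -b', Or.inl ⟨rfl, rfl⟩, fun i => by rw [hv4 i]; ring⟩
    exact noA2_A2 o θ α α' β β' α₄ ε a a' b b' c c' a₄ w₁ w₂ w₃ w₄ hnd' hε ha ha' hb hb' hc
      (hPα.choice hα₄) hw₁' hw₃' hw₂ hw₄ g24 (dz α)
  · obtain ⟨β₄, b₄, δ, k, hβ₄, hδ, hk, hw₄⟩ := h4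
    have hβ₄' := hPβ.choice hβ₄
    have hb₄ : IsSign b₄ := by
      rcases hβ₄' with ⟨-, rfl⟩ | ⟨-, rfl⟩
      · exact hb
      · exact hb'
    exact noA2_B o θ α α' β β' δ β₄ ε a a' b b' k b₄ w₂ w₄ hnd' ha ha' hb hb₄
      (pair_not_mem (not_mem_swap hδ) hPα hPβ) (hβ₄'.imp And.left And.left) hw₂
      (fun i => by rw [hw₄ i, hPα.eq i]) g24

/-- **(K1d)** assembly of the shape. -/
theorem shape_of_core (o : ι) (d : ι → ℕ) (w₁ w₂ w₃ w₄ : ι → ℤ) (h : Lat o d w₁ w₂ w₃ w₄)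
    (θ α₁ α₂ β₁ β₂ : ι) (ε a₁ a₂ b₁ b₂ : ℤ) (hc : Core o w₁ w₃ θ α₁ α₂ β₁ β₂ ε a₁ a₂ b₁ b₂)
    (h2 : SecA1 o θ α₁ α₂ β₁ β₂ ε b₁ b₂ w₂ ∨ SecA2 θ α₁ α₂ β₁ β₂ ε a₁ a₂ b₁ b₂ w₂ ∨
        SecB o θ α₁ α₂ β₁ β₂ a₁ a₂ b₁ b₂ w₂)
    (h4 : SecA1 o θ β₁ β₂ α₁ α₂ ε a₁ a₂ w₄ ∨ SecA2 θ β₁ β₂ α₁ α₂ ε b₁ b₂ a₁ a₂ w₄ ∨
        SecB o θ β₁ β₂ α₁ α₂ b₁ b₂ a₁ a₂ w₄) :
    Shape3 o w₁ w₂ w₃ w₄ ∨ Shape4 o w₁ w₂ w₃ w₄ ∨ Shape5 o w₁ w₂ w₃ w₄ ∨ Shape6 o w₁ w₂ w₃ w₄ := by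
  obtain ⟨hnd, hε, ha₁, ha₂, hb₁, hb₂, hw₁, hw₃⟩ := hc
  have g24 := h.g24
  have g42 : ∑ i, w₄ i * w₂ i = 2 := by
    rw [← g24]
    exact Finset.sum_congr rfl (fun i _ => mul_comm _ _)
  have dz1 : ∀ i, w₁ i + w₂ i = 0 → w₃ i + w₄ i = 0 → w₁ i = 0 := fun i h1 h3 => (h.dz i h1 h3).1
  have dz3 : ∀ i, w₃ i + w₄ i = 0 → w₁ i + w₂ i = 0 → w₃ i = 0 := fun i h3 h1 =>
    (h.dz i h1 h3).2.2.1
  -- the cases with a section of shape `(A2)` are impossible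
  by_cases hA2 : SecA2 θ α₁ α₂ β₁ β₂ ε a₁ a₂ b₁ b₂ w₂
  · exact (noA2 o θ α₁ α₂ β₁ β₂ ε a₁ a₂ b₁ b₂ w₁ w₂ w₃ w₄ hnd hε ha₁ ha₂ hb₁ hb₂ hw₁ hw₃ g24 dz1
      hA2 h4).elim
  by_cases hA2' : SecA2 θ β₁ β₂ α₁ α₂ ε b₁ b₂ a₁ a₂ w₄
  · exact (noA2 o θ β₁ β₂ α₁ α₂ ε b₁ b₂ a₁ a₂ w₃ w₄ w₁ w₂ (nodup_swap hnd) hε hb₁ hb₂ ha₁ ha₂
      hw₃ hw₁ g42 dz3 hA2' h2).elim
  have h2' : SecA1 o θ α₁ α₂ β₁ β₂ ε b₁ b₂ w₂ ∨ SecB o θ α₁ α₂ β₁ β₂ a₁ a₂ b₁ b₂ w₂ := by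
    rcases h2 with h | h | h
    · exact Or.inl h
    · exact (hA2 h).elim
    · exact Or.inr h
  have h4' : SecA1 o θ β₁ β₂ α₁ α₂ ε a₁ a₂ w₄ ∨ SecB o θ β₁ β₂ α₁ α₂ b₁ b₂ a₁ a₂ w₄ := by
    rcases h4 with h | h | h
    · exact Or.inl h
    · exact (hA2' h).elim
    · exact Or.inr h
  rcases h2' with h2 | h2
  · obtain ⟨β, b, γ₁, γ₂, g₁, g₂, hβ, hγ, hγ₁, hγ₂, hg₁, hg₂, hw₂⟩ := h2
    obtain ⟨β', b', hPβ⟩ := exists_other β₁ β₂ β b₁ b₂ b hβ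
    obtain ⟨hb, hb'⟩ := hPβ.sign hb₁ hb₂
    have hw₃' : ∀ i, w₃ i = ind o i + ε * ind θ i + b * ind β i + b' * ind β' i := fun i => by
      rw [hw₃ i, add_assoc, hPβ.eq i, ← add_assoc]
    rcases h4' with h4 | h4
    · -- (A1, A1')
      obtain ⟨α, a, δ₁, δ₂, k₁, k₂, hα, hδ, hδ₁, hδ₂, hk₁, hk₂, hw₄⟩ := h4
      obtain ⟨α', a', hPα⟩ := exists_other α₁ α₂ α a₁ a₂ a hα
      obtain ⟨ha, ha'⟩ := hPα.sign ha₁ ha₂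
      have hw₁' : ∀ i, w₁ i = ind o i + ε * ind θ i + a * ind α i + a' * ind α' i := fun i => by
        rw [hw₁ i, add_assoc, hPα.eq i, ← add_assoc]
      exact Or.inl (A1A1n o θ α α' β β' γ₁ γ₂ δ₁ δ₂ ε a a' b b' g₁ g₂ k₁ k₂ w₁ w₂ w₃ w₄
        (pair_nodup hnd hPα hPβ) hε ha ha' hb hb' hg₁ hg₂ hk₁ hk₂ hγ hδ
        (pair_not_mem hγ₁ hPα hPβ) (pair_not_mem hγ₂ hPα hPβ)
        (pair_not_mem (not_mem_swap hδ₁) hPα hPβ) (pair_not_mem (not_mem_swap hδ₂) hPα hPβ)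
        hw₁' hw₃' hw₂ hw₄ g24)
    · -- (A1, B')
      obtain ⟨β₄, b₄, δ, k, hβ₄, hδ, hk, hw₄⟩ := h4
      have hPα := Pr.refl α₁ α₂ a₁ a₂
      exact Or.inr (Or.inl (A1Bn o θ α₁ α₂ β β' γ₁ γ₂ δ β₄ ε a₁ a₂ b b' g₁ g₂ k b₄ w₁ w₂ w₃ w₄
        (pair_nodup hnd hPα hPβ) hε ha₁ ha₂ hb hb' hg₁ hg₂ hk hγ
        (pair_not_mem hγ₁ hPα hPβ) (pair_not_mem hγ₂ hPα hPβ)
        (pair_not_mem (not_mem_swap hδ) hPα hPβ) (hPβ.choice hβ₄) hw₁ hw₃' hw₂ hw₄ g24))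
  · obtain ⟨α, a, γ, g, hα, hγ, hg, hw₂⟩ := h2
    obtain ⟨α', a', hPα⟩ := exists_other α₁ α₂ α a₁ a₂ a hα
    obtain ⟨ha, ha'⟩ := hPα.sign ha₁ ha₂
    have hw₁' : ∀ i, w₁ i = ind o i + ε * ind θ i + a * ind α i + a' * ind α' i := fun i => by
      rw [hw₁ i, add_assoc, hPα.eq i, ← add_assoc]
    rcases h4' with h4 | h4
    · -- (B, A1')
      obtain ⟨α₄, a₄, δ₁, δ₂, k₁, k₂, hα₄, hδ, hδ₁, hδ₂, hk₁, hk₂, hw₄⟩ := h4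
      have hPβ := Pr.refl β₁ β₂ b₁ b₂
      exact Or.inr (Or.inr (Or.inl (BA1n o θ α α' β₁ β₂ γ δ₁ δ₂ α₄ ε a a' b₁ b₂ g k₁ k₂ a₄
        w₁ w₂ w₃ w₄ (pair_nodup hnd hPα hPβ) hε ha ha' hb₁ hb₂ hg hk₁ hk₂ hδ
        (pair_not_mem hγ hPα hPβ) (pair_not_mem (not_mem_swap hδ₁) hPα hPβ)
        (pair_not_mem (not_mem_swap hδ₂) hPα hPβ) (hPα.choice hα₄) hw₁' hw₃ hw₂ hw₄ g24)))
    · -- (B, B')
      obtain ⟨β, b, δ, k, hβ, hδ, hk, hw₄⟩ := h4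
      obtain ⟨β', b', hPβ⟩ := exists_other β₁ β₂ β b₁ b₂ b hβ
      obtain ⟨hb, hb'⟩ := hPβ.sign hb₁ hb₂
      have hw₃' : ∀ i, w₃ i = ind o i + ε * ind θ i + b * ind β i + b' * ind β' i := fun i => by
        rw [hw₃ i, add_assoc, hPβ.eq i, ← add_assoc]
      exact Or.inr (Or.inr (Or.inr (BBn o θ α α' β β' γ δ ε a a' b b' g k w₁ w₂ w₃ w₄
        (pair_nodup hnd hPα hPβ) hε ha ha' hb hb' hg hk
        (pair_not_mem hγ hPα hPβ) (pair_not_mem (not_mem_swap hδ) hPα hPβ) hw₁' hw₃'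
        (fun i => by rw [hw₂ i, hPβ.eq i]) (fun i => by rw [hw₄ i, hPα.eq i]) g24)))

end arith

end Cfsg.Agent.Helper69.D8
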