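import Cfsg.Agent.Helper69.DCABa
import Cfsg.Agent.Helper53.DCBWB

/-!
# Piece (AB) of board post #4768/#4769 (helper78, S4719): exact signature
-/

set_option autoImplicit false

namespace Cfsg.Agent.Helper69.DC

theorem card_abelian_normal_le {G : Type*} [Group G] [Finite G] (t₁ t₂ : G) (h1 : orderOf t₁ = 2)
    (h2 : orderOf t₂ = 2) (hne : t₁ ≠ t₂) (hcomm : Commute t₁ t₂) (c a : ℕ)
    (hc1 : Nat.card (Subgroup.centralizer ({t₁} : Set G)) ≤ c)
    (hc2 : Nat.card (Subgroup.centralizer ({t₂} : Set G)) ≤ c)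
    (hc3 : Nat.card (Subgroup.centralizer ({t₁ * t₂} : Set G)) ≤ c)
    (ha : (Nat.card G).factorization 2 ≤ a) (B : Subgroup G) (hBn : B.Normal)
    (hBc : ∀ x ∈ B, ∀ y ∈ B, x * y = y * x) : Nat.card B ≤ 2 ^ a * c ^ 3 :=
  card_abelian_normal_le_of a (c ^ 3) ha
    (fun K hKn hKo => by
      haveI := hKn
      exact Cfsg.Agent.Helper53.DC.card_le_of_odd_normal K hKo t₁ t₂ h1 h2 hne hcomm c hc1 hc2 hc3)
    B hBn hBc

end Cfsg.Agent.Helper69.DC
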