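import Mathlib

/-!
# Piece (AB) of board post #4768/#4769 (helper78, S4719), auxiliary part

A normal abelian subgroup `B` of `G` has order at most `2 ^ a * k`, where `2 ^ a` bounds the 2-part of
`|G|` and `k` bounds the order of every normal subgroup of odd order.
-/

set_option autoImplicit false

namespace Cfsg.Agent.Helper69.DC

variable {G : Type*} [Group G]

/-- the `n`-th power map on an abelian subgroup, as a homomorphism to `G`. -/
def powHom (B : Subgroup G) (hBc : ∀ x ∈ B, ∀ y ∈ B, x * y = y * x) (n : ℕ) : ↥B →* G where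
  toFun x := (x : G) ^ n
  map_one' := by simp
  map_mul' x y := by
    have hc : Commute (x : G) (y : G) := hBc x x.2 y y.2
    simp [hc.mul_pow]

theorem powHom_apply (B : Subgroup G) (hBc : ∀ x ∈ B, ∀ y ∈ B, x * y = y * x) (n : ℕ) (x : B) :
    powHom B hBc n x = (x : G) ^ n := rfl

theorem powHom_range_normal (B : Subgroup G) (hBn : B.Normal)
    (hBc : ∀ x ∈ B, ∀ y ∈ B, x * y = y * x) (n : ℕ) : (powHom B hBc n).range.Normal := by
  constructor
  rintro _ ⟨x, rfl⟩ g
  refine ⟨⟨g * x * g⁻¹, hBn.conj_mem x x.2 g⟩, ?_⟩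
  rw [powHom_apply, powHom_apply, conj_pow]

theorem card_powHom_ker_le [Finite G] (B : Subgroup G) (hBc : ∀ x ∈ B, ∀ y ∈ B, x * y = y * x)
    (a : ℕ) (ha : (Nat.card G).factorization 2 ≤ a) :
    Nat.card (powHom B hBc (2 ^ a)).ker ≤ 2 ^ a := by
  have hp : IsPGroup 2 (powHom B hBc (2 ^ a)).ker := by
    intro x
    refine ⟨a, ?_⟩
    have hx : powHom B hBc (2 ^ a) (x : B) = 1 := x.2
    rw [powHom_apply] at hx
    apply Subtype.ext
    apply Subtype.ext
    simpa using hx
  obtain ⟨n, hn⟩ := IsPGroup.iff_card.1 hp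
  have hdvd : Nat.card (powHom B hBc (2 ^ a)).ker ∣ Nat.card G :=
    (Subgroup.card_subgroup_dvd_card _).trans (Subgroup.card_subgroup_dvd_card B)
  rw [hn] at hdvd ⊢
  have hle : n ≤ (Nat.card G).factorization 2 :=
    (Nat.prime_two.pow_dvd_iff_le_factorization Nat.card_pos.ne').1 hdvd
  exact Nat.pow_le_pow_right (by norm_num) (hle.trans ha)

theorem odd_card_powHom_range [Finite G] (B : Subgroup G) (hBc : ∀ x ∈ B, ∀ y ∈ B, x * y = y * x)
    (a : ℕ) (ha : (Nat.card G).factorization 2 ≤ a) :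
    Odd (Nat.card (powHom B hBc (2 ^ a)).range) := by
  by_contra hcon
  rw [Nat.not_odd_iff_even, even_iff_two_dvd] at hcon
  haveI : Fact (Nat.Prime 2) := ⟨Nat.prime_two⟩
  obtain ⟨y, hy⟩ := exists_prime_orderOf_dvd_card' (G := (powHom B hBc (2 ^ a)).range) 2 hcon
  obtain ⟨x, hx⟩ := y.2
  rw [powHom_apply] at hx
  -- y ^ m = 1 for the odd part m of |G|
  have hG0 : Nat.card G ≠ 0 := Nat.card_pos.ne'
  have hm : ¬ 2 ∣ ordCompl[2] (Nat.card G) := Nat.not_dvd_ordCompl Nat.prime_two hG0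
  have hsplit : ordProj[2] (Nat.card G) * ordCompl[2] (Nat.card G) = Nat.card G :=
    Nat.ordProj_mul_ordCompl_eq_self (Nat.card G) 2
  have hdvd : Nat.card G ∣ 2 ^ a * ordCompl[2] (Nat.card G) := by
    have h := Nat.mul_dvd_mul (pow_dvd_pow 2 ha) (dvd_refl (ordCompl[2] (Nat.card G)))
    rwa [hsplit] at h
  have hxpow : (x : G) ^ (2 ^ a * ordCompl[2] (Nat.card G)) = 1 := by
    obtain ⟨k, hk⟩ := hdvd
    rw [hk, pow_mul, pow_card_eq_one', one_pow]
  have hypow : (y : G) ^ ordCompl[2] (Nat.card G) = 1 := by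
    rw [← hx, ← pow_mul]
    exact hxpow
  have h2 : orderOf (y : G) = 2 := by
    rw [Subgroup.orderOf_coe]
    exact hy
  have := orderOf_dvd_of_pow_eq_one hypow
  rw [h2] at this
  exact hm this

/-- (AB) with the bound for odd-order normal subgroups as a hypothesis. -/
theorem card_abelian_normal_le_of [Finite G] (a k : ℕ)
    (ha : (Nat.card G).factorization 2 ≤ a)
    (hK : ∀ K : Subgroup G, K.Normal → Odd (Nat.card K) → Nat.card K ≤ k)
    (B : Subgroup G) (hBn : B.Normal) (hBc : ∀ x ∈ B, ∀ y ∈ B, x * y = y * x) :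
    Nat.card B ≤ 2 ^ a * k := by
  have h1 := card_powHom_ker_le B hBc a ha
  have h2 := hK _ (powHom_range_normal B hBn hBc (2 ^ a)) (odd_card_powHom_range B hBc a ha)
  have h3 : Nat.card (powHom B hBc (2 ^ a)).ker * Nat.card (powHom B hBc (2 ^ a)).range =
      Nat.card B := by
    rw [← Subgroup.index_ker, Subgroup.card_mul_index]
  rw [← h3]
  exact Nat.mul_le_mul h1 h2

end Cfsg.Agent.Helper69.DC
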