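import Cfsg.Agent.Helper36.E8Odd.Defs2

/-!
# S4281 (helper18 / helper36), farm E8INV-2 #14862, piece (PS): `par_simple`
-/

set_option autoImplicit false
set_option maxRecDepth 100000

namespace Cfsg.Agent.Helper69.E8Inv2

open Cfsg Cfsg.Lie Cfsg.Agent.Helper18 Cfsg.Agent.Helper18.E8Odd Cfsg.Agent.Helper36.E8Odd

/-- (PS) `par` at a fundamental root, from the literal Cartan matrix (`Cfsg.Agent.Helper18.E8Odd.Cm_eq`). -/
theorem par_simple (b i : ℕ) (hi : i < 8) : par b (chevE8.simple i) = parS b i := by
  unfold par parS parSum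
  have hmap : ((List.range 8).map fun j => if b.testBit j then chevE8.cartan j (chevE8.simple i) else 0) =
      ((List.range 8).map fun j => if b.testBit j then (CmTab.getD j []).getD i 0 else 0) := by
    apply List.map_congr_left
    intro j hj
    have hj8 : j < 8 := List.mem_range.mp hj
    have h := Cm_eq ⟨j, hj8⟩ ⟨i, hi⟩
    have h' : (CmTab.getD j []).getD i 0 = chevE8.cartan j (chevE8.simple i) := h
    rw [h']
  rw [hmap]

end Cfsg.Agent.Helper69.E8Inv2
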