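import Mathlib
import Cfsg.Prelude.Def_Solvable
import Cfsg.Agent.Helper95.FrobCompl6

set_option autoImplicit false

namespace Cfsg.Agent.Helper69.FCLikePG

open Subgroup

/-- A subgroup of order two is generated by any of its nonidentity elements, which is an involution. -/
theorem exists_invol_zpowers_eq {T : Type*} [Group T] (A : Subgroup T) (hA : Nat.card A = 2) :
    ∃ a : T, a ≠ 1 ∧ a ^ 2 = 1 ∧ zpowers a = A := by
  haveI : Finite A := Nat.finite_of_card_ne_zero (by omega)
  haveI : Nontrivial A := Finite.one_lt_card_iff_nontrivial.mp (by omega)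
  obtain ⟨a, ha⟩ := exists_ne (1 : A)
  have ha1 : (a : T) ≠ 1 := fun h => ha (Subtype.ext h)
  have ha2 : (a : T) ^ 2 = 1 := by
    have : a ^ 2 = 1 := by rw [← hA]; exact pow_card_eq_one'
    simpa using congrArg Subtype.val this
  refine ⟨a, ha1, ha2, ?_⟩
  have hle : zpowers (a : T) ≤ A := (zpowers_le).mpr a.2
  apply Subgroup.eq_of_le_of_card_ge hle
  rw [Nat.card_zpowers, hA]
  have : orderOf (a : T) = 2 := orderOf_eq_prime ha2 ha1
  omega

theorem pgroup_struct {H : Type*} [Group H] [Finite H] (hF : Cfsg.Agent.Helper95.FrobCompl.FCLike H)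
    (p : ℕ) [Fact p.Prime] (T : Subgroup H) (hT : IsPGroup p T) :
    IsCyclic T ∨ (p = 2 ∧ ∃ n : ℕ, Nonempty (T ≃* QuaternionGroup (2 ^ n))) := by
  by_cases hp2 : p = 2
  · apply Cfsg.Agent.S0016.result p hT
    intro A B hA hB
    subst hp2
    obtain ⟨a, ha1, ha2, hAa⟩ := exists_invol_zpowers_eq A hA
    obtain ⟨b, hb1, hb2, hBb⟩ := exists_invol_zpowers_eq B hB
    have h1 : (a : H) = (b : H) := by
      apply hF.invol
      · simpa using congrArg Subtype.val ha2
      · simpa using congrArg Subtype.val hb2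
      · exact fun h => ha1 (Subtype.ext h)
      · exact fun h => hb1 (Subtype.ext h)
    have h2 : a = b := Subtype.ext h1
    rw [← hAa, ← hBb, h2]
  · exact Or.inl (hF.abel.pgroup_cyclic p hp2 T hT)

end Cfsg.Agent.Helper69.FCLikePG
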