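import Mathlib
import Cfsg.Agent.Helper61.HallDefs

/-!
# M. Hall's theorem, piece (T5): the fixed points of `s`, `t`, `s * t` (auxiliary part)

Everything here is independent of (T1); the conjugating element `g` with `g * t * g⁻¹ = s` is a
hypothesis.
-/

set_option autoImplicit false

namespace Cfsg.Agent.Helper69.HallT5

open MulAction Cfsg.Agent.Helper61.Hall

variable {G : Type*} [Group G] {Ω : Type*} [MulAction G Ω]

theorem smul_smul_self {u : G} (hu : u * u = 1) (q : Ω) : u • u • q = q := by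
  rw [← mul_smul, hu, one_smul]

/-- local copy of (T1) `not_fix4`. -/
theorem not_fix4' (hodd : OddStab4 G Ω) {u : G} (hu : u * u = 1) (hu1 : u ≠ 1) {a b c d : Ω}
    (hab : a ≠ b) (hac : a ≠ c) (had : a ≠ d) (hbc : b ≠ c) (hbd : b ≠ d) (hcd : c ≠ d)
    (fa : u • a = a) (fb : u • b = b) (fc : u • c = c) (fd : u • d = d) : False := by
  have hmem : u ∈ stab4 G a b c d := mem_stab4.2 ⟨fa, fb, fc, fd⟩
  have hO := hodd a b c d hab hac had hbc hbd hcd
  have h2 : orderOf u = 2 := orderOf_eq_prime (by rw [pow_two]; exact hu) hu1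
  have hdvd : orderOf u ∣ Nat.card (stab4 G a b c d) := Subgroup.orderOf_dvd_natCard _ hmem
  rw [h2] at hdvd
  exact (Nat.not_even_iff_odd.2 hO) (even_iff_two_dvd.2 hdvd)

theorem card_fix_mod_two [Fintype Ω] [DecidableEq Ω] {u : G} (hu : u * u = 1) :
    (Finset.univ.filter (fun q : Ω => u • q = q)).card % 2 = Fintype.card Ω % 2 := by
  have hσ : (MulAction.toPerm u : Equiv.Perm Ω) ^ 2 ^ 1 = 1 := by
    ext q
    simp [pow_two, smul_smul_self hu]
  have h := Equiv.Perm.card_compl_support_modEq (p := 2) (n := 1) hσ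
  have he : (MulAction.toPerm u : Equiv.Perm Ω).supportᶜ =
      Finset.univ.filter (fun q : Ω => u • q = q) := by
    ext q
    simp [Equiv.Perm.mem_support]
  rw [he] at h
  exact h

theorem card_fix_le_three [Fintype Ω] [DecidableEq Ω] (hodd : OddStab4 G Ω) {u : G}
    (hu : u * u = 1) (hu1 : u ≠ 1) {a b : Ω} (hab : a ≠ b) (fa : u • a = a) (fb : u • b = b) :
    (Finset.univ.filter (fun q : Ω => u • q = q)).card ≤ 3 := by
  by_contra hcon
  push Not at hcon
  have h1 := Finset.le_card_sdiff ({a, b} : Finset Ω) (Finset.univ.filter (fun q : Ω => u • q = q))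
  rw [Finset.card_pair hab] at h1
  have h2 : 1 < ((Finset.univ.filter (fun q : Ω => u • q = q)) \ ({a, b} : Finset Ω)).card := by
    omega
  obtain ⟨c, hc, d, hd, hcd⟩ := Finset.one_lt_card.1 h2
  simp only [Finset.mem_sdiff, Finset.mem_filter, Finset.mem_univ, true_and, Finset.mem_insert,
    Finset.mem_singleton, not_or] at hc hd
  exact not_fix4' hodd hu hu1 hab (Ne.symm hc.2.1) (Ne.symm hd.2.1) (Ne.symm hc.2.2)
    (Ne.symm hd.2.2) hcd fa fb hc.1 hd.1

theorem pair_subset_fix [Fintype Ω] [DecidableEq Ω] {u : G} {a b : Ω} (fa : u • a = a)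
    (fb : u • b = b) : ({a, b} : Finset Ω) ⊆ Finset.univ.filter (fun q : Ω => u • q = q) := by
  intro q hq
  simp only [Finset.mem_insert, Finset.mem_singleton] at hq
  simp only [Finset.mem_filter, Finset.mem_univ, true_and]
  rcases hq with rfl | rfl
  · exact fa
  · exact fb

theorem fix_even [Fintype Ω] (hodd : OddStab4 G Ω) (heven : Even (Fintype.card Ω)) {u : G}
    (hu : u * u = 1) (hu1 : u ≠ 1) {a b : Ω} (hab : a ≠ b) (fa : u • a = a) (fb : u • b = b) :
    ∀ q, u • q = q ↔ q = a ∨ q = b := by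
  classical
  have hle := card_fix_le_three hodd hu hu1 hab fa fb
  have hpar := card_fix_mod_two (Ω := Ω) hu
  have hsub := pair_subset_fix (u := u) fa fb
  have h2 := Finset.card_le_card hsub
  rw [Finset.card_pair hab] at h2
  have hn2 : Fintype.card Ω % 2 = 0 := Nat.even_iff.1 heven
  have hcard : (Finset.univ.filter (fun q : Ω => u • q = q)).card ≤ ({a, b} : Finset Ω).card := by
    rw [Finset.card_pair hab]
    omega
  have heq := Finset.eq_of_subset_of_card_le hsub hcard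
  intro q
  have : q ∈ Finset.univ.filter (fun q : Ω => u • q = q) ↔ q ∈ ({a, b} : Finset Ω) := by
    rw [heq]
  simpa using this

theorem fix_odd [Fintype Ω] (hodd : OddStab4 G Ω) (hoddn : Odd (Fintype.card Ω)) {u : G}
    (hu : u * u = 1) (hu1 : u ≠ 1) {a b : Ω} (hab : a ≠ b) (fa : u • a = a) (fb : u • b = b) :
    ∃ x, x ≠ a ∧ x ≠ b ∧ ∀ q, u • q = q ↔ q = a ∨ q = b ∨ q = x := by
  classical
  have hle := card_fix_le_three hodd hu hu1 hab fa fb
  have hpar := card_fix_mod_two (Ω := Ω) hu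
  have hsub := pair_subset_fix (u := u) fa fb
  have h2 := Finset.card_le_card hsub
  rw [Finset.card_pair hab] at h2
  have hn2 : Fintype.card Ω % 2 = 1 := Nat.odd_iff.1 hoddn
  have h3 : (Finset.univ.filter (fun q : Ω => u • q = q)).card = 3 := by omega
  have h1 : ((Finset.univ.filter (fun q : Ω => u • q = q)) \ ({a, b} : Finset Ω)).card = 1 := by
    rw [Finset.card_sdiff_of_subset hsub, h3, Finset.card_pair hab]
  obtain ⟨x, hx⟩ := Finset.card_eq_one.1 h1
  have hxm : x ∈ (Finset.univ.filter (fun q : Ω => u • q = q)) \ ({a, b} : Finset Ω) := by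
    rw [hx]; exact Finset.mem_singleton_self x
  simp only [Finset.mem_sdiff, Finset.mem_filter, Finset.mem_univ, true_and, Finset.mem_insert,
    Finset.mem_singleton, not_or] at hxm
  refine ⟨x, hxm.2.1, hxm.2.2, ?_⟩
  intro q
  constructor
  · intro hq
    by_cases hqa : q = a
    · exact Or.inl hqa
    by_cases hqb : q = b
    · exact Or.inr (Or.inl hqb)
    right; right
    have : q ∈ (Finset.univ.filter (fun q : Ω => u • q = q)) \ ({a, b} : Finset Ω) := by
      simp only [Finset.mem_sdiff, Finset.mem_filter, Finset.mem_univ, true_and,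
        Finset.mem_insert, Finset.mem_singleton, not_or]
      exact ⟨hq, hqa, hqb⟩
    rw [hx] at this
    exact Finset.mem_singleton.1 this
  · rintro (rfl | rfl | rfl)
    · exact fa
    · exact fb
    · exact hxm.1

/-- an involution of a 3-element set has a fixed point. -/
theorem inv_three_fix {f : Ω → Ω} (hf : ∀ q, f (f q) = q) {a b c : Ω} (hab : a ≠ b) (hac : a ≠ c)
    (hbc : b ≠ c) (ha : f a = a ∨ f a = b ∨ f a = c) (hb : f b = a ∨ f b = b ∨ f b = c)
    (hc : f c = a ∨ f c = b ∨ f c = c) : f a = a ∨ f b = b ∨ f c = c := by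
  rcases ha with h | h | h
  · exact Or.inl h
  · have hb' : f b = a := by rw [← h, hf]
    rcases hc with h' | h' | h'
    · exact absurd (by rw [← hf c, h', h] : c = b) (Ne.symm hbc)
    · exact absurd (by rw [← hf c, h', hb'] : c = a) (Ne.symm hac)
    · exact Or.inr (Or.inr h')
  · have hc' : f c = a := by rw [← h, hf]
    rcases hb with h' | h' | h'
    · exact absurd (by rw [← hf b, h', h] : b = c) hbc
    · exact Or.inr (Or.inl h')
    · exact absurd (by rw [← hf b, h', hc'] : b = a) (Ne.symm hab)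

section cfg

variable {s t : G} {p1 p2 p3 p4 : Ω}

theorem s_ne_one (cfg : Config s t p1 p2 p3 p4) : s ≠ 1 := by
  intro h
  have := cfg.s1
  rw [h, one_smul] at this
  exact cfg.h12 this

theorem t_ne_one (cfg : Config s t p1 p2 p3 p4) : t ≠ 1 := by
  intro h
  have := cfg.t1
  rw [h, one_smul] at this
  exact cfg.h12 this

theorem st_sq (cfg : Config s t p1 p2 p3 p4) : (s * t) * (s * t) = 1 := by
  calc (s * t) * (s * t) = s * (t * s) * t := by group
    _ = s * (s * t) * t := by rw [← cfg.hst]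
    _ = (s * s) * (t * t) := by group
    _ = 1 := by rw [cfg.hs, cfg.ht, one_mul]

theorem st1 (cfg : Config s t p1 p2 p3 p4) : (s * t) • p1 = p1 := by
  rw [mul_smul, cfg.t1, cfg.s2]

theorem st2 (cfg : Config s t p1 p2 p3 p4) : (s * t) • p2 = p2 := by
  rw [mul_smul, cfg.t2, cfg.s1]

theorem st3 (cfg : Config s t p1 p2 p3 p4) : (s * t) • p3 = p4 := by
  rw [mul_smul, cfg.t3, cfg.s4]

theorem st_ne_one (cfg : Config s t p1 p2 p3 p4) : s * t ≠ 1 := by
  intro h
  have := st3 cfg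
  rw [h, one_smul] at this
  exact cfg.h34 this

theorem t_smul_s_smul (cfg : Config s t p1 p2 p3 p4) (q : Ω) : t • s • q = s • t • q := by
  rw [← mul_smul, ← mul_smul, cfg.hst]

/-- `Fix(t) = g⁻¹ Fix(s)` when `g t g⁻¹ = s`. -/
theorem fix_conj {g : G} (hg : g * t * g⁻¹ = s) (q : Ω) : t • q = q ↔ s • g • q = g • q := by
  have h : s • g • q = g • t • q := by
    rw [← hg, ← mul_smul, ← mul_smul]
    congr 1
    group
  rw [h, smul_left_cancel_iff]

/-- a moved point of `s` outside `{p1, p2}`. -/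
theorem exists_moved [Fintype Ω] (hodd : OddStab4 G Ω) (hn : 8 ≤ Fintype.card Ω)
    (cfg : Config s t p1 p2 p3 p4) : ∃ c : Ω, s • c ≠ c ∧ c ≠ p1 ∧ c ≠ p2 := by
  classical
  have hle := card_fix_le_three hodd cfg.hs (s_ne_one cfg) cfg.h34 cfg.s3 cfg.s4
  have hc : ((Finset.univ.filter (fun q : Ω => s • q = q)) ∪ ({p1, p2} : Finset Ω)).card <
      (Finset.univ : Finset Ω).card := by
    have h1 := Finset.card_union_le (Finset.univ.filter (fun q : Ω => s • q = q))
      ({p1, p2} : Finset Ω)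
    have h2 : ({p1, p2} : Finset Ω).card ≤ 2 := Finset.card_le_two
    rw [Finset.card_univ]
    omega
  obtain ⟨c, -, hc⟩ := Finset.exists_mem_notMem_of_card_lt_card hc
  simp only [Finset.mem_union, Finset.mem_filter, Finset.mem_univ, true_and, Finset.mem_insert,
    Finset.mem_singleton, not_or] at hc
  exact ⟨c, hc.1, hc.2.1, hc.2.2⟩

theorem fixed_points_even_aux [Fintype Ω] (hodd : OddStab4 G Ω)
    (heven : Even (Fintype.card Ω)) (cfg : Config s t p1 p2 p3 p4) {g : G}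
    (hg : g * t * g⁻¹ = s) :
    (∀ q, s • q = q ↔ q = p3 ∨ q = p4) ∧ (∀ q, (s * t) • q = q ↔ q = p1 ∨ q = p2) ∧
    ∃ a b : Ω, a ≠ b ∧ (∀ q, t • q = q ↔ q = a ∨ q = b) ∧ s • a = b ∧ s • b = a := by
  have hfs := fix_even hodd heven cfg.hs (s_ne_one cfg) cfg.h34 cfg.s3 cfg.s4
  have hfst := fix_even hodd heven (st_sq cfg) (st_ne_one cfg) cfg.h12 (st1 cfg) (st2 cfg)
  refine ⟨hfs, hfst, g⁻¹ • p3, g⁻¹ • p4, ?_, ?_, ?_⟩
  · intro h
    exact cfg.h34 (smul_left_cancel _ h)
  · intro q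
    rw [fix_conj hg, hfs, eq_inv_smul_iff, eq_inv_smul_iff]
  · have hft : ∀ q, t • q = q ↔ q = g⁻¹ • p3 ∨ q = g⁻¹ • p4 := by
      intro q
      rw [fix_conj hg, hfs, eq_inv_smul_iff, eq_inv_smul_iff]
    have ha : t • (g⁻¹ • p3) = g⁻¹ • p3 := (hft _).2 (Or.inl rfl)
    have hsa : t • s • (g⁻¹ • p3) = s • (g⁻¹ • p3) := by
      rw [t_smul_s_smul cfg, ha]
    have hne : s • (g⁻¹ • p3) ≠ g⁻¹ • p3 := by
      intro h
      rcases (hfs _).1 h with h' | h'
      · rw [h', cfg.t3] at ha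
        exact cfg.h34 ha.symm
      · rw [h', cfg.t4] at ha
        exact cfg.h34 ha
    have hsab : s • (g⁻¹ • p3) = g⁻¹ • p4 := by
      rcases (hft _).1 hsa with h | h
      · exact absurd h hne
      · exact h
    refine ⟨hsab, ?_⟩
    rw [← hsab, smul_smul_self cfg.hs]

theorem fixed_points_odd_finish [Fintype Ω] (cfg : Config s t p1 p2 p3 p4) {x x' y z : Ω}
    (hxy : x ≠ y) (hxz : x ≠ z) (hyz : y ≠ z)
    (hfs : ∀ q, s • q = q ↔ q = p3 ∨ q = p4 ∨ q = x)
    (hfst : ∀ q, (s * t) • q = q ↔ q = p1 ∨ q = p2 ∨ q = x')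
    (hft : ∀ q, t • q = q ↔ q = x ∨ q = y ∨ q = z) :
    ∃ x y z : Ω, x ≠ y ∧ x ≠ z ∧ y ≠ z ∧
      (∀ q, s • q = q ↔ q = p3 ∨ q = p4 ∨ q = x) ∧
      (∀ q, (s * t) • q = q ↔ q = p1 ∨ q = p2 ∨ q = x) ∧
      (∀ q, t • q = q ↔ q = x ∨ q = y ∨ q = z) ∧ s • y = z ∧ s • z = y := by
  have sx : s • x = x := (hfs x).2 (Or.inr (Or.inr rfl))
  have tx : t • x = x := (hft x).2 (Or.inl rfl)
  have ty : t • y = y := (hft y).2 (Or.inr (Or.inl rfl))
  have stx : (s * t) • x = x := by rw [mul_smul, tx, sx]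
  have hxx' : x = x' := by
    rcases (hfst x).1 stx with h | h | h
    · rw [h, cfg.s1] at sx
      exact absurd sx.symm cfg.h12
    · rw [h, cfg.s2] at sx
      exact absurd sx cfg.h12
    · exact h
  subst hxx'
  have hsy : t • s • y = s • y := by rw [t_smul_s_smul cfg, ty]
  have hne : s • y ≠ y := by
    intro h
    rcases (hfs y).1 h with h' | h' | h'
    · rw [h', cfg.t3] at ty
      exact cfg.h34 ty.symm
    · rw [h', cfg.t4] at ty
      exact cfg.h34 ty
    · exact hxy h'.symm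
  have hne' : s • y ≠ x := by
    intro h
    have : y = x := by rw [← smul_smul_self cfg.hs y, h, sx]
    exact hxy this.symm
  have hsyz : s • y = z := by
    rcases (hft _).1 hsy with h | h | h
    · exact absurd h hne'
    · exact absurd h hne
    · exact h
  refine ⟨x, y, z, hxy, hxz, hyz, hfs, hfst, hft, hsyz, ?_⟩
  rw [← hsyz, smul_smul_self cfg.hs]

theorem fixed_points_odd_aux [Fintype Ω] (hodd : OddStab4 G Ω)
    (hoddn : Odd (Fintype.card Ω)) (cfg : Config s t p1 p2 p3 p4) {g : G}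
    (hg : g * t * g⁻¹ = s) :
    ∃ x y z : Ω, x ≠ y ∧ x ≠ z ∧ y ≠ z ∧
      (∀ q, s • q = q ↔ q = p3 ∨ q = p4 ∨ q = x) ∧
      (∀ q, (s * t) • q = q ↔ q = p1 ∨ q = p2 ∨ q = x) ∧
      (∀ q, t • q = q ↔ q = x ∨ q = y ∨ q = z) ∧ s • y = z ∧ s • z = y := by
  obtain ⟨x, hx3, hx4, hfs⟩ := fix_odd hodd hoddn cfg.hs (s_ne_one cfg) cfg.h34 cfg.s3 cfg.s4
  obtain ⟨x', -, -, hfst⟩ :=
    fix_odd hodd hoddn (st_sq cfg) (st_ne_one cfg) cfg.h12 (st1 cfg) (st2 cfg)
  have hft : ∀ q, t • q = q ↔ q = g⁻¹ • p3 ∨ q = g⁻¹ • p4 ∨ q = g⁻¹ • x := by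
    intro q
    rw [fix_conj hg, hfs, eq_inv_smul_iff, eq_inv_smul_iff, eq_inv_smul_iff]
  have hab : g⁻¹ • p3 ≠ g⁻¹ • p4 := fun h => cfg.h34 (smul_left_cancel _ h)
  have hac : g⁻¹ • p3 ≠ g⁻¹ • x := fun h => hx3 (smul_left_cancel _ h).symm
  have hbc : g⁻¹ • p4 ≠ g⁻¹ • x := fun h => hx4 (smul_left_cancel _ h).symm
  have hperm : ∀ q : Ω, t • q = q → t • s • q = s • q := by
    intro q hq
    rw [t_smul_s_smul cfg, hq]
  have ta : t • (g⁻¹ • p3) = g⁻¹ • p3 := (hft (g⁻¹ • p3)).2 (Or.inl rfl)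
  have tb : t • (g⁻¹ • p4) = g⁻¹ • p4 := (hft (g⁻¹ • p4)).2 (Or.inr (Or.inl rfl))
  have tc : t • (g⁻¹ • x) = g⁻¹ • x := (hft (g⁻¹ • x)).2 (Or.inr (Or.inr rfl))
  have h3 := inv_three_fix (f := fun q : Ω => s • q) (fun q => smul_smul_self cfg.hs q)
    hab hac hbc ((hft _).1 (hperm _ ta)) ((hft _).1 (hperm _ tb)) ((hft _).1 (hperm _ tc))
  -- a point of Fix(t) fixed by s is x
  have key : ∀ w : Ω, t • w = w → s • w = w → w = x := by
    intro w tw sw
    rcases (hfs w).1 sw with h | h | h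
    · rw [h, cfg.t3] at tw
      exact absurd tw.symm cfg.h34
    · rw [h, cfg.t4] at tw
      exact absurd tw cfg.h34
    · exact h
  rcases h3 with h | h | h
  · have hx := key _ ta h
    refine fixed_points_odd_finish cfg (x := x) (x' := x') (y := g⁻¹ • p4) (z := g⁻¹ • x)
      ?_ ?_ hbc hfs hfst ?_
    · exact fun h => hab (hx.trans h)
    · exact fun h => hac (hx.trans h)
    · intro q
      rw [hft q, hx]
  · have hx := key _ tb h
    refine fixed_points_odd_finish cfg (x := x) (x' := x') (y := g⁻¹ • p3) (z := g⁻¹ • x)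
      ?_ ?_ hac hfs hfst ?_
    · exact fun h => hab.symm (hx.trans h)
    · exact fun h => hbc (hx.trans h)
    · intro q
      rw [hft q, hx]
      tauto
  · have hx := key _ tc h
    refine fixed_points_odd_finish cfg (x := x) (x' := x') (y := g⁻¹ • p3) (z := g⁻¹ • p4)
      ?_ ?_ hab hfs hfst ?_
    · rw [← hx]; exact hac.symm
    · rw [← hx]; exact hbc.symm
    · intro q
      rw [hft q, hx]
      tauto

end cfg

end Cfsg.Agent.Helper69.HallT5
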