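-- helper69: groups with two conjugacy class sizes (Ito), transfer of noncentral primary elements.
import Cfsg.Agent.Helper69.Ito1

set_option autoImplicit false

namespace Cfsg.Agent.Helper69

open Subgroup

variable {G : Type*} [Group G]

theorem card_eq_card_center_mul [Finite G] {H : Subgroup G} (hH : center G ≤ H) :
    Nat.card (center G) * (center G).relIndex H = Nat.card H := by
  have := Subgroup.relIndex_mul_relIndex (⊥ : Subgroup G) (center G) H bot_le hH
  rwa [Subgroup.relIndex_bot_left, Subgroup.relIndex_bot_left] at this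

theorem relIndex_center_pos [Finite G] (H : Subgroup G) : 0 < (center G).relIndex H :=
  Nat.pos_of_ne_zero (show ((center G).subgroupOf H).index ≠ 0 from
    Subgroup.index_ne_zero_of_finite)

/-- A noncentral `t`-element of `H` forces `t` to divide `|H : Z|`. -/
theorem dvd_relIndex_of_noncentral [Finite G] {H : Subgroup G} {t : ℕ} [ht : Fact t.Prime]
    {x : G} (hxH : x ∈ H) (hx : x ∉ center G) (hxt : ∃ k : ℕ, x ^ (t ^ k) = 1) :
    t ∣ (center G).relIndex H := by
  obtain ⟨k, hk⟩ := hxt
  have h1 : (center G).relIndex H = Nat.card (H.map (QuotientGroup.mk' (center G))) := by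
    rw [← Subgroup.relIndex_ker, QuotientGroup.ker_mk']
  rw [h1]
  set π := QuotientGroup.mk' (center G) with hπ
  have hx1 : π x ≠ 1 := by
    intro hh
    exact hx ((QuotientGroup.eq_one_iff x).mp hh)
  have hxk : (π x) ^ (t ^ k) = 1 := by rw [← map_pow, hk, map_one]
  obtain ⟨j, -, hj⟩ := (Nat.dvd_prime_pow ht.out).mp (orderOf_dvd_of_pow_eq_one hxk)
  have hj0 : j ≠ 0 := by
    rintro rfl
    rw [pow_zero, orderOf_eq_one_iff] at hj
    exact hx1 hj
  have h2 : t ∣ orderOf (π x) := by
    rw [hj]; exact dvd_pow_self t hj0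
  have h3 : orderOf (π x) ∣ Nat.card (H.map π) :=
    Subgroup.orderOf_dvd_natCard _ (Subgroup.mem_map_of_mem π hxH)
  exact h2.trans h3

/-- Transfer of noncentral `t`-elements between subgroups of equal order containing the centre. -/
theorem exists_noncentral_pelem [Finite G] {H K : Subgroup G} (hH : center G ≤ H)
    (hK : center G ≤ K) (hcard : Nat.card H = Nat.card K) {t : ℕ} [ht : Fact t.Prime] {x : G}
    (hxH : x ∈ H) (hx : x ∉ center G) (hxt : ∃ k : ℕ, x ^ (t ^ k) = 1) :
    ∃ b ∈ K, b ∉ center G ∧ ∃ k : ℕ, b ^ (t ^ k) = 1 := by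
  by_contra hcon
  push Not at hcon
  -- every `t`-element of `K` is central
  have hcen : ∀ b ∈ K, (∃ k : ℕ, b ^ (t ^ k) = 1) → b ∈ center G := by
    intro b hb hbt
    by_contra hbc
    obtain ⟨k, hk⟩ := hbt
    exact hcon b hb hbc k hk
  let T : Sylow t K := default
  have hT' : (T : Subgroup K).map K.subtype ≤ center G := by
    rintro _ ⟨y, hy, rfl⟩
    apply hcen _ y.2
    obtain ⟨k, hk⟩ := T.2 ⟨y, hy⟩
    refine ⟨k, ?_⟩
    have := congrArg (fun w : (T : Subgroup K) => ((w : K) : G)) hk
    simpa using this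
  have hcardT : Nat.card ((T : Subgroup K).map K.subtype) =
      t ^ (Nat.card K).factorization t := by
    rw [Subgroup.card_map_of_injective K.subtype_injective]
    exact T.card_eq_multiplicity
  have h1 : t ^ (Nat.card K).factorization t ∣ Nat.card (center G) := by
    rw [← hcardT]
    exact Subgroup.card_dvd_of_le hT'
  have h2 : t ∣ (center G).relIndex H := dvd_relIndex_of_noncentral hxH hx hxt
  have h3 := card_eq_card_center_mul hH
  have h4 : t ^ ((Nat.card K).factorization t + 1) ∣ Nat.card K := by
    have h5 : Nat.card K = Nat.card (center G) * (center G).relIndex H := by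
      rw [h3, hcard]
    rw [pow_succ]
    have h6 : t ^ (Nat.card K).factorization t * t ∣
        Nat.card (center G) * (center G).relIndex H := Nat.mul_dvd_mul h1 h2
    rwa [← h5] at h6
  exact Nat.pow_succ_factorization_not_dvd Nat.card_pos.ne' ht.out h4

/-- A noncentral element has a noncentral primary power. -/
theorem exists_primary_noncentral [Finite G] {g : G} (hg : g ∉ center G) :
    ∃ (s : ℕ) (_ : s.Prime) (g' : G), g' ∈ zpowers g ∧ g' ∉ center G ∧
      ∃ k : ℕ, g' ^ (s ^ k) = 1 := by
  induction hm : orderOf g using Nat.strong_induction_on generalizing g with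
  | _ m ih =>
    have hg1 : g ≠ 1 := fun h1 => hg (h1 ▸ Subgroup.one_mem _)
    have hm1 : m ≠ 1 := by
      rw [← hm, Ne, orderOf_eq_one_iff]; exact hg1
    obtain ⟨s, hs, hsm⟩ := Nat.exists_prime_and_dvd hm1
    haveI : Fact s.Prime := ⟨hs⟩
    obtain ⟨y, z, hy, hz, hgyz, hys, hzs⟩ :=
      Cfsg.Agent.Helper67.exists_pprime_ppart s (isOfFinOrder_of_finite g)
    by_cases hzc : z ∈ center G
    · have hyc : y ∉ center G := by
        intro hyc
        apply hg
        rw [hgyz]
        exact Subgroup.mul_mem _ hyc hzc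
      have hdvd : orderOf y ∣ m := by
        rw [← hm]; exact orderOf_dvd_of_mem_zpowers hy
      have hlt : orderOf y < m := by
        apply lt_of_le_of_ne (Nat.le_of_dvd (by rw [← hm]; exact orderOf_pos g) hdvd)
        intro heq
        rw [heq] at hys
        exact (Nat.Prime.coprime_iff_not_dvd hs).mp hys.symm hsm
      obtain ⟨s', hs', g', hg', hg'c, hg's⟩ := ih (orderOf y) hlt hyc rfl
      exact ⟨s', hs', g', (Subgroup.zpowers_le.mpr hy) hg', hg'c, hg's⟩
    · exact ⟨s, hs, z, hz, hzc, hzs⟩

end Cfsg.Agent.Helper69
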