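-- helper69: groups with two conjugacy class sizes (Ito): commuting noncentral elements of coprime
-- prime power orders force all noncentral centralizers to be abelian.
import Cfsg.Agent.Helper69.Ito2

set_option autoImplicit false

namespace Cfsg.Agent.Helper69

open Subgroup

/-- A commuting pair of noncentral elements of coprime prime power orders. -/
structure BadPair (G : Type*) [Group G] (p q : ℕ) (x a : G) : Prop where
  hpq : p ≠ q
  hx : x ∉ center G
  ha : a ∉ center G
  hxp : ∃ k : ℕ, x ^ (p ^ k) = 1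
  haq : ∃ k : ℕ, a ^ (q ^ k) = 1
  hax : a * x = x * a

variable {G : Type*} [Group G]

theorem cent_abelian_of_badPair [Finite G] {n : ℕ} (hn : 1 < n) (h : TwoSizes G n) {p q : ℕ}
    [hp : Fact p.Prime] [hq : Fact q.Prime] {x a : G} (hb : BadPair G p q x a) {g : G}
    (hg : g ∉ center G) :
    ∀ c ∈ centralizer ({g} : Set G), ∀ d ∈ centralizer ({g} : Set G), c * d = d * c := by
  obtain ⟨s, hs, g', hg', hg'c, hg's⟩ := exists_primary_noncentral hg
  haveI : Fact s.Prime := ⟨hs⟩
  have heq : centralizer ({g} : Set G) = centralizer ({g'} : Set G) :=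
    cent_eq_of_le hn h hg hg'c (cent_le_of_mem_zpowers hg')
  rw [heq]
  have hxC : x ∈ centralizer ({x} : Set G) := Subgroup.mem_centralizer_singleton_iff.mpr rfl
  have haC : a ∈ centralizer ({x} : Set G) := Subgroup.mem_centralizer_singleton_iff.mpr hb.hax
  have hcard := card_cent_eq hn h hb.hx hg'c
  by_cases hsp : s = q
  · obtain ⟨b, hbK, hbc, hbt⟩ := exists_noncentral_pelem (Subgroup.center_le_centralizer _)
      (Subgroup.center_le_centralizer _) hcard hxC hb.hx hb.hxp
    have hsp' : s ≠ p := by rw [hsp]; exact hb.hpq.symm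
    exact (cent_abelian_of_pair hn h hsp' hg'c hbc hg's hbt
      (Subgroup.mem_centralizer_singleton_iff.mp hbK)).2
  · obtain ⟨b, hbK, hbc, hbt⟩ := exists_noncentral_pelem (Subgroup.center_le_centralizer _)
      (Subgroup.center_le_centralizer _) hcard haC hb.ha hb.haq
    exact (cent_abelian_of_pair hn h hsp hg'c hbc hg's hbt
      (Subgroup.mem_centralizer_singleton_iff.mp hbK)).2

theorem cent_eq_of_mem [Finite G] {n : ℕ} (hn : 1 < n) (h : TwoSizes G n) {p q : ℕ}
    [hp : Fact p.Prime] [hq : Fact q.Prime] {x a : G} (hb : BadPair G p q x a) {g k : G}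
    (hg : g ∉ center G) (hk : k ∉ center G) (hkg : k ∈ centralizer ({g} : Set G)) :
    centralizer ({k} : Set G) = centralizer ({g} : Set G) := by
  have hab := cent_abelian_of_badPair hn h hb hg
  symm
  apply cent_eq_of_le hn h hg hk
  intro c hc
  rw [Subgroup.mem_centralizer_singleton_iff]
  exact hab c hc k hkg

theorem relIndex_center_cent_eq [Finite G] {n : ℕ} (hn : 1 < n) (h : TwoSizes G n) {g g' : G}
    (hg : g ∉ center G) (hg' : g' ∉ center G) :
    (center G).relIndex (centralizer ({g} : Set G)) =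
      (center G).relIndex (centralizer ({g'} : Set G)) := by
  have h1 := card_eq_card_center_mul (Subgroup.center_le_centralizer ({g} : Set G))
  have h2 := card_eq_card_center_mul (Subgroup.center_le_centralizer ({g'} : Set G))
  rw [card_cent_eq hn h hg hg', ← h2] at h1
  exact Nat.eq_of_mul_eq_mul_left Nat.card_pos h1

theorem relIndex_center_cent_le [Finite G] {n : ℕ} (hn : 1 < n) (h : TwoSizes G n) {p q : ℕ}
    [hp : Fact p.Prime] [hq : Fact q.Prime] {x a : G} (hb : BadPair G p q x a) {g : G}
    (hg : g ∉ center G) : (center G).relIndex (centralizer ({g} : Set G)) ≤ n := by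
  have hne : centralizer ({g} : Set G) ≠ ⊤ := by
    rw [Ne, Subgroup.centralizer_eq_top_iff_subset, Set.singleton_subset_iff]; exact hg
  obtain ⟨k, -, hk⟩ := SetLike.exists_of_lt (lt_top_iff_ne_top.mpr hne)
  have hkc : k ∉ center G := fun hc => hk (Subgroup.center_le_centralizer _ hc)
  have hinf : centralizer ({g} : Set G) ⊓ centralizer ({k} : Set G) = center G := by
    apply le_antisymm
    · rintro w ⟨hw1, hw2⟩
      by_contra hwc
      have e1 := cent_eq_of_mem hn h hb hg hwc hw1
      have e2 := cent_eq_of_mem hn h hb hkc hwc hw2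
      apply hk
      rw [← e1, e2]
      exact Subgroup.mem_centralizer_singleton_iff.mpr rfl
    · exact le_inf (Subgroup.center_le_centralizer _) (Subgroup.center_le_centralizer _)
  have h1 : (center G).relIndex (centralizer ({k} : Set G)) =
      (centralizer ({g} : Set G)).relIndex (centralizer ({k} : Set G)) := by
    rw [← hinf, Subgroup.inf_relIndex_right]
  have h2 : (centralizer ({g} : Set G)).relIndex (centralizer ({k} : Set G)) ≤
      (centralizer ({g} : Set G)).index := by
    have := Subgroup.relIndex_le_of_le_right (H := centralizer ({g} : Set G))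
      (le_top : centralizer ({k} : Set G) ≤ ⊤)
      (show ((centralizer ({g} : Set G)).subgroupOf ⊤).index ≠ 0 from
        Subgroup.index_ne_zero_of_finite)
    rwa [Subgroup.relIndex_top_right] at this
  rw [relIndex_center_cent_eq hn h hg hkc, h1, ← index_cent_of_not_mem h hg]
  exact h2

/-- If `s ∣ n`, no Sylow `s`-subgroup centralizes a noncentral element. -/
theorem sylow_not_le_cent [Finite G] {n : ℕ} (h : TwoSizes G n) {s : ℕ} [hs : Fact s.Prime]
    (hsn : s ∣ n) (S : Sylow s G) {w : G} (hw : w ∉ center G) :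
    ¬ (S : Subgroup G) ≤ centralizer ({w} : Set G) := by
  intro hle
  have h1 : Nat.card (S : Subgroup G) ∣ Nat.card (centralizer ({w} : Set G)) :=
    Subgroup.card_dvd_of_le hle
  have h2 := card_cent_mul h hw
  have h3 : Nat.card (S : Subgroup G) = s ^ (Nat.card G).factorization s := S.card_eq_multiplicity
  have h4 : s ^ ((Nat.card G).factorization s + 1) ∣ Nat.card G := by
    rw [pow_succ]
    have h5 := Nat.mul_dvd_mul h1 hsn
    rw [h2, h3] at h5
    exact h5
  exact Nat.pow_succ_factorization_not_dvd Nat.card_pos.ne' hs.out h4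

/-- If `s ∣ n` there is a noncentral `s`-element. -/
theorem exists_noncentral_of_dvd [Finite G] {n : ℕ} (h : TwoSizes G n)
    (hex : ∃ g : G, g ∉ center G) {s : ℕ} [hs : Fact s.Prime] (hsn : s ∣ n) :
    ∃ g : G, g ∉ center G ∧ ∃ k : ℕ, g ^ (s ^ k) = 1 := by
  by_contra hcon
  push Not at hcon
  obtain ⟨g₀, hg₀⟩ := hex
  let S : Sylow s G := default
  apply sylow_not_le_cent h hsn S hg₀
  intro w hw
  apply Subgroup.center_le_centralizer
  by_contra hwc
  obtain ⟨k, hk⟩ := S.2 ⟨w, hw⟩
  apply hcon w hwc k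
  have := congrArg (fun v : (S : Subgroup G) => (v : G)) hk
  simpa using this

/-- A prime dividing `|H : Z|` gives a noncentral element of `H` of prime power order. -/
theorem exists_noncentral_of_dvd_relIndex [Finite G] {H : Subgroup G} (hH : center G ≤ H)
    {t : ℕ} [ht : Fact t.Prime] (hdvd : t ∣ (center G).relIndex H) :
    ∃ z ∈ H, z ∉ center G ∧ ∃ k : ℕ, z ^ (t ^ k) = 1 := by
  have h1 : (center G).relIndex H = Nat.card (H.map (QuotientGroup.mk' (center G))) := by
    rw [← Subgroup.relIndex_ker, QuotientGroup.ker_mk']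
  rw [h1] at hdvd
  obtain ⟨⟨w, hw⟩, hwo⟩ := exists_prime_orderOf_dvd_card' t hdvd
  obtain ⟨v, hvH, rfl⟩ := hw
  obtain ⟨y, z, hy, hz, hvyz, hyt, hzt⟩ :=
    Cfsg.Agent.Helper67.exists_pprime_ppart t (isOfFinOrder_of_finite v)
  refine ⟨z, (Subgroup.zpowers_le.mpr hvH) hz, ?_, hzt⟩
  intro hzc
  have hwo' : orderOf (QuotientGroup.mk' (center G) v) = t := by
    rw [← hwo, ← Subgroup.orderOf_coe]
  have h2 : QuotientGroup.mk' (center G) v = QuotientGroup.mk' (center G) y := by
    have hz1 : QuotientGroup.mk' (center G) z = 1 := (QuotientGroup.eq_one_iff z).mpr hzc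
    rw [hvyz, map_mul, hz1, mul_one]
  have h3 : orderOf (QuotientGroup.mk' (center G) y) ∣ orderOf y :=
    orderOf_map_dvd _ y
  rw [← h2, hwo'] at h3
  exact (Nat.Prime.coprime_iff_not_dvd ht.out).mp hyt.symm h3

/-- In a finite `s`-group `S ≤ G` whose centre lies in `Z(G)` but which is not central, there is a
noncentral element of `S` all of whose commutators with `S` are central. -/
theorem exists_second_center [Finite G] {s : ℕ} [hs : Fact s.Prime] (S : Subgroup G)
    (hS : IsPGroup s S) (hZS : ∀ w ∈ S, (∀ t ∈ S, t * w = w * t) → w ∈ center G)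
    (hnot : ¬ S ≤ center G) :
    ∃ u ∈ S, u ∉ center G ∧ ∀ t ∈ S, t * u * t⁻¹ * u⁻¹ ∈ center G := by
  have hQ : IsPGroup s (S ⧸ center S) := hS.to_quotient _
  have hcen : ∀ w : S, w ∈ center S → (w : G) ∈ center G := by
    intro w hw
    apply hZS _ w.2
    intro t ht
    have := Subgroup.mem_center_iff.mp hw ⟨t, ht⟩
    exact congrArg Subtype.val this
  haveI : Nontrivial (S ⧸ center S) := by
    by_contra hnt
    rw [not_nontrivial_iff_subsingleton] at hnt
    apply hnot
    intro w hw
    apply hcen ⟨w, hw⟩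
    rw [← QuotientGroup.eq_one_iff]
    exact Subsingleton.elim _ _
  haveI := hQ.center_nontrivial
  obtain ⟨⟨wbar, hwbar⟩, hne⟩ := exists_ne (1 : center (S ⧸ center S))
  obtain ⟨w, rfl⟩ := QuotientGroup.mk_surjective wbar
  refine ⟨(w : G), w.2, ?_, ?_⟩
  · intro hwc
    apply hne
    apply Subtype.ext
    change (QuotientGroup.mk w : S ⧸ center S) = 1
    rw [QuotientGroup.eq_one_iff, Subgroup.mem_center_iff]
    intro g
    apply Subtype.ext
    exact Subgroup.mem_center_iff.mp hwc g
  · intro t ht
    have h1 : (⟨t, ht⟩ : S) * w * (⟨t, ht⟩ : S)⁻¹ * w⁻¹ ∈ center S := by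
      rw [← QuotientGroup.eq_one_iff]
      have h2 := Subgroup.mem_center_iff.mp hwbar (QuotientGroup.mk (⟨t, ht⟩ : S))
      rw [QuotientGroup.mk_mul, QuotientGroup.mk_mul, QuotientGroup.mk_mul, QuotientGroup.mk_inv,
        QuotientGroup.mk_inv, h2]
      group
    exact hcen _ h1

/-- In a finite group with commutative multiplication, a Sylow subgroup contains every element of
prime power order. -/
theorem mem_sylow_of_comm {H : Type*} [Group H] [Finite H] (hcomm : ∀ a b : H, a * b = b * a)
    {l : ℕ} [hl : Fact l.Prime] (T : Sylow l H) {v : H} (hv : ∃ k : ℕ, v ^ (l ^ k) = 1) :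
    v ∈ T := by
  haveI : (T : Subgroup H).Normal :=
    ⟨fun n hn g => by rw [hcomm g n, mul_inv_cancel_right]; exact hn⟩
  obtain ⟨k, hk⟩ := hv
  have hP : IsPGroup l (zpowers v) := by
    rintro ⟨w, hw⟩
    obtain ⟨j, rfl⟩ := Subgroup.mem_zpowers_iff.mp hw
    refine ⟨k, ?_⟩
    apply Subtype.ext
    change (v ^ j) ^ (l ^ k) = 1
    rw [← zpow_natCast, ← zpow_mul, mul_comm, zpow_mul, zpow_natCast, hk, one_zpow]
  obtain ⟨T', hT'⟩ := hP.exists_le_sylow
  obtain ⟨g, rfl⟩ := MulAction.exists_smul_eq H T T'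
  rw [Sylow.smul_eq_of_normal] at hT'
  exact hT' (Subgroup.mem_zpowers v)

end Cfsg.Agent.Helper69
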