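-- helper69: groups with two conjugacy class sizes (Ito): the key inequality between prime power
-- parts of the class size `n` and of `c = |C(x) : Z|`.
import Cfsg.Agent.Helper69.Ito3

set_option autoImplicit false

namespace Cfsg.Agent.Helper69

open Subgroup

variable {G : Type*} [Group G]

/-- If an `s`-element `t` conjugates an `s'`-element `y` to `y * z` with `z` central, then `z = 1`. -/
theorem eq_one_of_conj_eq_mul {s s' : ℕ} [hs : Fact s.Prime] [hs' : Fact s'.Prime] (hss' : s ≠ s')
    {t y z : G} (ht : ∃ k : ℕ, t ^ (s ^ k) = 1) (hy : ∃ k : ℕ, y ^ (s' ^ k) = 1)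
    (hz : z ∈ center G) (htyz : t * y * t⁻¹ = y * z) : z = 1 := by
  obtain ⟨k, hk⟩ := ht
  obtain ⟨l, hl⟩ := hy
  have hzc : ∀ g : G, g * z = z * g := fun g => Subgroup.mem_center_iff.mp hz g
  have hzy : Commute y z := hzc y
  -- `z` is an `s'`-element
  have h1 : z ^ (s' ^ l) = 1 := by
    have h2 : (t * y * t⁻¹) ^ (s' ^ l) = 1 := by rw [conj_pow, hl]; group
    rw [htyz, hzy.mul_pow, hl, one_mul] at h2
    exact h2
  -- `z` is an `s`-element
  have h3 : ∀ j : ℕ, t ^ j * y * (t ^ j)⁻¹ = y * z ^ j := by
    intro j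
    induction j with
    | zero => simp
    | succ j ih =>
      calc t ^ (j + 1) * y * (t ^ (j + 1))⁻¹ = t * (t ^ j * y * (t ^ j)⁻¹) * t⁻¹ := by
            rw [pow_succ']; group
        _ = t * (y * z ^ j) * t⁻¹ := by rw [ih]
        _ = (t * y * t⁻¹) * (t * z ^ j * t⁻¹) := by group
        _ = (y * z) * z ^ j := by
            have : t * z ^ j * t⁻¹ = z ^ j := by
              have h4 : Commute t (z ^ j) := (show Commute t z from hzc t).pow_right j
              rw [h4.eq]; group
            rw [htyz, this]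
        _ = y * z ^ (j + 1) := by rw [pow_succ']; group
  have h5 : z ^ (s ^ k) = 1 := by
    have := h3 (s ^ k)
    rw [hk] at this
    simpa using this.symm
  have h6 : orderOf z ∣ s ^ k := orderOf_dvd_of_pow_eq_one h5
  have h7 : orderOf z ∣ s' ^ l := orderOf_dvd_of_pow_eq_one h1
  have h8 : (s ^ k).Coprime (s' ^ l) :=
    Nat.Coprime.pow k l ((Nat.coprime_primes hs.out hs'.out).mpr hss')
  have h9 : orderOf z = 1 := Nat.eq_one_of_dvd_coprimes h8 h6 h7
  exact orderOf_eq_one_iff.mp h9

theorem primePart_lt [Finite G] {n : ℕ} (hn : 1 < n) (h : TwoSizes G n) {p q : ℕ}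
    [hp : Fact p.Prime] [hq : Fact q.Prime] {x a : G} (hb : BadPair G p q x a)
    {s s' : ℕ} [hs : Fact s.Prime] [hs' : Fact s'.Prime] (hss' : s ≠ s') (hsn : s ∣ n)
    (hs'c : s' ∣ (center G).relIndex (centralizer ({x} : Set G))) :
    s ^ n.factorization s <
      s' ^ ((center G).relIndex (centralizer ({x} : Set G))).factorization s' := by
  classical
  set c := (center G).relIndex (centralizer ({x} : Set G)) with hc
  let S : Sylow s G := default
  have hZS : ∀ w ∈ (S : Subgroup G), (∀ t ∈ (S : Subgroup G), t * w = w * t) → w ∈ center G := by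
    intro w _ hcomm
    by_contra hwc
    exact sylow_not_le_cent h hsn S hwc
      (fun t ht => Subgroup.mem_centralizer_singleton_iff.mpr (hcomm t ht))
  have hnot : ¬ (S : Subgroup G) ≤ center G := fun hle =>
    sylow_not_le_cent h hsn S hb.hx (hle.trans (Subgroup.center_le_centralizer _))
  obtain ⟨u, huS, huc, hu⟩ := exists_second_center (S : Subgroup G) S.2 hZS hnot
  set A := centralizer ({u} : Set G) with hA
  have hAab := cent_abelian_of_badPair hn h hb huc
  have hAc : (center G).relIndex A = c := relIndex_center_cent_eq hn h huc hb.hx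
  have hZA : center G ≤ A := Subgroup.center_le_centralizer _
  -- a noncentral `s'`-element of `A`
  obtain ⟨y, hyA, hyc, hys'⟩ := exists_noncentral_of_dvd_relIndex hZA (hAc ▸ hs'c)
  have hCy : centralizer ({y} : Set G) = A := cent_eq_of_mem hn h hb huc hyc hyA
  -- `S` normalizes `A`
  have hSA : ∀ t ∈ (S : Subgroup G), ∀ d ∈ A, t * d * t⁻¹ ∈ A := by
    intro t ht d hd
    have hz := hu t⁻¹ (Subgroup.inv_mem _ ht)
    rw [inv_inv] at hz
    set z := t⁻¹ * u * t * u⁻¹ with hzdef
    have h1 : t⁻¹ * u * t = z * u := by rw [hzdef]; group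
    have hzc : ∀ g : G, g * z = z * g := fun g => Subgroup.mem_center_iff.mp hz g
    have hdu : d * u = u * d := Subgroup.mem_centralizer_singleton_iff.mp hd
    rw [hA, Subgroup.mem_centralizer_singleton_iff]
    calc t * d * t⁻¹ * u = t * d * (t⁻¹ * u * t) * t⁻¹ := by group
      _ = t * d * (z * u) * t⁻¹ := by rw [h1]
      _ = t * ((d * z) * u) * t⁻¹ := by group
      _ = t * ((z * d) * u) * t⁻¹ := by rw [hzc d]
      _ = t * (z * (d * u)) * t⁻¹ := by group
      _ = t * (z * (u * d)) * t⁻¹ := by rw [hdu]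
      _ = t * ((z * u) * d) * t⁻¹ := by group
      _ = t * ((t⁻¹ * u * t) * d) * t⁻¹ := by rw [h1]
      _ = u * (t * d * t⁻¹) := by group
  -- the quotient by the centre
  set π : G →* G ⧸ center G := QuotientGroup.mk' (center G) with hπ
  set Abar : Subgroup (G ⧸ center G) := A.map π with hAbar
  have hcardAbar : Nat.card Abar = c := by
    rw [← hAc, ← Subgroup.relIndex_ker, QuotientGroup.ker_mk']
  have hcommAbar : ∀ v w : Abar, v * w = w * v := by
    rintro ⟨_, v, hv, rfl⟩ ⟨_, w, hw, rfl⟩
    apply Subtype.ext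
    change π v * π w = π w * π v
    rw [← map_mul, ← map_mul, hAab v hv w hw]
  let Tbar : Sylow s' Abar := default
  set That : Subgroup (G ⧸ center G) := (Tbar : Subgroup Abar).map Abar.subtype with hThat
  have hcardThat : Nat.card That = s' ^ c.factorization s' := by
    rw [hThat, Subgroup.card_map_of_injective Abar.subtype_injective, Tbar.card_eq_multiplicity,
      hcardAbar]
  have hkey : ∀ v ∈ A, (∃ k : ℕ, v ^ (s' ^ k) = 1) → π v ∈ That := by
    intro v hv hvs
    obtain ⟨k, hk⟩ := hvs
    have hvA : π v ∈ Abar := Subgroup.mem_map_of_mem π hv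
    have h1 : (⟨π v, hvA⟩ : Abar) ∈ Tbar := by
      apply mem_sylow_of_comm hcommAbar Tbar
      refine ⟨k, ?_⟩
      apply Subtype.ext
      change (π v) ^ (s' ^ k) = 1
      rw [← map_pow, hk, map_one]
    exact Subgroup.mem_map.mpr ⟨⟨π v, hvA⟩, h1, rfl⟩
  -- the action of `S` on the quotient by conjugation
  let φ : (S : Subgroup G) →* ConjAct (G ⧸ center G) :=
    (ConjAct.toConjAct.toMonoidHom).comp (π.comp (S : Subgroup G).subtype)
  letI : MulAction (S : Subgroup G) (G ⧸ center G) := MulAction.compHom (G ⧸ center G) φ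
  have hsmul : ∀ (t : (S : Subgroup G)) (v : G ⧸ center G),
      t • v = π (t : G) * v * (π (t : G))⁻¹ := fun t v => rfl
  have hsmul' : ∀ (t : (S : Subgroup G)), t • π y = π ((t : G) * y * (t : G)⁻¹) := by
    intro t
    rw [hsmul, map_mul, map_mul, map_inv]
  -- the stabilizer of `π y`
  have hstab : MulAction.stabilizer (S : Subgroup G) (π y) ≤ A.subgroupOf (S : Subgroup G) := by
    intro t ht
    rw [MulAction.mem_stabilizer_iff, hsmul'] at ht
    rw [Subgroup.mem_subgroupOf, ← hCy, Subgroup.mem_centralizer_singleton_iff]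
    have h1 : ((t : G) * y * (t : G)⁻¹)⁻¹ * y ∈ center G :=
      QuotientGroup.eq.mp (show (((t : G) * y * (t : G)⁻¹ : G) : G ⧸ center G) =
        ((y : G) : G ⧸ center G) from ht)
    set z := ((t : G) * y * (t : G)⁻¹)⁻¹ * y with hzdef
    have hzc : ∀ g : G, g * z = z * g := fun g => Subgroup.mem_center_iff.mp h1 g
    have h2 : (t : G) * y * (t : G)⁻¹ = y * z⁻¹ := by rw [hzdef]; group
    have hts : ∃ k : ℕ, (t : G) ^ (s ^ k) = 1 := by
      obtain ⟨k, hk⟩ := S.2 t
      refine ⟨k, ?_⟩
      have := congrArg (fun v : (S : Subgroup G) => (v : G)) hk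
      simpa using this
    have h3 : z⁻¹ = 1 :=
      eq_one_of_conj_eq_mul hss' hts hys' (Subgroup.inv_mem _ h1) h2
    rw [h3, mul_one] at h2
    calc (t : G) * y = ((t : G) * y * (t : G)⁻¹) * (t : G) := by group
      _ = y * (t : G) := by rw [h2]
  -- the orbit of `π y`
  have horb : MulAction.orbit (S : Subgroup G) (π y) ⊆ (That : Set (G ⧸ center G)) \ {1} := by
    rintro _ ⟨t, rfl⟩
    change t • π y ∈ _
    rw [hsmul']
    refine ⟨?_, ?_⟩
    · apply hkey _ (hSA _ t.2 _ hyA)
      obtain ⟨k, hk⟩ := hys'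
      exact ⟨k, by rw [conj_pow, hk]; group⟩
    · rw [Set.mem_singleton_iff]
      intro h1
      apply hyc
      have h2 : (t : G) * y * (t : G)⁻¹ ∈ center G :=
        (QuotientGroup.eq_one_iff _).mp h1
      have h3 := (inferInstance : (center G).Normal).conj_mem _ h2 (t : G)⁻¹
      have h4 : (t : G)⁻¹ * ((t : G) * y * (t : G)⁻¹) * ((t : G)⁻¹)⁻¹ = y := by group
      rwa [h4] at h3
  -- counting
  have hcount1 : Nat.card (MulAction.orbit (S : Subgroup G) (π y)) =
      (MulAction.stabilizer (S : Subgroup G) (π y)).index :=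
    Nat.card_congr (MulAction.orbitEquivQuotientStabilizer (S : Subgroup G) (π y))
  have hcount2 : (A.subgroupOf (S : Subgroup G)).index ≤
      (MulAction.stabilizer (S : Subgroup G) (π y)).index :=
    Nat.le_of_dvd (Nat.pos_of_ne_zero Subgroup.index_ne_zero_of_finite)
      (Subgroup.index_dvd_of_le hstab)
  have hcount3 : Nat.card (MulAction.orbit (S : Subgroup G) (π y)) ≤ Nat.card That - 1 := by
    have h1 : (1 : G ⧸ center G) ∈ (That : Set (G ⧸ center G)) := That.one_mem
    have h2 := Set.ncard_diff_singleton_of_mem h1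
    have h3 := Set.ncard_le_ncard horb
    rw [h2] at h3
    rw [Nat.card_coe_set_eq]
    have h4 : Nat.card That = (That : Set (G ⧸ center G)).ncard :=
      Nat.card_coe_set_eq (That : Set (G ⧸ center G))
    rw [h4]
    exact h3
  -- the `s`-part of `n`
  have hcount4 : s ^ n.factorization s ≤ (A.subgroupOf (S : Subgroup G)).index := by
    have hG : Nat.card G = Nat.card A * n := (card_cent_mul h huc).symm
    have hS : Nat.card (S : Subgroup G) = s ^ (Nat.card G).factorization s :=
      S.card_eq_multiplicity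
    have hn0 : n ≠ 0 := by omega
    have hA0 : Nat.card A ≠ 0 := Nat.card_pos.ne'
    have hfac : (Nat.card G).factorization s =
        (Nat.card A).factorization s + n.factorization s := by
      rw [hG, Nat.factorization_mul hA0 hn0]; rfl
    have h1 := Subgroup.index_mul_card (A.subgroupOf (S : Subgroup G))
    obtain ⟨j, hj⟩ := (S.2.to_subgroup (A.subgroupOf (S : Subgroup G))).exists_card_eq
    have h2 : Nat.card (A.subgroupOf (S : Subgroup G)) ∣ Nat.card A := by
      have h3 : Nat.card (A.subgroupOf (S : Subgroup G)) =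
          Nat.card ((A ⊓ (S : Subgroup G) : Subgroup G)) := by
        rw [← Subgroup.inf_subgroupOf_right]
        exact Nat.card_congr (Subgroup.subgroupOfEquivOfLe inf_le_right).toEquiv
      rw [h3]
      exact Subgroup.card_dvd_of_le inf_le_left
    rw [hj] at h2
    have h4 : j ≤ (Nat.card A).factorization s :=
      (hs.out.pow_dvd_iff_le_factorization hA0).mp h2
    rw [hj, hS, hfac, pow_add] at h1
    -- `index * s^j = s^vA * s^vn`
    have h5 : s ^ j ≤ s ^ (Nat.card A).factorization s :=
      Nat.pow_le_pow_right hs.out.pos h4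
    have h6 : (A.subgroupOf (S : Subgroup G)).index * s ^ (Nat.card A).factorization s ≥
        s ^ (Nat.card A).factorization s * s ^ n.factorization s := by
      rw [← h1]
      exact Nat.mul_le_mul_left _ h5
    have h7 : 0 < s ^ (Nat.card A).factorization s := pow_pos hs.out.pos _
    rw [mul_comm (s ^ (Nat.card A).factorization s)] at h6
    exact Nat.le_of_mul_le_mul_right h6 h7
  have hpos : 0 < Nat.card That := Nat.card_pos
  rw [← hcardThat]
  omega

end Cfsg.Agent.Helper69
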