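-- helper69: an arithmetic lemma on prime power parts used in the proof of Ito's theorem.
import Mathlib

set_option autoImplicit false

namespace Cfsg.Agent.Helper69

theorem prod_primeParts {n c : ℕ} (hn : n ≠ 0) (hsub : n.primeFactors ⊆ c.primeFactors) :
    ∏ s ∈ c.primeFactors, s ^ n.factorization s = n := by
  have h1 := Nat.factorization_prod_pow_eq_self hn
  rw [Finsupp.prod_of_support_subset n.factorization (s := c.primeFactors)
    (by rw [Nat.support_factorization]; exact hsub) (fun p k => p ^ k) (fun i _ => pow_zero i)] at h1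
  exact h1

/-- If the `s`-part of `n` is smaller than the `s'`-part of `c` for all distinct primes `s`, `s'`
with `s' ∣ c`, the primes of `n` divide `c`, and `c` has two prime divisors, then `n < c`. -/
theorem lt_of_primeParts_lt {n c : ℕ} (hn : n ≠ 0) (hc : c ≠ 0)
    (hsub : ∀ s : ℕ, s.Prime → s ∣ n → s ∣ c)
    (hlt : ∀ s s' : ℕ, s.Prime → s'.Prime → s ≠ s' → s ∣ n → s' ∣ c →
      s ^ n.factorization s < s' ^ c.factorization s')
    {p q : ℕ} (hp : p.Prime) (hq : q.Prime) (hpq : p ≠ q) (hpc : p ∣ c) (hqc : q ∣ c) :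
    n < c := by
  classical
  set PF := c.primeFactors with hPF
  have hsub' : n.primeFactors ⊆ PF := by
    intro s hs
    have := Nat.mem_primeFactors.mp hs
    exact Nat.mem_primeFactors.mpr ⟨this.1, hsub s this.1 this.2.1, hc⟩
  have hnprod := prod_primeParts hn hsub'
  have hcprod := prod_primeParts hc (Finset.Subset.refl c.primeFactors)
  have hpPF : p ∈ PF := Nat.mem_primeFactors.mpr ⟨hp, hpc, hc⟩
  have hqPF : q ∈ PF := Nat.mem_primeFactors.mpr ⟨hq, hqc, hc⟩
  have hr : 1 < PF.card := Finset.one_lt_card.mpr ⟨p, hpPF, q, hqPF, hpq⟩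
  -- the general strict inequality, including primes not dividing `n`
  have hlt' : ∀ s ∈ PF, ∀ s' ∈ PF.erase s, s ^ n.factorization s < s' ^ c.factorization s' := by
    intro s hs s' hs'
    have hsp := (Nat.mem_primeFactors.mp hs).1
    have hs'2 := Finset.mem_erase.mp hs'
    have hs'p := (Nat.mem_primeFactors.mp hs'2.2).1
    have hs'c := (Nat.mem_primeFactors.mp hs'2.2).2.1
    by_cases hsn : s ∣ n
    · exact hlt s s' hsp hs'p (Ne.symm hs'2.1) hsn hs'c
    · rw [Nat.factorization_eq_zero_of_not_dvd hsn, pow_zero]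
      have : 0 < c.factorization s' := hs'p.factorization_pos_of_dvd hc hs'c
      exact Nat.one_lt_pow this.ne' hs'p.one_lt
  have h1 : ∏ s ∈ PF, ∏ _s' ∈ PF.erase s, s ^ n.factorization s <
      ∏ s ∈ PF, ∏ s' ∈ PF.erase s, s' ^ c.factorization s' := by
    apply Finset.prod_lt_prod_of_nonempty
    · intro s hs
      apply Finset.prod_pos
      intro _ _
      exact pow_pos (Nat.mem_primeFactors.mp hs).1.pos _
    · intro s hs
      apply Finset.prod_lt_prod_of_nonempty
      · intro _ _
        exact pow_pos (Nat.mem_primeFactors.mp hs).1.pos _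
      · exact hlt' s hs
      · rw [← Finset.card_pos, Finset.card_erase_of_mem hs]; omega
    · exact ⟨p, hpPF⟩
  have h2 : ∏ s ∈ PF, ∏ _s' ∈ PF.erase s, s ^ n.factorization s = n ^ (PF.card - 1) := by
    conv_rhs => rw [← hnprod]
    rw [← Finset.prod_pow]
    apply Finset.prod_congr rfl
    intro s hs
    rw [Finset.prod_const, Finset.card_erase_of_mem hs]
  have h3 : ∏ s ∈ PF, ∏ s' ∈ PF.erase s, s' ^ c.factorization s' = c ^ (PF.card - 1) := by
    rw [Finset.prod_comm' (s' := fun s' => PF.erase s') (t' := PF)]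
    · conv_rhs => rw [← hcprod]
      rw [← Finset.prod_pow]
      apply Finset.prod_congr rfl
      intro s hs
      rw [Finset.prod_const, Finset.card_erase_of_mem hs]
    · intro x y
      simp only [Finset.mem_erase]
      constructor
      · rintro ⟨hx, hyx, hy⟩
        exact ⟨⟨Ne.symm hyx, hx⟩, hy⟩
      · rintro ⟨⟨hxy, hx⟩, hy⟩
        exact ⟨hx, Ne.symm hxy, hy⟩
  rw [h2, h3] at h1
  exact lt_of_pow_lt_pow_left₀ _ (Nat.zero_le c) h1

end Cfsg.Agent.Helper69
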