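-- helper69: groups with two conjugacy class sizes (Ito): nilpotency.
import Cfsg.Agent.Helper69.Ito4
import Cfsg.Agent.Helper69.ItoArith

set_option autoImplicit false

namespace Cfsg.Agent.Helper69

open Subgroup

variable {G : Type*} [Group G]

/-- There is no commuting pair of noncentral elements of coprime prime power orders. -/
theorem no_badPair [Finite G] {n : ℕ} (hn : 1 < n) (h : TwoSizes G n) {p q : ℕ}
    [hp : Fact p.Prime] [hq : Fact q.Prime] {x a : G} (hb : BadPair G p q x a) : False := by
  have hcpos : (center G).relIndex (centralizer ({x} : Set G)) ≠ 0 := (relIndex_center_pos _).ne'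
  have hcn := relIndex_center_cent_le hn h hb hb.hx
  have hxC : x ∈ centralizer ({x} : Set G) := Subgroup.mem_centralizer_singleton_iff.mpr rfl
  have haC : a ∈ centralizer ({x} : Set G) := Subgroup.mem_centralizer_singleton_iff.mpr hb.hax
  have hpc := dvd_relIndex_of_noncentral hxC hb.hx hb.hxp
  have hqc := dvd_relIndex_of_noncentral haC hb.ha hb.haq
  have hsub : ∀ s : ℕ, s.Prime → s ∣ n →
      s ∣ (center G).relIndex (centralizer ({x} : Set G)) := by
    intro s hs hsn
    haveI : Fact s.Prime := ⟨hs⟩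
    obtain ⟨g, hgc, hgs⟩ := exists_noncentral_of_dvd h ⟨x, hb.hx⟩ hsn
    have hgC : g ∈ centralizer ({g} : Set G) := Subgroup.mem_centralizer_singleton_iff.mpr rfl
    have := dvd_relIndex_of_noncentral hgC hgc hgs
    rwa [relIndex_center_cent_eq hn h hgc hb.hx] at this
  have hlt : ∀ s s' : ℕ, s.Prime → s'.Prime → s ≠ s' → s ∣ n →
      s' ∣ (center G).relIndex (centralizer ({x} : Set G)) →
      s ^ n.factorization s <
        s' ^ ((center G).relIndex (centralizer ({x} : Set G))).factorization s' := by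
    intro s s' hs hs' hss' hsn hs'c
    haveI : Fact s.Prime := ⟨hs⟩
    haveI : Fact s'.Prime := ⟨hs'⟩
    exact primePart_lt hn h hb hss' hsn hs'c
  have := lt_of_primeParts_lt (by omega) hcpos hsub hlt hp.out hq.out hb.hpq hpc hqc
  omega

/-- If there is a noncentral `p`-element, every `q`-element with `q ≠ p` is central. -/
theorem central_of_prime_ne [Finite G] {n : ℕ} (hn : 1 < n) (h : TwoSizes G n) {p q : ℕ}
    [hp : Fact p.Prime] [hq : Fact q.Prime] (hpq : p ≠ q) {x y : G} (hx : x ∉ center G)
    (hxp : ∃ k : ℕ, x ^ (p ^ k) = 1) (hyq : ∃ k : ℕ, y ^ (q ^ k) = 1) : y ∈ center G := by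
  by_contra hy
  have hxC : x ∈ centralizer ({x} : Set G) := Subgroup.mem_centralizer_singleton_iff.mpr rfl
  obtain ⟨b, hbK, hbc, hbt⟩ := exists_noncentral_pelem (Subgroup.center_le_centralizer _)
    (Subgroup.center_le_centralizer _) (card_cent_eq hn h hx hy) hxC hx hxp
  exact no_badPair hn h (⟨hpq.symm, hy, hbc, hyq, hbt,
    Subgroup.mem_centralizer_singleton_iff.mp hbK⟩ : BadPair G q p y b)

/-- If there is a noncentral `p`-element, every element of order prime to `p` is central. -/
theorem central_of_coprime [Finite G] {n : ℕ} (hn : 1 < n) (h : TwoSizes G n) {p : ℕ}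
    [hp : Fact p.Prime] {x : G} (hx : x ∉ center G) (hxp : ∃ k : ℕ, x ^ (p ^ k) = 1) :
    ∀ g : G, (orderOf g).Coprime p → g ∈ center G := by
  intro g
  induction hm : orderOf g using Nat.strong_induction_on generalizing g with
  | _ m ih =>
    intro hcop
    by_cases hm1 : m = 1
    · rw [hm1, orderOf_eq_one_iff] at hm
      rw [hm]; exact Subgroup.one_mem _
    · obtain ⟨q, hq, hqm⟩ := Nat.exists_prime_and_dvd hm1
      haveI : Fact q.Prime := ⟨hq⟩
      have hqp : p ≠ q := by
        rintro rfl
        exact (Nat.Prime.coprime_iff_not_dvd hq).mp hcop.symm hqm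
      obtain ⟨y, z, hy, hz, hgyz, hyq, hzq⟩ :=
        Cfsg.Agent.Helper67.exists_pprime_ppart q (isOfFinOrder_of_finite g)
      have hzc : z ∈ center G := central_of_prime_ne hn h hqp hx hxp hzq
      have hdvd : orderOf y ∣ m := by
        rw [← hm]; exact orderOf_dvd_of_mem_zpowers hy
      have hlt : orderOf y < m := by
        apply lt_of_le_of_ne (Nat.le_of_dvd (by rw [← hm]; exact orderOf_pos g) hdvd)
        intro heq
        rw [heq] at hyq
        exact (Nat.Prime.coprime_iff_not_dvd hq).mp hyq.symm hqm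
      have hyc : y ∈ center G :=
        ih (orderOf y) hlt y rfl (Nat.Coprime.coprime_dvd_left hdvd hcop)
      rw [hgyz]
      exact Subgroup.mul_mem _ hyc hzc

theorem card_subgroupOf_eq (H K : Subgroup G) :
    Nat.card (H.subgroupOf K) = Nat.card ((H ⊓ K : Subgroup G)) := by
  rw [← Subgroup.inf_subgroupOf_right]
  exact Nat.card_congr (Subgroup.subgroupOfEquivOfLe inf_le_right).toEquiv

/-- If `C ⊔ P = ⊤` with `P` normal, then `|P : P ∩ C| = |G : C|`. -/
theorem relIndex_eq_index_of_sup_eq_top [Finite G] (C P : Subgroup G) [P.Normal]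
    (hsup : C ⊔ P = ⊤) : C.relIndex P = C.index := by
  have h0 : P.relIndex C = P.index := by
    rw [← Subgroup.relIndex_sup_right C P, hsup, Subgroup.relIndex_top_right]
  have h1 := Subgroup.index_mul_card C
  have h2 := Subgroup.index_mul_card P
  have h3 : P.relIndex C * Nat.card ((P ⊓ C : Subgroup G)) = Nat.card C := by
    rw [← card_subgroupOf_eq]
    exact Subgroup.index_mul_card (P.subgroupOf C)
  have h4 : C.relIndex P * Nat.card ((C ⊓ P : Subgroup G)) = Nat.card P := by
    rw [← card_subgroupOf_eq]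
    exact Subgroup.index_mul_card (C.subgroupOf P)
  rw [inf_comm] at h4
  have hpos : 0 < P.index * Nat.card ((P ⊓ C : Subgroup G)) :=
    Nat.mul_pos (Nat.pos_of_ne_zero Subgroup.index_ne_zero_of_finite) Nat.card_pos
  have h5 : C.relIndex P * (P.index * Nat.card ((P ⊓ C : Subgroup G))) =
      C.index * (P.index * Nat.card ((P ⊓ C : Subgroup G))) := by
    calc C.relIndex P * (P.index * Nat.card ((P ⊓ C : Subgroup G)))
        = P.index * (C.relIndex P * Nat.card ((P ⊓ C : Subgroup G))) := by ring
      _ = P.index * Nat.card P := by rw [h4]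
      _ = Nat.card G := h2
      _ = C.index * Nat.card C := h1.symm
      _ = C.index * (P.relIndex C * Nat.card ((P ⊓ C : Subgroup G))) := by rw [h3]
      _ = C.index * (P.index * Nat.card ((P ⊓ C : Subgroup G))) := by rw [h0]
  exact Nat.eq_of_mul_eq_mul_right hpos h5

/-- A normal Sylow subgroup contains every element of prime power order. -/
theorem mem_sylow_of_normal [Finite G] {l : ℕ} [hl : Fact l.Prime] (T : Sylow l G)
    [(T : Subgroup G).Normal] {v : G} (hv : ∃ k : ℕ, v ^ (l ^ k) = 1) : v ∈ T := by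
  obtain ⟨k, hk⟩ := hv
  have hP : IsPGroup l (zpowers v) := by
    rintro ⟨w, hw⟩
    obtain ⟨j, rfl⟩ := Subgroup.mem_zpowers_iff.mp hw
    refine ⟨k, ?_⟩
    apply Subtype.ext
    change (v ^ j) ^ (l ^ k) = 1
    rw [← zpow_natCast, ← zpow_mul, mul_comm, zpow_mul, zpow_natCast, hk, one_zpow]
  obtain ⟨T', hT'⟩ := hP.exists_le_sylow
  obtain ⟨g, rfl⟩ := MulAction.exists_smul_eq G T T'
  rw [Sylow.smul_eq_of_normal] at hT'
  exact hT' (Subgroup.mem_zpowers v)

end Cfsg.Agent.Helper69
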