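import Mathlib
import Cfsg.Agent.Helper80.LS.Defs

/-!
# (MH) for S2332 (helper80 skeleton): linear characters of `P` trivial on `Q` kill the conjugates
of `t0` lying in `P`.

The pieces (MG) `L0_le_P`, `P_factor_tv`, (MC) `exists_conj_tv` and (MD) `t0_mem_commutator` (the last
two for `glMatGrp F (k + 2)`) are taken as explicit hypotheses.
-/

set_option autoImplicit false
set_option linter.unusedSectionVars false
set_option linter.unusedVariables false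

namespace Cfsg.Agent.Helper69.LS

open Matrix Cfsg.Agent.Helper80.LS

variable {F : Type*} [Field F] [Fintype F] [DecidableEq F] {G : Type*} [Group G] [Fintype G]

/-- the case `m = k + 1`, all needed pieces as hypotheses -/
theorem lin_char_trivial_succ {k : ℕ} (D : MatGrp F (k + 1 + 2) G)
    (hL0 : D.L0 ≤ D.P)
    (hPf : ∀ x : G, x ∈ D.P → (∃ y : G, y⁻¹ * D.t0 * y = x) →
      ∃ z ∈ D.Q, ∃ h : GL (Fin (k + 1 + 1)) F, x = z * D.iota h ∧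
        ∃ u ψ : Fin (k + 1 + 1) → F, ψ ⬝ᵥ u = 0 ∧
          (h : Matrix (Fin (k + 1 + 1)) (Fin (k + 1 + 1)) F) = 1 + vecMulVec u ψ)
    (hMC : ∀ (u ψ : Fin (k + 2) → F), u ≠ 0 → ψ ≠ 0 → ∀ h0 : ψ ⬝ᵥ u = 0,
      ∃ g : GL (Fin (k + 2)) F,
        g * (glMatGrp F (k + 2)).t0 * g⁻¹ = (glMatGrp F (k + 2)).tv u ψ h0)
    (hcm : (glMatGrp F (k + 2)).t0 ∈ commutator (GL (Fin (k + 2)) F))
    (θ : D.P →* ℂˣ) (hθ : ∀ x : D.P, (x : G) ∈ D.Q → θ x = 1) :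
    ∀ x : D.P, (∃ y : G, y⁻¹ * D.t0 * y = (x : G)) → θ x = 1 := by
  intro x hc
  obtain ⟨z, hz, h, hx, u, ψ, h0, hh⟩ := hPf x.1 x.2 hc
  have hiP : D.iota h ∈ D.P := hL0 ⟨h, rfl⟩
  have hzP : z ∈ D.P := by
    have : z = (x : G) * (D.iota h)⁻¹ := by rw [hx]; group
    rw [this]
    exact D.P.mul_mem x.2 (D.P.inv_mem hiP)
  have hxe : x = (⟨z, hzP⟩ : D.P) * ⟨D.iota h, hiP⟩ := Subtype.ext hx
  rw [hxe, map_mul, hθ ⟨z, hzP⟩ hz, one_mul]
  -- the linear character of `GL_{m+1}`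
  obtain ⟨κ, hκ⟩ : ∃ κ : GL (Fin (k + 2)) F →* ℂˣ,
      ∀ h' : GL (Fin (k + 2)) F, κ h' = θ ⟨D.iota h', hL0 ⟨h', rfl⟩⟩ :=
    ⟨θ.comp (D.iota.codRestrict D.P (fun h' => hL0 ⟨h', rfl⟩)), fun h' => rfl⟩
  have hker : commutator (GL (Fin (k + 2)) F) ≤ κ.ker := Abelianization.commutator_subset_ker κ
  have hmem : h ∈ commutator (GL (Fin (k + 2)) F) := by
    by_cases hu : u = 0
    · have : h = 1 := by
        apply Units.ext
        rw [hh, hu, zero_vecMulVec, add_zero]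
        rfl
      rw [this]
      exact Subgroup.one_mem _
    by_cases hψ : ψ = 0
    · have : h = 1 := by
        apply Units.ext
        rw [hh, hψ, vecMulVec_zero, add_zero]
        rfl
      rw [this]
      exact Subgroup.one_mem _
    obtain ⟨g, hg⟩ := hMC u ψ hu hψ h0
    have htv : (glMatGrp F (k + 2)).tv u ψ h0 = h := by
      apply Units.ext
      have := (glMatGrp F (k + 2)).φ_tv u ψ h0
      rw [hh]
      exact this
    rw [← htv, ← hg]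
    exact (inferInstance : (commutator (GL (Fin (k + 2)) F)).Normal).conj_mem _ hcm g
  have := hker hmem
  rw [MonoidHom.mem_ker, hκ] at this
  exact this

/-- (MH) in the skeleton's shape, with the pieces (MG), (MC), (MD) as hypotheses. -/
theorem lin_char_trivial {m : ℕ} (D : MatGrp F (m + 2) G) (hm : 1 ≤ m)
    (hq : ¬ (m = 1 ∧ Fintype.card F = 2))
    (hL0 : D.L0 ≤ D.P)
    (hPf : ∀ x : G, x ∈ D.P → (∃ y : G, y⁻¹ * D.t0 * y = x) →
      ∃ z ∈ D.Q, ∃ h : GL (Fin (m + 1)) F, x = z * D.iota h ∧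
        ∃ u ψ : Fin (m + 1) → F, ψ ⬝ᵥ u = 0 ∧
          (h : Matrix (Fin (m + 1)) (Fin (m + 1)) F) = 1 + vecMulVec u ψ)
    (hMC : ∀ (k : ℕ) (u ψ : Fin (k + 2) → F), u ≠ 0 → ψ ≠ 0 → ∀ h0 : ψ ⬝ᵥ u = 0,
      ∃ g : GL (Fin (k + 2)) F,
        g * (glMatGrp F (k + 2)).t0 * g⁻¹ = (glMatGrp F (k + 2)).tv u ψ h0)
    (hcm : ∀ k : ℕ, ¬ (k = 0 ∧ Fintype.card F = 2) →
      (glMatGrp F (k + 2)).t0 ∈ commutator (GL (Fin (k + 2)) F))
    (θ : D.P →* ℂˣ) (hθ : ∀ x : D.P, (x : G) ∈ D.Q → θ x = 1) :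
    ∀ x : D.P, (∃ y : G, y⁻¹ * D.t0 * y = (x : G)) → θ x = 1 := by
  obtain ⟨k, rfl⟩ : ∃ k, m = k + 1 := ⟨m - 1, by omega⟩
  have hq' : ¬ (k = 0 ∧ Fintype.card F = 2) := by
    rintro ⟨rfl, h2⟩
    exact hq ⟨rfl, h2⟩
  exact lin_char_trivial_succ D hL0 hPf (hMC k) (hcm k hq') θ hθ

end Cfsg.Agent.Helper69.LS
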