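import Mathlib
import Cfsg.Agent.Helper80.LS.Defs

/-!
# (MI) for S2332 (helper80 skeleton): `MatGrp.has3a`, the generation property for the Heisenberg lemma
-/

set_option autoImplicit false
set_option linter.unusedSectionVars false
set_option linter.unusedVariables false

namespace Cfsg.Agent.Helper69.LS

open Matrix Cfsg.Agent.Helper80.LS

section generic

variable {F : Type*} [Field F]

theorem vecMul_one_add_vecMulVec {ι : Type*} [Fintype ι] [DecidableEq ι] (u ψ r : ι → F) :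
    r ᵥ* (1 + vecMulVec u ψ) = r + (r ⬝ᵥ u) • ψ := by
  rw [Matrix.vecMul_add, Matrix.vecMul_one, vecMul_vecMulVec]

/-- `(1 + u ψᵀ)(1 + (-u) ψᵀ) = 1` when `ψ·u = 0` -/
theorem one_add_vecMulVec_mul_neg {ι : Type*} [Fintype ι] [DecidableEq ι] (u ψ : ι → F)
    (h : ψ ⬝ᵥ u = 0) : (1 + vecMulVec u ψ) * (1 + vecMulVec (-u) ψ) = 1 := by
  rw [one_add_vecMulVec_mul, dotProduct_neg, h, neg_zero, zero_smul, add_zero, neg_vecMulVec,
    add_neg_cancel_right]

end generic

variable {F : Type*} [Field F] {m : ℕ} {G : Type*} [Group G] (D : MatGrp F (m + 2) G)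

theorem φ_conj_Q (g x : G) (a : F) (r : Fin (m + 2) → F)
    (h1 : D.φ g *ᵥ e0 F m = a • e0 F m) (hx : D.φ x = 1 + vecMulVec (e0 F m) r) :
    D.φ (g * x * g⁻¹) = 1 + vecMulVec (e0 F m) (a • (r ᵥ* D.φ g⁻¹)) := by
  have h0 : (r ᵥ* D.φ g⁻¹) ᵥ* D.φ g = r := by
    rw [Matrix.vecMul_vecMul, D.φ_inv_mul, Matrix.vecMul_one]
  rw [map_mul, map_mul, hx, mul_one_add_vecMulVec (D.φ g) (e0 F m) r _ h0, Matrix.mul_assoc,
    D.φ_mul_inv, Matrix.mul_one, h1, smul_vecMulVec, vecMulVec_smul]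

theorem φ_conj_Qs (g y : G) (b : F) (c : Fin (m + 2) → F)
    (h3 : eL F m ᵥ* D.φ g⁻¹ = b • eL F m) (hy : D.φ y = 1 + vecMulVec c (eL F m)) :
    D.φ (g * y * g⁻¹) = 1 + vecMulVec (b • (D.φ g *ᵥ c)) (eL F m) := by
  have h0 : (eL F m ᵥ* D.φ g⁻¹) ᵥ* D.φ g = eL F m := by
    rw [Matrix.vecMul_vecMul, D.φ_inv_mul, Matrix.vecMul_one]
  rw [map_mul, map_mul, hy, mul_one_add_vecMulVec (D.φ g) c (eL F m) _ h0, Matrix.mul_assoc,
    D.φ_mul_inv, Matrix.mul_one, h3, smul_vecMulVec, vecMulVec_smul]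

theorem φ_inv_Qs (y : G) (c : Fin (m + 2) → F) (hc : c (Fin.last (m + 1)) = 0)
    (hy : D.φ y = 1 + vecMulVec c (eL F m)) : D.φ y⁻¹ = 1 + vecMulVec (-c) (eL F m) := by
  apply D.φ_inv_eq
  rw [hy]
  exact one_add_vecMulVec_mul_neg c (eL F m) (by rw [eL_dot, hc])

theorem φ_inv_Q (x : G) (r : Fin (m + 2) → F) (hr : r 0 = 0)
    (hx : D.φ x = 1 + vecMulVec (e0 F m) r) : D.φ x⁻¹ = 1 + vecMulVec (e0 F m) (-r) := by
  apply D.φ_inv_eq
  rw [hx, one_add_vecMulVec_mul, dot_e0, hr, zero_smul, add_zero, vecMulVec_neg,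
    add_neg_cancel_right]

/-- the commutator of `g` with an element of `Qs` -/
theorem φ_comm_Qs (g y : G) (b : F) (c : Fin (m + 2) → F) (hc : c (Fin.last (m + 1)) = 0)
    (h3 : eL F m ᵥ* D.φ g⁻¹ = b • eL F m) (hy : D.φ y = 1 + vecMulVec c (eL F m)) :
    D.φ (g * y * g⁻¹ * y⁻¹) = 1 + vecMulVec (b • (D.φ g *ᵥ c) - c) (eL F m) := by
  rw [map_mul, φ_conj_Qs D g y b c h3 hy, φ_inv_Qs D y c hc hy, one_add_vecMulVec_mul, eL_dot,
    Pi.neg_apply, hc, neg_zero, zero_smul, add_zero, add_assoc, ← add_vecMulVec, sub_eq_add_neg]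

/-- a criterion for membership in `S3a` -/
theorem mem_S3a_of (g : G) (a b : F)
    (h1 : D.φ g *ᵥ e0 F m = a • e0 F m)
    (h2 : ∀ r : Fin (m + 2) → F, r 0 = 0 →
      (r ᵥ* D.φ g⁻¹) 0 = 0 ∧ a * (r ᵥ* D.φ g⁻¹) 1 = r 1)
    (h3 : eL F m ᵥ* D.φ g⁻¹ = b • eL F m)
    (h4 : ∀ c : Fin (m + 2) → F, c (Fin.last (m + 1)) = 0 →
      (D.φ g *ᵥ c) (Fin.last (m + 1)) = 0) : g ∈ D.S3a := by
  refine ⟨?_, ?_, ?_⟩
  · rintro x ⟨r, hr, hx⟩
    refine ⟨a • (r ᵥ* D.φ g⁻¹), ?_, φ_conj_Q D g x a r h1 hx⟩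
    rw [Pi.smul_apply, (h2 r hr).1, smul_zero]
  · rintro y ⟨c, hc, hy⟩
    refine ⟨b • (D.φ g *ᵥ c), ?_, φ_conj_Qs D g y b c h3 hy⟩
    rw [Pi.smul_apply, h4 c hc, smul_zero]
  · rintro x ⟨r, hr, hx⟩
    refine ⟨a • (r ᵥ* D.φ g⁻¹) - r, ?_, ?_, ?_⟩
    · rw [Pi.sub_apply, Pi.smul_apply, (h2 r hr).1, smul_zero, hr, sub_zero]
    · rw [Pi.sub_apply, Pi.smul_apply, smul_eq_mul, (h2 r hr).2, sub_self]
    · rw [map_mul, φ_conj_Q D g x a r h1 hx, φ_inv_Q D x r hr hx, one_add_vecMulVec_mul, dot_e0,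
        Pi.smul_apply, (h2 r hr).1, smul_zero, zero_smul, add_zero, add_assoc, ← vecMulVec_add,
        sub_eq_add_neg]

/-- the generating set in the definition of `Has3a` -/
def gen3a : Set G :=
  (D.Z : Set G) ∪ {w | ∃ g ∈ D.S3a, ∃ y ∈ D.Qs, w = g * y * g⁻¹ * y⁻¹}

/-- the transvection route: `1 + μ E_{iL}` from `g = 1 + μ E_{ij}` and `y = 1 + E_{jL}` -/
theorem exists_mem_of_tv (i j : Fin (m + 2)) (hij : i ≠ j) (hiL : i ≠ Fin.last (m + 1))
    (hj0 : j ≠ 0) (hj1 : j ≠ 1) (hjL : j ≠ Fin.last (m + 1)) (μ : F) :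
    ∃ w ∈ Subgroup.closure (gen3a D),
      D.φ w = 1 + vecMulVec (Pi.single i μ) (eL F m) := by
  have h0 : (Pi.single j (1 : F) : Fin (m + 2) → F) ⬝ᵥ Pi.single i μ = 0 := by
    rw [single_dotProduct, one_mul, Pi.single_apply, if_neg hij.symm]
  have h0' : (Pi.single j (1 : F) : Fin (m + 2) → F) ⬝ᵥ (-Pi.single i μ) = 0 := by
    rw [dotProduct_neg, h0, neg_zero]
  have h0y : eL F m ⬝ᵥ (Pi.single j (1 : F) : Fin (m + 2) → F) = 0 := by
    rw [eL_dot, Pi.single_apply, if_neg hjL.symm]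
  obtain ⟨g, hg⟩ : ∃ g : G, D.φ g = 1 + vecMulVec (Pi.single i μ) (Pi.single j (1 : F)) :=
    ⟨D.tv _ _ h0, D.φ_tv _ _ h0⟩
  obtain ⟨y, hy⟩ : ∃ y : G, D.φ y = 1 + vecMulVec (Pi.single j (1 : F)) (eL F m) :=
    ⟨D.tv _ _ h0y, D.φ_tv _ _ h0y⟩
  have hgi : D.φ g⁻¹ = 1 + vecMulVec (-Pi.single i μ) (Pi.single j (1 : F)) := by
    apply D.φ_inv_eq
    rw [hg]
    exact one_add_vecMulVec_mul_neg _ _ h0
  have hyQs : y ∈ D.Qs :=
    ⟨Pi.single j 1, by rw [Pi.single_apply, if_neg hjL.symm], hy⟩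
  have h3 : eL F m ᵥ* D.φ g⁻¹ = (1 : F) • eL F m := by
    rw [hgi, vecMul_one_add_vecMulVec, one_smul, eL_dot, Pi.neg_apply, Pi.single_apply,
      if_neg hiL.symm, neg_zero, zero_smul, add_zero]
  have hgS : g ∈ D.S3a := by
    apply mem_S3a_of D g 1 1 _ _ h3
    · intro c hc
      rw [hg, one_add_vecMulVec_mulVec, Pi.add_apply, hc, Pi.smul_apply, Pi.single_apply,
        if_neg hiL.symm, smul_zero, add_zero]
    · rw [hg, one_add_vecMulVec_mulVec, one_smul, e0, single_dotProduct, one_mul,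
        Pi.single_apply, if_neg hj0, zero_smul, add_zero]
    · intro r hr
      rw [hgi, vecMul_one_add_vecMulVec]
      constructor
      · rw [Pi.add_apply, hr, Pi.smul_apply, Pi.single_apply, if_neg hj0.symm, smul_zero,
          add_zero]
      · rw [one_mul, Pi.add_apply, Pi.smul_apply, Pi.single_apply, if_neg hj1.symm, smul_zero,
          add_zero]
  refine ⟨g * y * g⁻¹ * y⁻¹, Subgroup.subset_closure (Or.inr ⟨g, hgS, y, hyQs, rfl⟩), ?_⟩
  rw [φ_comm_Qs D g y 1 (Pi.single j 1) (by rw [Pi.single_apply, if_neg hjL.symm]) h3 hy, hg,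
    one_add_vecMulVec_mulVec, one_smul, single_dotProduct, one_mul, Pi.single_eq_same, one_smul,
    add_sub_cancel_left]

/-- the torus route: `1 + μ E_{ML}` from a diagonal element with `d 0 = d 1`, `d M ≠ d L` -/
theorem exists_mem_of_diag (g : G) (d : Fin (m + 2) → F) (hg : D.φ g = Matrix.diagonal d)
    (h01 : d 0 = d 1) (M : Fin (m + 2)) (hML : M ≠ Fin.last (m + 1))
    (hd : d M ≠ d (Fin.last (m + 1))) (μ : F) :
    ∃ w ∈ Subgroup.closure (gen3a D),
      D.φ w = 1 + vecMulVec (Pi.single M μ) (eL F m) := by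
  have hdne : ∀ k, d k ≠ 0 := by
    have h := D.det_ne_zero g
    rw [hg, Matrix.det_diagonal] at h
    intro k
    exact (Finset.prod_ne_zero_iff.mp h) k (Finset.mem_univ k)
  have hgi : D.φ g⁻¹ = Matrix.diagonal (fun k => (d k)⁻¹) := by
    apply D.φ_inv_eq
    rw [hg, Matrix.diagonal_mul_diagonal]
    have : (fun k => d k * (d k)⁻¹) = fun _ => (1 : F) := by
      funext k
      exact mul_inv_cancel₀ (hdne k)
    rw [this, Matrix.diagonal_one]
  have h3 : eL F m ᵥ* D.φ g⁻¹ = (d (Fin.last (m + 1)))⁻¹ • eL F m := by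
    rw [hgi]
    funext k
    rw [Matrix.vecMul_diagonal, Pi.smul_apply, smul_eq_mul, eL, Pi.single_apply]
    split_ifs with hk
    · rw [hk, one_mul, mul_one]
    · rw [zero_mul, mul_zero]
  have hgS : g ∈ D.S3a := by
    apply mem_S3a_of D g (d 0) (d (Fin.last (m + 1)))⁻¹ _ _ h3
    · intro c hc
      rw [hg, Matrix.mulVec_diagonal, hc, mul_zero]
    · rw [hg]
      funext k
      rw [Matrix.mulVec_diagonal, Pi.smul_apply, smul_eq_mul, e0, Pi.single_apply]
      split_ifs with hk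
      · rw [hk]
      · rw [mul_zero, mul_zero]
    · intro r hr
      rw [hgi]
      constructor
      · rw [Matrix.vecMul_diagonal, hr, zero_mul]
      · rw [Matrix.vecMul_diagonal, h01, mul_comm (r 1), ← mul_assoc, mul_inv_cancel₀ (hdne 1),
          one_mul]
  obtain ⟨κ, hκ⟩ : ∃ κ : F, κ = (d (Fin.last (m + 1)))⁻¹ * d M - 1 := ⟨_, rfl⟩
  have hκne : κ ≠ 0 := by
    rw [hκ]
    intro h
    apply hd
    have h' : (d (Fin.last (m + 1)))⁻¹ * d M = 1 := sub_eq_zero.mp h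
    calc d M = d (Fin.last (m + 1)) * ((d (Fin.last (m + 1)))⁻¹ * d M) := by
          rw [← mul_assoc, mul_inv_cancel₀ (hdne _), one_mul]
      _ = d (Fin.last (m + 1)) := by rw [h', mul_one]
  have h0y : eL F m ⬝ᵥ (Pi.single M (κ⁻¹ * μ) : Fin (m + 2) → F) = 0 := by
    rw [eL_dot, Pi.single_apply, if_neg hML.symm]
  obtain ⟨y, hy⟩ : ∃ y : G, D.φ y = 1 + vecMulVec (Pi.single M (κ⁻¹ * μ)) (eL F m) :=
    ⟨D.tv _ _ h0y, D.φ_tv _ _ h0y⟩
  have hyQs : y ∈ D.Qs :=
    ⟨Pi.single M (κ⁻¹ * μ), by rw [Pi.single_apply, if_neg hML.symm], hy⟩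
  refine ⟨g * y * g⁻¹ * y⁻¹, Subgroup.subset_closure (Or.inr ⟨g, hgS, y, hyQs, rfl⟩), ?_⟩
  rw [φ_comm_Qs D g y _ (Pi.single M (κ⁻¹ * μ)) (by rw [Pi.single_apply, if_neg hML.symm]) h3 hy]
  congr 2
  funext k
  rw [Pi.sub_apply, Pi.smul_apply, hg, Matrix.mulVec_diagonal, smul_eq_mul, Pi.single_apply,
    Pi.single_apply]
  split_ifs with hk
  · rw [hk]
    have : (d (Fin.last (m + 1)))⁻¹ * (d M * (κ⁻¹ * μ)) - κ⁻¹ * μ = κ * (κ⁻¹ * μ) := by
      rw [hκ]; ring
    rw [this, ← mul_assoc, mul_inv_cancel₀ hκne, one_mul]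
  · rw [mul_zero, mul_zero, sub_zero]

/-- all the elementary `1 + μ E_{iL}` (`i ≠ L`) lie in the closure -/
theorem exists_mem_single (hm : 1 ≤ m)
    (h : 3 ≤ m ∨ ∃ g : G, ∃ d : Fin (m + 2) → F, D.φ g = Matrix.diagonal d ∧ d 0 = d 1 ∧
      d (Fin.last m).castSucc ≠ d (Fin.last (m + 1)))
    (i : Fin (m + 2)) (hiL : i ≠ Fin.last (m + 1)) (μ : F) :
    ∃ w ∈ Subgroup.closure (gen3a D), D.φ w = 1 + vecMulVec (Pi.single i μ) (eL F m) := by
  have hiLv : i.val ≠ m + 1 := by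
    intro hv
    apply hiL
    apply Fin.ext
    rw [hv, Fin.val_last]
  by_cases hi0 : i = 0
  · subst hi0
    have h0 : (μ • eL F m) ⬝ᵥ e0 F m = 0 := by
      rw [dot_e0, Pi.smul_apply, eL_zero, smul_zero]
    refine ⟨D.tv (e0 F m) (μ • eL F m) h0,
      Subgroup.subset_closure (Or.inl ⟨μ, D.φ_tv _ _ h0⟩), ?_⟩
    rw [D.φ_tv, vecMulVec_smul, ← smul_vecMulVec, e0, ← Pi.single_smul, smul_eq_mul, mul_one]
  · have hi0v : i.val ≠ 0 := by
      intro hv
      apply hi0
      apply Fin.ext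
      rw [hv, Fin.val_zero]
    rcases h with h3 | ⟨g, d, hg, h01, hd⟩
    · by_cases hi2 : i.val = 2
      · refine exists_mem_of_tv D i ⟨3, by omega⟩ ?_ hiL ?_ ?_ ?_ μ
        · intro hh
          rw [hh] at hi2
          simp at hi2
        · intro hh
          have := congrArg Fin.val hh
          simp at this
        · intro hh
          have := congrArg Fin.val hh
          simp at this
        · intro hh
          have := congrArg Fin.val hh
          simp at this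
          omega
      · refine exists_mem_of_tv D i ⟨2, by omega⟩ ?_ hiL ?_ ?_ ?_ μ
        · intro hh
          rw [hh] at hi2
          simp at hi2
        · intro hh
          have := congrArg Fin.val hh
          simp at this
        · intro hh
          have := congrArg Fin.val hh
          simp at this
        · intro hh
          have := congrArg Fin.val hh
          simp at this
          omega
    · have hMv : ((Fin.last m).castSucc : Fin (m + 2)).val = m := by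
        rw [Fin.val_castSucc, Fin.val_last]
      have hML : ((Fin.last m).castSucc : Fin (m + 2)) ≠ Fin.last (m + 1) := by
        intro hh
        have := congrArg Fin.val hh
        rw [hMv, Fin.val_last] at this
        omega
      by_cases hiM : i = (Fin.last m).castSucc
      · rw [hiM]
        exact exists_mem_of_diag D g d hg h01 _ hML hd μ
      · have hiMv : i.val ≠ m := by
          intro hv
          apply hiM
          apply Fin.ext
          rw [hv, hMv]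
        have hilt := i.isLt
        refine exists_mem_of_tv D i _ hiM hiL ?_ ?_ hML μ
        · intro hh
          have := congrArg Fin.val hh
          rw [hMv, Fin.val_zero] at this
          omega
        · intro hh
          have := congrArg Fin.val hh
          rw [hMv, Fin.val_one] at this
          omega

/-- **(MI)** the generation property `Has3a` -/
theorem has3a (hm : 1 ≤ m)
    (h : 3 ≤ m ∨ ∃ g : G, ∃ d : Fin (m + 2) → F, D.φ g = Matrix.diagonal d ∧ d 0 = d 1 ∧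
      d (Fin.last m).castSucc ≠ d (Fin.last (m + 1))) : D.Has3a := by
  intro y hy
  obtain ⟨c, hc, hy⟩ := hy
  change y ∈ Subgroup.closure (gen3a D)
  have key : ∀ s : Finset (Fin (m + 2)), ∃ w ∈ Subgroup.closure (gen3a D),
      D.φ w = 1 + vecMulVec (∑ i ∈ s, Pi.single i (c i)) (eL F m) := by
    intro s
    induction s using Finset.induction_on with
    | empty =>
      refine ⟨1, one_mem _, ?_⟩
      rw [map_one, Finset.sum_empty, zero_vecMulVec, add_zero]
    | insert a s ha ih =>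
      obtain ⟨w, hw, hφ⟩ := ih
      have haL0 : (Pi.single a (c a) : Fin (m + 2) → F) (Fin.last (m + 1)) = 0 := by
        by_cases haL : a = Fin.last (m + 1)
        · rw [haL, hc, Pi.single_zero]
          rfl
        · rw [Pi.single_apply, if_neg (Ne.symm haL)]
      obtain ⟨w', hw', hφ'⟩ : ∃ w' ∈ Subgroup.closure (gen3a D),
          D.φ w' = 1 + vecMulVec (Pi.single a (c a)) (eL F m) := by
        by_cases haL : a = Fin.last (m + 1)
        · refine ⟨1, one_mem _, ?_⟩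
          rw [haL, hc, Pi.single_zero, zero_vecMulVec, add_zero, map_one]
        · exact exists_mem_single D hm h a haL (c a)
      refine ⟨w' * w, mul_mem hw' hw, ?_⟩
      have hsL : (∑ i ∈ s, Pi.single i (c i) : Fin (m + 2) → F) (Fin.last (m + 1)) = 0 := by
        rw [Finset.sum_apply]
        apply Finset.sum_eq_zero
        intro i _
        by_cases hiL : i = Fin.last (m + 1)
        · rw [hiL, hc, Pi.single_zero]
          rfl
        · rw [Pi.single_apply, if_neg (Ne.symm hiL)]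
      rw [map_mul, hφ', hφ, one_add_vecMulVec_mul, eL_dot, hsL, zero_smul, add_zero,
        Finset.sum_insert ha, add_vecMulVec, add_assoc]
  obtain ⟨w, hw, hφ⟩ := key Finset.univ
  rw [Finset.univ_sum_single c, ← hy] at hφ
  rw [← D.inj hφ]
  exact hw

end Cfsg.Agent.Helper69.LS
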