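import Mathlib
import Cfsg.Agent.Helper2.NormIdeal

set_option autoImplicit false

namespace Cfsg.Agent.Helper69.NF

open Cfsg.Agent.Helper2.NormIdeal MonoidAlgebra

section
variable {G : Type*} [Group G] (K : Type*) [Field K]

/-- the quotient module `K[G] ⧸ normSpan` -/
abbrev QM : Type _ := MonoidAlgebra K G ⧸ (normSpan K (X := G))

/-- left multiplication by a group element on the quotient -/
noncomputable def lact (g : G) : QM (G := G) K →ₗ[K] QM (G := G) K :=
  Submodule.mapQ _ _ (LinearMap.mulLeft K (MonoidAlgebra.of K G g))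
    (fun y hy => by
      rw [Submodule.mem_comap, LinearMap.mulLeft_apply]
      exact of_mul_mem g hy)

theorem lact_mk (g : G) (a : MonoidAlgebra K G) :
    lact K g (Submodule.Quotient.mk a) = Submodule.Quotient.mk (MonoidAlgebra.of K G g * a) := rfl

theorem lact_one : lact K (1 : G) = LinearMap.id := by
  apply Submodule.linearMap_qext
  ext a
  simp [lact_mk]

theorem lact_mul (g h : G) : lact K (g * h) = lact K g ∘ₗ lact K h := by
  apply Submodule.linearMap_qext
  ext a
  simp [lact_mk, mul_assoc]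

/-- the representation of `G` on the quotient -/
noncomputable def lrep : G →* Module.End K (QM (G := G) K) where
  toFun := lact K
  map_one' := lact_one K
  map_mul' g h := lact_mul K g h

theorem lrep_apply (g : G) (m : QM (G := G) K) : lrep K g m = lact K g m := rfl

theorem lact_pow (g : G) (n : ℕ) (m : QM (G := G) K) (h : lact K g m = m) : lact K (g ^ n) m = m := by
  induction n with
  | zero => rw [pow_zero, lact_one]; rfl
  | succ k ih => rw [pow_succ, lact_mul, LinearMap.comp_apply, h, ih]

/-- every nonidentity element acts without nonzero fixed vectors on the quotient -/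
theorem lact_fpf [Finite G] [CharZero K] (g : G) (hg : g ≠ 1) (m : QM (G := G) K)
    (h : lact K g m = m) : m = 0 := by
  have ho0 : orderOf g ≠ 0 := (orderOf_pos g).ne'
  have ho1 : orderOf g ≠ 1 := fun h1 => hg (orderOf_eq_one_iff.mp h1)
  obtain ⟨r, hr, hrd⟩ := Nat.exists_prime_and_dvd ho1
  obtain ⟨c, hc⟩ : ∃ c : G, c = g ^ (orderOf g / r) := ⟨_, rfl⟩
  have hco : orderOf c = r := by rw [hc]; exact orderOf_pow_orderOf_div ho0 hrd
  have hcm : ∀ i : ℕ, lact K (c ^ i) m = m := by
    intro i
    rw [hc, ← pow_mul]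
    exact lact_pow K g _ m h
  obtain ⟨a, rfl⟩ := Submodule.Quotient.mk_surjective _ m
  have h1 : (Submodule.Quotient.mk (normElt K c * a) : QM (G := G) K) = 0 := by
    rw [Submodule.Quotient.mk_eq_zero]
    exact normElt_mul_mem c (by rw [hco]; exact hr) a
  have h2 : (Submodule.Quotient.mk (normElt K c * a) : QM (G := G) K)
      = ∑ i ∈ Finset.range r, lact K (c ^ i) (Submodule.Quotient.mk a) := by
    unfold normElt
    rw [hco, Finset.sum_mul]
    simp only [lact_mk]
    exact map_sum (Submodule.mkQ (normSpan K (X := G))) _ _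
  rw [h2, Finset.sum_congr rfl (fun i _ => hcm i), Finset.sum_const, Finset.card_range] at h1
  have hr0 : (r : K) ≠ 0 := Nat.cast_ne_zero.mpr hr.ne_zero
  rw [← Nat.cast_smul_eq_nsmul K] at h1
  exact (smul_eq_zero.mp h1).resolve_left hr0

end

section toMat

variable {G : Type*} [Group G] {K : Type*} [Field K] {M : Type*} [AddCommGroup M] [Module K M]
  [FiniteDimensional K M]

/-- A fixed-point-free representation on a nonzero finite-dimensional space contains an
irreducible one, which can be written with matrices. -/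
theorem exists_matrix_rep_of_fpf [Nontrivial M] (L : G →* Module.End K M)
    (hfpf : ∀ g : G, g ≠ 1 → ∀ m : M, L g m = m → m = 0) :
    ∃ (n : ℕ) (ρ : G →* GL (Fin n) K), 0 < n ∧ Function.Injective ρ ∧
      (∀ W : Submodule K (Fin n → K),
        (∀ g : G, ∀ w ∈ W, ((ρ g : GL (Fin n) K) : Matrix (Fin n) (Fin n) K).mulVec w ∈ W) →
          W = ⊥ ∨ W = ⊤) ∧
      ∀ g : G, g ≠ 1 → ∀ v : Fin n → K,
        ((ρ g : GL (Fin n) K) : Matrix (Fin n) (Fin n) K).mulVec v = v → v = 0 := by
  classical
  -- a minimal nonzero invariant subspace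
  let S : Set (Submodule K M) := {W | W ≠ ⊥ ∧ ∀ g : G, ∀ w ∈ W, L g w ∈ W}
  have hS : S.Nonempty := ⟨⊤, top_ne_bot, fun _ _ _ => Submodule.mem_top⟩
  obtain ⟨W, hWS, hWmin⟩ := (wellFounded_lt (α := Submodule K M)).has_min S hS
  obtain ⟨hW0, hWinv⟩ := hWS
  -- the restricted representation
  let Lw : G →* Module.End K W :=
    { toFun := fun g => (L g).restrict (hWinv g)
      map_one' := by
        ext w
        simp [LinearMap.restrict_apply]
      map_mul' := fun g h => by
        ext w
        simp [LinearMap.restrict_apply, map_mul] }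
  have hLw : ∀ (g : G) (w : W), ((Lw g w : W) : M) = L g (w : M) := fun g w => rfl
  obtain ⟨n, hn⟩ : ∃ n : ℕ, n = Module.finrank K W := ⟨_, rfl⟩
  have hnpos : 0 < n := by
    rw [hn]
    exact Module.finrank_pos_iff.mpr (Submodule.nontrivial_iff_ne_bot.mpr hW0)
  let b : Module.Basis (Fin n) K W := (Module.finBasis K W).reindex (finCongr hn.symm)
  let φ : Module.End K W →* Matrix (Fin n) (Fin n) K :=
    { toFun := LinearMap.toMatrixAlgEquiv b
      map_one' := map_one _
      map_mul' := map_mul _ }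
  let ρ : G →* GL (Fin n) K := (Units.map φ).comp Lw.toHomUnits
  have hρ : ∀ g : G, ((ρ g : GL (Fin n) K) : Matrix (Fin n) (Fin n) K) = LinearMap.toMatrix b b (Lw g) :=
    fun g => rfl
  -- the key identity
  have hkey : ∀ (g : G) (v : Fin n → K),
      ((ρ g : GL (Fin n) K) : Matrix (Fin n) (Fin n) K).mulVec v
        = b.equivFun (Lw g (b.equivFun.symm v)) := by
    intro g v
    rw [hρ]
    have := LinearMap.toMatrix_mulVec_repr b b (Lw g) (b.equivFun.symm v)
    rw [← Module.Basis.equivFun_apply, ← Module.Basis.equivFun_apply, LinearEquiv.apply_symm_apply] at this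
    exact this
  have hfpf' : ∀ g : G, g ≠ 1 → ∀ v : Fin n → K,
      ((ρ g : GL (Fin n) K) : Matrix (Fin n) (Fin n) K).mulVec v = v → v = 0 := by
    intro g hg v hv
    rw [hkey] at hv
    have h1 : Lw g (b.equivFun.symm v) = b.equivFun.symm v := by
      apply b.equivFun.injective
      rw [hv, LinearEquiv.apply_symm_apply]
    have h2 : L g ((b.equivFun.symm v : W) : M) = ((b.equivFun.symm v : W) : M) := by
      rw [← hLw, h1]
    have h3 := hfpf g hg _ h2
    have h4 : b.equivFun.symm v = 0 := Subtype.ext h3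
    have h5 := congrArg b.equivFun h4
    rwa [LinearEquiv.apply_symm_apply, map_zero] at h5
  refine ⟨n, ρ, hnpos, ?_, ?_, hfpf'⟩
  · -- injective
    rw [injective_iff_map_eq_one]
    intro g hg
    by_contra hg1
    haveI : Nonempty (Fin n) := ⟨⟨0, hnpos⟩⟩
    have h1 := hfpf' g hg1 (fun _ => 1) (by rw [hg]; simp)
    have := congrFun h1 ⟨0, hnpos⟩
    simp at this
  · -- irreducible
    intro W' hW'
    let W'' : Submodule K M := (W'.map b.equivFun.symm.toLinearMap).map W.subtype
    have hW''le : W'' ≤ W := by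
      rintro _ ⟨w, -, rfl⟩
      exact w.2
    have hW''inv : ∀ g : G, ∀ w ∈ W'', L g w ∈ W'' := by
      rintro g _ ⟨_, ⟨v, hv, rfl⟩, rfl⟩
      refine ⟨Lw g (b.equivFun.symm v), ⟨_, hW' g v hv, ?_⟩, rfl⟩
      rw [hkey]
      exact b.equivFun.symm_apply_apply _
    by_cases h0 : W'' = ⊥
    · left
      rw [eq_bot_iff]
      intro v hv
      have h1 : ((b.equivFun.symm v : W) : M) ∈ W'' := ⟨_, ⟨v, hv, rfl⟩, rfl⟩
      rw [h0, Submodule.mem_bot] at h1
      have h4 : b.equivFun.symm v = 0 := Subtype.ext h1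
      have h5 := congrArg b.equivFun h4
      rw [LinearEquiv.apply_symm_apply, map_zero] at h5
      rw [Submodule.mem_bot]
      exact h5
    · right
      have h1 : ¬ W'' < W := hWmin W'' ⟨h0, hW''inv⟩
      have h2 : W'' = W := by
        by_contra hne
        exact h1 (lt_of_le_of_ne hW''le hne)
      rw [eq_top_iff]
      intro v _
      have h3 : ((b.equivFun.symm v : W) : M) ∈ W'' := by rw [h2]; exact (b.equivFun.symm v).2
      obtain ⟨w, ⟨v', hv', rfl⟩, hw⟩ := h3
      have h4 : b.equivFun.symm v' = b.equivFun.symm v := Subtype.ext hw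
      have h5 := b.equivFun.symm.injective h4
      rwa [← h5]

end toMat

theorem exists_rep_of_NF {G : Type*} [Group G] [Finite G] (K : Type*) [Field K] [CharZero K]
    (h : NF K G) :
    ∃ (n : ℕ) (ρ : G →* GL (Fin n) K), 0 < n ∧ Function.Injective ρ ∧
      (∀ W : Submodule K (Fin n → K),
        (∀ g : G, ∀ w ∈ W, ((ρ g : GL (Fin n) K) : Matrix (Fin n) (Fin n) K).mulVec w ∈ W) →
          W = ⊥ ∨ W = ⊤) ∧
      ∀ g : G, g ≠ 1 → ∀ v : Fin n → K,
        ((ρ g : GL (Fin n) K) : Matrix (Fin n) (Fin n) K).mulVec v = v → v = 0 := by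
  haveI : Nontrivial (QM (G := G) K) := by
    refine ⟨⟨Submodule.Quotient.mk 1, 0, ?_⟩⟩
    rw [Ne, Submodule.Quotient.mk_eq_zero]
    exact h
  exact exists_matrix_rep_of_fpf (lrep K) (fun g hg m hm => lact_fpf K g hg m hm)

end Cfsg.Agent.Helper69.NF
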