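import Mathlib
import Cfsg.Agent.Helper80.NSStruct

/-!
# Uniqueness of the subgroup `H = O^p(H₂) T` (piece of S5121, AKO II.7.5)

Requested by helper85 (board #3547).
-/

set_option autoImplicit false

namespace Cfsg.Agent.Helper69.NSUnique

theorem pResidualOf_mono {G : Type*} [Group G] (p : ℕ) {E F : Subgroup G} (h : E ≤ F) :
    Cfsg.pResidualOf p E ≤ Cfsg.pResidualOf p F := by
  rw [Cfsg.Agent.Helper80.NSStruct.pResidualOf_eq_closure,
    Cfsg.Agent.Helper80.NSStruct.pResidualOf_eq_closure]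
  exact Subgroup.closure_mono (fun g hg => ⟨h hg.1, hg.2⟩)

theorem unique_H {G : Type*} [Group G] [Finite G] (p : ℕ) [Fact p.Prime] (S : Sylow p G)
    (hG : Subgroup.centralizer ((Cfsg.pCore p G : Subgroup G) : Set G) ≤ Cfsg.pCore p G)
    (T : Subgroup G) (hTS : T ≤ S)
    (hsc : ∀ t ∈ T, ∀ g : G, g * t * g⁻¹ ∈ (S : Subgroup G) → g * t * g⁻¹ ∈ T)
    (H₂ : Subgroup G)
    (hH₂K : ∀ g ∈ H₂, ∀ x ∈ Cfsg.pCore p G, g * x * g⁻¹ * x⁻¹ ∈ T ⊓ Cfsg.pCore p G)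
    (H' : Subgroup G) (hH'n : H'.Normal) (hTH' : T ≤ H')
    (hH'syl : ∃ R : Sylow p ↥H', (R : Subgroup ↥H') = T.subgroupOf H')
    (h1 : H' ≤ H₂)
    (h2 : ∀ g ∈ H₂, ∃ h ∈ H', ∀ r ∈ T ⊓ Cfsg.pCore p G, g * r * g⁻¹ = h * r * h⁻¹) :
    H' = Cfsg.pResidualOf p H₂ ⊔ T := by
  classical
  have hp : p.Prime := Fact.out
  obtain ⟨Q, hQdef⟩ : ∃ Q : Subgroup G, Q = Cfsg.pCore p G := ⟨_, rfl⟩
  have hQchar : (Cfsg.pCore p G).Characteristic := Cfsg.Agent.Lib.pCore_characteristic p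
  have hQn : (Cfsg.pCore p G).Normal := Subgroup.normal_of_characteristic _
  have hQS : Cfsg.pCore p G ≤ S := Cfsg.Agent.Lib.pCore_le_sylow S
  have hQp : IsPGroup p (Cfsg.pCore p G) := Cfsg.Agent.Lib.isPGroup_pCore p
  have hR₀n : (T ⊓ Cfsg.pCore p G).Normal := by
    refine ⟨fun r hr g => ?_⟩
    have hq : g * r * g⁻¹ ∈ Cfsg.pCore p G := hQn.conj_mem r hr.2 g
    exact ⟨hsc r hr.1 g (hQS hq), hq⟩
  -- (a) `O^p(H₂) ≤ H'`
  have hN : Cfsg.pResidualOf p H₂ ≤ H' := by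
    rw [Cfsg.Agent.Helper80.NSStruct.pResidualOf_eq_closure, Subgroup.closure_le]
    rintro g ⟨hgH₂, hgp⟩
    show g ∈ H'
    obtain ⟨h, hhH', hh⟩ := h2 g hgH₂
    have hdH₂ : h⁻¹ * g ∈ H₂ := H₂.mul_mem (H₂.inv_mem (h1 hhH')) hgH₂
    have hdc : ∀ r ∈ T ⊓ Cfsg.pCore p G, (h⁻¹ * g) * r = r * (h⁻¹ * g) := by
      intro r hr
      have e1 := hh r hr
      calc (h⁻¹ * g) * r = h⁻¹ * (g * r * g⁻¹) * g := by group
        _ = h⁻¹ * (h * r * h⁻¹) * g := by rw [e1]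
        _ = r * (h⁻¹ * g) := by group
    have hdQ : h⁻¹ * g ∈ Cfsg.pCore p G :=
      Cfsg.Agent.Helper80.NSExt.mem_pCore_of_stab p hG (T ⊓ Cfsg.pCore p G) hR₀n inf_le_right
        (h⁻¹ * g) hdc (hH₂K _ hdH₂)
    -- the image of `g` in `G ⧸ H'`
    haveI := hH'n
    have himg : (QuotientGroup.mk' H') g = (QuotientGroup.mk' H') (h⁻¹ * g) := by
      rw [map_mul, map_inv]
      have : (QuotientGroup.mk' H') h = 1 := by
        rw [← MonoidHom.mem_ker, QuotientGroup.ker_mk']; exact hhH'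
      rw [this]; simp
    obtain ⟨k, hk⟩ := (IsPGroup.iff_orderOf.mp hQp) ⟨h⁻¹ * g, hdQ⟩
    have hk' : orderOf (h⁻¹ * g) = p ^ k := by rw [← hk, Subgroup.orderOf_mk]
    have hd1 : orderOf ((QuotientGroup.mk' H') g) ∣ p ^ k := by
      rw [himg, ← hk']; exact orderOf_map_dvd _ _
    have hd2 : orderOf ((QuotientGroup.mk' H') g) ∣ orderOf g := orderOf_map_dvd _ _
    have hcop : (orderOf ((QuotientGroup.mk' H') g)).Coprime (p ^ k) :=
      Nat.Coprime.pow_right k (Nat.Coprime.coprime_dvd_left hd2 hgp)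
    have hone : orderOf ((QuotientGroup.mk' H') g) = 1 := Nat.Coprime.eq_one_of_dvd hcop hd1
    rw [orderOf_eq_one_iff, ← MonoidHom.mem_ker, QuotientGroup.ker_mk'] at hone
    exact hone
  -- (c) `H' ≤ O^p(H₂) T`
  have hidx : ¬ p ∣ T.relIndex H' := by
    obtain ⟨R, hR⟩ := hH'syl
    have := R.not_dvd_index
    rw [hR] at this
    exact this
  have hsup : Cfsg.pResidualOf p H' ⊔ T = H' :=
    Cfsg.Agent.Helper80.NSStruct.pResidualOf_sup_eq p H' T hTH' hidx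
  apply le_antisymm
  · calc H' = Cfsg.pResidualOf p H' ⊔ T := hsup.symm
      _ ≤ Cfsg.pResidualOf p H₂ ⊔ T := sup_le_sup_right (pResidualOf_mono p h1) T
  · exact sup_le hN hTH'

end Cfsg.Agent.Helper69.NSUnique
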