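-- helper69: Burnside transfer applied to a semiregular automorphism group (towards S4135).
import Mathlib
import Cfsg.Agent.Helper69.Nsy3
import Cfsg.Agent.Helper69.Ito5

set_option autoImplicit false
set_option linter.unusedVariables false

namespace Cfsg.Agent.Helper69.Nsy

variable {Γ D : Type*} [Group Γ] [Finite Γ] [CommGroup D] [Finite D]

/-- An `s`-element normalizing a Sylow `s`-subgroup lies in it. -/
theorem mem_sylow_of_mem_normalizer {s : ℕ} [hs : Fact s.Prime] (P : Sylow s Γ) {z : Γ}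
    (hzN : z ∈ Subgroup.normalizer ((P : Subgroup Γ) : Set Γ)) (hz : ∃ k : ℕ, z ^ (s ^ k) = 1) :
    z ∈ P := by
  obtain ⟨k, hk⟩ := hz
  have hle : (P : Subgroup Γ) ≤ Subgroup.normalizer ((P : Subgroup Γ) : Set Γ) :=
    Subgroup.le_normalizer
  haveI : (P.subtype hle).Normal := Subgroup.normal_in_normalizer
  have h1 : (⟨z, hzN⟩ : Subgroup.normalizer ((P : Subgroup Γ) : Set Γ)) ∈ P.subtype hle := by
    apply Cfsg.Agent.Helper69.mem_sylow_of_normal
    exact ⟨k, Subtype.ext (by simpa using hk)⟩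
  exact h1

/-- `N(P) ≤ C(P)` for an abelian Sylow `s`-subgroup of a semiregular automorphism group. -/
theorem normalizer_le_centralizer (φ : Γ →* MulAut D) (Z : Subgroup D)
    (hfix : ∀ e : Γ, ∀ z ∈ Z, φ e z = z)
    (hfree : ∀ e : Γ, e ≠ 1 → ∀ d, φ e d = d → d ∈ Z)
    {r s : ℕ} [hr : Fact r.Prime] [hs : Fact s.Prime] (hrs : r ≠ s)
    (a : D) (ha : a ∉ Z) (har : ∃ k : ℕ, a ^ (r ^ k) = 1)
    (y : D) (hy : y ∉ Z) (hys : ∃ k : ℕ, y ^ (s ^ k) = 1)
    (P : Sylow s Γ) (hPab : ∀ u ∈ P, ∀ v ∈ P, u * v = v * u) (hPne : (P : Subgroup Γ) ≠ ⊥) :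
    Subgroup.normalizer ((P : Subgroup Γ) : Set Γ) ≤ Subgroup.centralizer (P : Set Γ) := by
  intro n hn
  obtain ⟨yy, z, hyy, hz, hnyz, hyyo, hzs⟩ :=
    Cfsg.Agent.Helper67.exists_pprime_ppart s (isOfFinOrder_of_finite n)
  have hzpN : Subgroup.zpowers n ≤ Subgroup.normalizer ((P : Subgroup Γ) : Set Γ) :=
    Subgroup.zpowers_le.mpr hn
  have hzP : z ∈ P := mem_sylow_of_mem_normalizer P (hzpN hz) hzs
  have hzC : z ∈ Subgroup.centralizer (P : Set Γ) := by
    rw [Subgroup.mem_centralizer_iff]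
    intro h hh
    exact hPab h hh z hzP
  have hyyC : yy ∈ Subgroup.centralizer (P : Set Γ) := by
    by_contra hyyC
    obtain ⟨X, hX⟩ : ∃ X : Subgroup Γ, X = Subgroup.zpowers yy ⊓ Subgroup.centralizer (P : Set Γ) :=
      ⟨_, rfl⟩
    have hXcard : (Nat.card X).Coprime s := by
      have h1 : Nat.card X ∣ orderOf yy := by
        rw [← Nat.card_zpowers, hX]
        exact Subgroup.card_dvd_of_le inf_le_left
      exact Nat.Coprime.coprime_dvd_left h1 hyyo
    have hXbot : X = ⊥ := by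
      refine no_normalized_compl φ Z hfix hfree y hy hys (P : Subgroup Γ) X P.2 hPne hXcard ?_
      intro p hp x hx
      have hxC : x ∈ Subgroup.centralizer (P : Set Γ) := by rw [hX] at hx; exact hx.2
      have h1 := Subgroup.mem_centralizer_iff.mp hxC p hp
      rw [h1, mul_inv_cancel_right]
      exact hx
    have hyy1 : yy ≠ 1 := fun h => hyyC (h ▸ Subgroup.one_mem _)
    have ho1 : orderOf yy ≠ 1 := fun h => hyy1 (orderOf_eq_one_iff.mp h)
    obtain ⟨t, htp, htd⟩ := Nat.exists_prime_and_dvd ho1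
    haveI : Fact t.Prime := ⟨htp⟩
    have hts : t ≠ s := by
      intro h
      rw [h] at htd
      exact (Nat.Prime.coprime_iff_not_dvd hs.out).mp hyyo.symm htd
    obtain ⟨b, hb⟩ : ∃ b : Γ, b = yy ^ (orderOf yy / t) := ⟨_, rfl⟩
    have hbo : orderOf b = t := by
      rw [hb]
      exact orderOf_pow_orderOf_div (orderOf_pos yy).ne' htd
    have hbz : b ∈ Subgroup.zpowers yy := by rw [hb]; exact Subgroup.pow_mem _ (Subgroup.mem_zpowers _) _
    have hbN : b ∈ Subgroup.normalizer ((P : Subgroup Γ) : Set Γ) :=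
      hzpN ((Subgroup.zpowers_le.mpr hyy) hbz)
    have hbC := prime_order_centralizes φ Z hfix hfree hrs hts a ha har (P : Subgroup Γ) P.2 hPab b
      hbo hbN
    have hbX : b ∈ X := by rw [hX]; exact ⟨hbz, hbC⟩
    rw [hXbot, Subgroup.mem_bot] at hbX
    rw [hbX, orderOf_one] at hbo
    exact htp.one_lt.ne hbo
  rw [hnyz]
  exact Subgroup.mul_mem _ hyyC hzC

/-- The abstract contradiction: a group `Γ` acting faithfully on a commutative group `D`, fixing `Z`
pointwise and semiregularly outside `Z`, where `D ∖ Z` has an `r`-element and an `s`-element, cannot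
have a nontrivial abelian Sylow `s`-subgroup together with a nontrivial `r`-element. -/
theorem semiregular_false (φ : Γ →* MulAut D) (Z : Subgroup D)
    (hfix : ∀ e : Γ, ∀ z ∈ Z, φ e z = z)
    (hfree : ∀ e : Γ, e ≠ 1 → ∀ d, φ e d = d → d ∈ Z)
    {r s : ℕ} [hr : Fact r.Prime] [hs : Fact s.Prime] (hrs : r ≠ s)
    (a : D) (ha : a ∉ Z) (har : ∃ k : ℕ, a ^ (r ^ k) = 1)
    (y : D) (hy : y ∉ Z) (hys : ∃ k : ℕ, y ^ (s ^ k) = 1)
    (P : Sylow s Γ) (hPab : ∀ u ∈ P, ∀ v ∈ P, u * v = v * u) (hPne : (P : Subgroup Γ) ≠ ⊥)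
    (g : Γ) (hg : g ≠ 1) (hgr : ∃ k : ℕ, g ^ (r ^ k) = 1) : False := by
  have hP := normalizer_le_centralizer φ Z hfix hfree hrs a ha har y hy hys P hPab hPne
  have hcompl := MonoidHom.ker_transferSylow_isComplement' P hP
  have hndvd := MonoidHom.not_dvd_card_ker_transferSylow P hP
  have hQbot : (MonoidHom.transferSylow P hP).ker = ⊥ := by
    refine no_normalized_compl φ Z hfix hfree y hy hys (P : Subgroup Γ) _ P.2 hPne
      ((Nat.Prime.coprime_iff_not_dvd hs.out).mpr hndvd).symm ?_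
    intro p hp x hx
    exact (inferInstance : ((MonoidHom.transferSylow P hP).ker).Normal).conj_mem x hx p
  rw [hQbot, Subgroup.isComplement'_bot_left] at hcompl
  have hgP : g ∈ (P : Subgroup Γ) := by rw [hcompl]; exact Subgroup.mem_top g
  obtain ⟨k, hk⟩ := hgr
  obtain ⟨j, hj⟩ := P.2 ⟨g, hgP⟩
  have hj' : g ^ (s ^ j) = 1 := by
    have := congrArg Subtype.val hj
    simpa using this
  exact hg (eq_one_of_pow_eq_one_of_coprime hk hj'
    (Nat.Coprime.pow _ _ ((Nat.coprime_primes hr.out hs.out).mpr hrs)))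

end Cfsg.Agent.Helper69.Nsy
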