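-- helper69: the semiregular automorphism group lemma inside a finite group (towards S4135).
import Mathlib
import Cfsg.Agent.Helper69.Nsy4

set_option autoImplicit false
set_option linter.unusedVariables false

namespace Cfsg.Agent.Helper69.Nsy

open Subgroup

open scoped IsMulCommutative in
/-- Inside a finite group `G`: an abelian subgroup `D` such that every element centralizing a
noncentral element of `D` centralizes `D`, having noncentral `r`- and `s`-elements, cannot be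
normalized by a Sylow `s`-subgroup of `G` acting nontrivially with abelian image together with an
`r`-element acting nontrivially. -/
theorem semiregular_false_in {G : Type*} [Group G] [Finite G] (D : Subgroup G)
    (hDab : ∀ u ∈ D, ∀ v ∈ D, u * v = v * u)
    {r s : ℕ} [hr : Fact r.Prime] [hs : Fact s.Prime] (hrs : r ≠ s)
    (hfree : ∀ γ : G, ∀ d ∈ D, d ∉ center G → γ * d = d * γ → ∀ d' ∈ D, γ * d' = d' * γ)
    (a : G) (haD : a ∈ D) (ha : a ∉ center G) (har : ∃ k : ℕ, a ^ (r ^ k) = 1)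
    (y : G) (hyD : y ∈ D) (hy : y ∉ center G) (hys : ∃ k : ℕ, y ^ (s ^ k) = 1)
    (S : Sylow s G) (hSN : (S : Subgroup G) ≤ normalizer (D : Set G))
    (hSnc : ∃ u ∈ S, ∃ d ∈ D, u * d ≠ d * u)
    (hSab : ∀ u ∈ S, ∀ v ∈ S, ∀ d ∈ D, (u * v) * d * (u * v)⁻¹ = (v * u) * d * (v * u)⁻¹)
    (g : G) (hgN : g ∈ normalizer (D : Set G)) (hgr : ∃ k : ℕ, g ^ (r ^ k) = 1)
    (hg : ∃ d ∈ D, g * d ≠ d * g) : False := by
  classical
  haveI : IsMulCommutative D := ⟨⟨fun u v => Subtype.ext (hDab u u.2 v v.2)⟩⟩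
  obtain ⟨φ₀, hφ₀⟩ : ∃ φ₀ : normalizer (D : Set G) →* MulAut D, φ₀ = D.normalizerMonoidHom :=
    ⟨_, rfl⟩
  have hφ₀app : ∀ (γ : normalizer (D : Set G)) (d : D), ((φ₀ γ d : D) : G) = γ * d * (γ : G)⁻¹ := by
    intro γ d; rw [hφ₀]; rfl
  have hφ₀one : ∀ γ : normalizer (D : Set G), (∀ d ∈ D, (γ : G) * d = d * γ) → φ₀ γ = 1 := by
    intro γ h
    apply MulEquiv.ext
    intro d
    apply Subtype.ext
    rw [hφ₀app, h d d.2, mul_inv_cancel_right]
    rfl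
  have hφ₀ne : ∀ γ : normalizer (D : Set G), (∃ d ∈ D, (γ : G) * d ≠ d * γ) → φ₀ γ ≠ 1 := by
    rintro γ ⟨d, hd, hne⟩ h1
    apply hne
    have h2 : ((φ₀ γ ⟨d, hd⟩ : D) : G) = d := by rw [h1]; rfl
    rw [hφ₀app] at h2
    calc (γ : G) * d = (γ * d * (γ : G)⁻¹) * γ := by group
      _ = d * γ := by rw [h2]
  obtain ⟨Z, hZ⟩ : ∃ Z : Subgroup D, Z = (center G).subgroupOf D := ⟨_, rfl⟩
  have hZmem : ∀ d : D, d ∈ Z ↔ (d : G) ∈ center G := by
    intro d; rw [hZ]; exact mem_subgroupOf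
  have hfix : ∀ e : φ₀.range, ∀ z ∈ Z, (φ₀.range.subtype e) z = z := by
    rintro ⟨e, γ, rfl⟩ z hz
    apply Subtype.ext
    show ((φ₀ γ z : D) : G) = z
    rw [hφ₀app, Subgroup.mem_center_iff.mp ((hZmem z).mp hz) γ, mul_inv_cancel_right]
  have hfree' : ∀ e : φ₀.range, e ≠ 1 → ∀ d, (φ₀.range.subtype e) d = d → d ∈ Z := by
    rintro ⟨e, γ, rfl⟩ hne d hd
    by_contra hdZ
    rw [hZmem] at hdZ
    apply hne
    apply Subtype.ext
    show φ₀ γ = 1
    apply hφ₀one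
    apply hfree γ d d.2 hdZ
    have h2 : ((φ₀ γ d : D) : G) = d := congrArg Subtype.val hd
    rw [hφ₀app] at h2
    calc (γ : G) * d = (γ * d * (γ : G)⁻¹) * γ := by group
      _ = d * γ := by rw [h2]
  have hsurj := φ₀.rangeRestrict_surjective
  obtain ⟨P, hP⟩ : ∃ P : Sylow s φ₀.range, P = (S.subtype hSN).mapSurjective hsurj := ⟨_, rfl⟩
  have hPmem : ∀ e ∈ P, ∃ u : normalizer (D : Set G), (u : G) ∈ S ∧ φ₀.rangeRestrict u = e := by
    intro e he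
    have he' : e ∈ (((S.subtype hSN).mapSurjective hsurj : Sylow s φ₀.range) :
        Subgroup φ₀.range) := by rw [hP] at he; exact he
    rw [Sylow.coe_mapSurjective] at he'
    obtain ⟨u, hu, rfl⟩ := he'
    exact ⟨u, hu, rfl⟩
  have hmemP : ∀ u : normalizer (D : Set G), (u : G) ∈ S → φ₀.rangeRestrict u ∈ P := by
    intro u hu
    have he' : φ₀.rangeRestrict u ∈ (((S.subtype hSN).mapSurjective hsurj : Sylow s φ₀.range) :
        Subgroup φ₀.range) := by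
      rw [Sylow.coe_mapSurjective]
      exact ⟨u, hu, rfl⟩
    rw [hP]; exact he'
  have hPab : ∀ u ∈ P, ∀ v ∈ P, u * v = v * u := by
    intro u hu v hv
    obtain ⟨u₀, hu₀, rfl⟩ := hPmem u hu
    obtain ⟨v₀, hv₀, rfl⟩ := hPmem v hv
    rw [← map_mul, ← map_mul]
    apply Subtype.ext
    show φ₀ (u₀ * v₀) = φ₀ (v₀ * u₀)
    apply MulEquiv.ext
    intro d
    apply Subtype.ext
    rw [hφ₀app, hφ₀app]
    exact hSab u₀ hu₀ v₀ hv₀ d d.2
  have hPne : (P : Subgroup φ₀.range) ≠ ⊥ := by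
    obtain ⟨u, hu, d, hd, hne⟩ := hSnc
    intro hbot
    have h1 : φ₀.rangeRestrict ⟨u, hSN hu⟩ ∈ (P : Subgroup φ₀.range) := hmemP ⟨u, hSN hu⟩ hu
    rw [hbot, Subgroup.mem_bot] at h1
    apply hφ₀ne ⟨u, hSN hu⟩ ⟨d, hd, hne⟩
    exact congrArg Subtype.val h1
  obtain ⟨g', hg'⟩ : ∃ g' : φ₀.range, g' = φ₀.rangeRestrict ⟨g, hgN⟩ := ⟨_, rfl⟩
  have hg'1 : g' ≠ 1 := by
    intro h1
    rw [hg'] at h1
    exact hφ₀ne ⟨g, hgN⟩ hg (congrArg Subtype.val h1)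
  have hg'r : ∃ k : ℕ, g' ^ (r ^ k) = 1 := by
    obtain ⟨k, hk⟩ := hgr
    refine ⟨k, ?_⟩
    rw [hg', ← map_pow]
    have : (⟨g, hgN⟩ : normalizer (D : Set G)) ^ (r ^ k) = 1 := Subtype.ext (by simpa using hk)
    rw [this, map_one]
  have ha' : (⟨a, haD⟩ : D) ∉ Z := by rw [hZmem]; exact ha
  have hy' : (⟨y, hyD⟩ : D) ∉ Z := by rw [hZmem]; exact hy
  have har' : ∃ k : ℕ, (⟨a, haD⟩ : D) ^ (r ^ k) = 1 := by
    obtain ⟨k, hk⟩ := har
    exact ⟨k, Subtype.ext (by simpa using hk)⟩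
  have hys' : ∃ k : ℕ, (⟨y, hyD⟩ : D) ^ (s ^ k) = 1 := by
    obtain ⟨k, hk⟩ := hys
    exact ⟨k, Subtype.ext (by simpa using hk)⟩
  exact semiregular_false φ₀.range.subtype Z hfix hfree' hrs _ ha' har' _ hy' hys' P hPab hPne g'
    hg'1 hg'r

end Cfsg.Agent.Helper69.Nsy
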