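-- helper69: normal subgroups whose elements have two class sizes in the whole group (towards S4135).
import Mathlib
import Cfsg.Agent.Helper69.Ito5
import Cfsg.Agent.Helper67.Conj

set_option autoImplicit false
set_option linter.unusedVariables false

namespace Cfsg.Agent.Helper69.Nsy

open Subgroup

variable {G : Type*} [Group G]

/-- The elements of `N` have conjugacy classes (in `G`) of size `1` or `m`. -/
def TwoSizesOn (N : Subgroup G) (m : ℕ) : Prop :=
  ∀ x ∈ N, (centralizer ({x} : Set G)).index = 1 ∨ (centralizer ({x} : Set G)).index = m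

theorem index_cent_of_not_mem_on {N : Subgroup G} {m : ℕ} (h : TwoSizesOn N m) {y : G}
    (hyN : y ∈ N) (hy : y ∉ center G) : (centralizer ({y} : Set G)).index = m := by
  rcases h y hyN with h1 | h1
  · exact absurd ((index_cent_eq_one_iff y).mp h1) hy
  · exact h1

theorem cent_eq_of_le_on [Finite G] {N : Subgroup G} {m : ℕ} (h : TwoSizesOn N m) {g k : G}
    (hgN : g ∈ N) (hkN : k ∈ N) (hg : g ∉ center G) (hk : k ∉ center G)
    (hle : centralizer ({g} : Set G) ≤ centralizer ({k} : Set G)) :
    centralizer ({g} : Set G) = centralizer ({k} : Set G) := by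
  apply le_antisymm hle
  have h1 := Subgroup.relIndex_mul_index hle
  have hm : m ≠ 0 := by
    rw [← index_cent_of_not_mem_on h hgN hg]
    exact Subgroup.index_ne_zero_of_finite
  rw [index_cent_of_not_mem_on h hgN hg, index_cent_of_not_mem_on h hkN hk] at h1
  have h2 : (centralizer ({g} : Set G)).relIndex (centralizer ({k} : Set G)) = 1 :=
    Nat.eq_of_mul_eq_mul_right (Nat.pos_of_ne_zero hm) (by simpa using h1)
  exact Subgroup.relIndex_eq_one.mp h2

/-- If `x ∈ N` is noncentral and `y ∈ N` commutes with `x` and has coprime order, then `y` is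
central in the centralizer of `x`. -/
theorem cent_le_of_coprime_on [Finite G] {N : Subgroup G} {m : ℕ} (h : TwoSizesOn N m) {x y : G}
    (hxN : x ∈ N) (hyN : y ∈ N)
    (hx : x ∉ center G) (hyx : y * x = x * y) (hcop : (orderOf x).Coprime (orderOf y)) :
    centralizer ({x} : Set G) ≤ centralizer ({y} : Set G) := by
  have hx' : x ∈ zpowers (x * y) := Cfsg.Agent.S4127.mem_zpowers_mul_of_coprime hyx.symm hcop
  have hy' : y ∈ zpowers (x * y) := by
    have := Cfsg.Agent.S4127.mem_zpowers_mul_of_coprime hyx hcop.symm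
    rwa [hyx] at this
  have hxy : x * y ∉ center G := fun hc => hx ((Subgroup.zpowers_le.mpr hc) hx')
  have h1 := cent_eq_of_le_on h (N.mul_mem hxN hyN) hxN hxy hx (cent_le_of_mem_zpowers hx')
  rw [← h1]
  exact cent_le_of_mem_zpowers hy'

theorem coprime_orderOf_of_pow_of_coprime {p : ℕ} [hp : Fact p.Prime] {x y : G}
    (hxp : ∃ k : ℕ, x ^ (p ^ k) = 1) (hy : (orderOf y).Coprime p) :
    (orderOf x).Coprime (orderOf y) := by
  obtain ⟨k, hk⟩ := hxp
  have h1 : orderOf x ∣ p ^ k := orderOf_dvd_of_pow_eq_one hk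
  exact Nat.Coprime.coprime_dvd_left h1 (Nat.Coprime.pow_left k hy.symm)

/-- The index of a subgroup containing a Sylow `r`-subgroup is prime to `r`. -/
theorem not_dvd_index_of_sylow_le [Finite G] {r : ℕ} [hr : Fact r.Prime] (R : Sylow r G)
    {N : Subgroup G} (hRN : (R : Subgroup G) ≤ N) : ¬ r ∣ N.index :=
  fun hd => R.not_dvd_index (hd.trans (Subgroup.index_dvd_of_le hRN))

/-- Every `r`-element lies in a normal subgroup containing a Sylow `r`-subgroup. -/
theorem mem_of_sylow_le [Finite G] {r : ℕ} [hr : Fact r.Prime] (R : Sylow r G)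
    {N : Subgroup G} [N.Normal] (hRN : (R : Subgroup G) ≤ N) {z : G}
    (hz : ∃ k : ℕ, z ^ (r ^ k) = 1) : z ∈ N := by
  obtain ⟨k, hk⟩ := hz
  rw [← QuotientGroup.eq_one_iff]
  have h1 : (z : G ⧸ N) ^ (r ^ k) = 1 := by rw [← QuotientGroup.mk_pow, hk]; rfl
  have h2 : (z : G ⧸ N) ^ N.index = 1 := by
    rw [Subgroup.index_eq_card]
    exact pow_card_eq_one'
  have hcop : (r ^ k).Coprime N.index :=
    Nat.Coprime.pow_left k ((Nat.Prime.coprime_iff_not_dvd hr.out).mpr
      (not_dvd_index_of_sylow_le R hRN))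
  have h3 : orderOf (z : G ⧸ N) = 1 :=
    Nat.eq_one_of_dvd_coprimes hcop (orderOf_dvd_of_pow_eq_one h1) (orderOf_dvd_of_pow_eq_one h2)
  exact orderOf_eq_one_iff.mp h3

/-- If `r ∣ m` then the centre of `N` is central in `G`. -/
theorem center_le_of_dvd [Finite G] {r : ℕ} [hr : Fact r.Prime] (R : Sylow r G)
    {N : Subgroup G} (hRN : (R : Subgroup G) ≤ N) {m : ℕ} (h : TwoSizesOn N m) (hrm : r ∣ m)
    {x : G} (hxN : x ∈ N) (hx : ∀ n ∈ N, n * x = x * n) : x ∈ center G := by
  by_contra hxc
  have h1 := index_cent_of_not_mem_on h hxN hxc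
  have hle : N ≤ centralizer ({x} : Set G) := by
    intro n hn
    rw [Subgroup.mem_centralizer_singleton_iff]
    exact hx n hn
  have h2 : (centralizer ({x} : Set G)).index ∣ N.index := Subgroup.index_dvd_of_le hle
  rw [h1] at h2
  exact not_dvd_index_of_sylow_le R hRN (hrm.trans h2)

/-- A nontrivial normal subgroup of a finite `p`-group meets the centre nontrivially. -/
theorem exists_central_of_normal {H : Type*} [Group H] [Finite H] {p : ℕ} [hp : Fact p.Prime]
    (hH : IsPGroup p H) (A : Subgroup H) [hA : A.Normal] (hAne : A ≠ ⊥) :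
    ∃ u ∈ A, u ≠ 1 ∧ ∀ t : H, t * u = u * t := by
  letI : MulAction H A :=
    { smul := fun t u => ⟨t * u * t⁻¹, hA.conj_mem u u.2 t⟩
      one_smul := fun u => by
        apply Subtype.ext
        show (1 : H) * u * (1 : H)⁻¹ = u
        simp
      mul_smul := fun t t' u => by
        apply Subtype.ext
        show (t * t') * u * (t * t')⁻¹ = t * (t' * u * t'⁻¹) * t⁻¹
        group }
  have hsmul : ∀ (t : H) (u : A), ((t • u : A) : H) = t * u * t⁻¹ := fun t u => rfl
  have hAp : IsPGroup p A := hH.to_subgroup A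
  have hcard : p ∣ Nat.card A := by
    rcases hAp.card_eq_or_dvd with h | h
    · exact absurd (Subgroup.card_eq_one.mp h) hAne
    · exact h
  have h1fix : (1 : A) ∈ MulAction.fixedPoints H A := by
    intro t
    apply Subtype.ext
    rw [hsmul]
    simp
  obtain ⟨b, hbfix, hb1⟩ :=
    hH.exists_fixed_point_of_prime_dvd_card_of_fixed_point (α := A) hcard h1fix
  refine ⟨b, b.2, fun h => hb1 (Subtype.ext h.symm), ?_⟩
  intro t
  have h2 := congrArg Subtype.val (hbfix t)
  rw [hsmul] at h2
  calc t * (b : H) = (t * b * t⁻¹) * t := by group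
    _ = b * t := by rw [h2]

end Cfsg.Agent.Helper69.Nsy
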