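-- helper69: second-centre trick relative to a normal subgroup; primes not dividing the class size
-- (towards S4135).
import Mathlib
import Cfsg.Agent.Helper69.Nsy6

set_option autoImplicit false
set_option linter.unusedVariables false

namespace Cfsg.Agent.Helper69.Nsy

open Subgroup

variable {G : Type*} [Group G]

/-- In a finite `s`-subgroup `T` of `G` with a subgroup `S ≤ T` normalized by `T` and not central in
`G`, there is a noncentral element of `S` all of whose commutators with `T` are central in `G`. -/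
theorem exists_second_center_rel [Finite G] {s : ℕ} [hs : Fact s.Prime] (T S : Subgroup G)
    (hT : IsPGroup s T) (hle : S ≤ T) (hnorm : ∀ t ∈ T, ∀ u ∈ S, t * u * t⁻¹ ∈ S)
    (hnot : ¬ S ≤ center G) :
    ∃ u ∈ S, u ∉ center G ∧ ∀ t ∈ T, t * u * t⁻¹ * u⁻¹ ∈ center G := by
  obtain ⟨Zc, hZc⟩ : ∃ Zc : Subgroup T, Zc = (center G).subgroupOf T := ⟨_, rfl⟩
  haveI : Zc.Normal := by rw [hZc]; infer_instance
  have hZcmem : ∀ t : T, t ∈ Zc ↔ (t : G) ∈ center G := by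
    intro t; rw [hZc]; exact mem_subgroupOf
  have hQ : IsPGroup s (T ⧸ Zc) := hT.to_quotient Zc
  haveI hSn : (S.subgroupOf T).Normal := by
    constructor
    intro u hu t
    rw [mem_subgroupOf] at hu ⊢
    exact hnorm t t.2 u hu
  obtain ⟨A, hA⟩ : ∃ A : Subgroup (T ⧸ Zc), A = (S.subgroupOf T).map (QuotientGroup.mk' Zc) :=
    ⟨_, rfl⟩
  haveI : A.Normal := by
    rw [hA]
    exact hSn.map _ (QuotientGroup.mk'_surjective Zc)
  have hAne : A ≠ ⊥ := by
    intro hbot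
    apply hnot
    intro u hu
    have h1 : QuotientGroup.mk' Zc ⟨u, hle hu⟩ ∈ A := by
      rw [hA]
      exact ⟨⟨u, hle hu⟩, mem_subgroupOf.mpr hu, rfl⟩
    rw [hbot, Subgroup.mem_bot, QuotientGroup.mk'_apply, QuotientGroup.eq_one_iff, hZcmem] at h1
    exact h1
  obtain ⟨ubar, hubar, hubar1, hucen⟩ := exists_central_of_normal hQ A hAne
  rw [hA] at hubar
  obtain ⟨u, hu, rfl⟩ := hubar
  refine ⟨(u : G), mem_subgroupOf.mp hu, ?_, ?_⟩
  · intro hc
    apply hubar1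
    rw [QuotientGroup.mk'_apply, QuotientGroup.eq_one_iff, hZcmem]
    exact hc
  · intro t ht
    have h1 : (⟨t, ht⟩ : T) * u * (⟨t, ht⟩ : T)⁻¹ * u⁻¹ ∈ Zc := by
      rw [← QuotientGroup.eq_one_iff]
      have h2 := hucen (QuotientGroup.mk (⟨t, ht⟩ : T))
      rw [QuotientGroup.mk'_apply] at h2
      rw [QuotientGroup.mk_mul, QuotientGroup.mk_mul, QuotientGroup.mk_mul, QuotientGroup.mk_inv,
        QuotientGroup.mk_inv, h2]
      group
    exact (hZcmem _).mp h1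

/-- If the prime `p` does not divide `m`, then every `p`-element of `N` is central in `N`. -/
theorem central_of_not_dvd [Finite G] (N : Subgroup G) [hN : N.Normal] {m : ℕ}
    (h : TwoSizesOn N m) {p : ℕ} [hp : Fact p.Prime] (hpm : ¬ p ∣ m) {z : G} (hzN : z ∈ N)
    (hz : ∃ k : ℕ, z ^ (p ^ k) = 1) : ∀ n ∈ N, n * z = z * n := by
  obtain ⟨P⟩ : Nonempty (Sylow p N) := inferInstance
  obtain ⟨PG, hPG⟩ : ∃ PG : Subgroup G, PG = (P : Subgroup N).map N.subtype := ⟨_, rfl⟩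
  have hPGp : IsPGroup p PG := by rw [hPG]; exact P.2.map _
  have hfrat : normalizer (PG : Set G) ⊔ N = ⊤ := by rw [hPG]; exact Sylow.normalizer_sup_eq_top P
  -- every element of `N` is `N`-conjugate into the centralizer of `PG`
  have hU1 : ∀ n ∈ N, ∃ n' ∈ N, ∀ x ∈ PG, (n' * n * n'⁻¹) * x = x * (n' * n * n'⁻¹) := by
    intro n hn
    have hidx : ¬ p ∣ Nat.card (G ⧸ centralizer ({n} : Set G)) := by
      rw [← Subgroup.index_eq_card]
      rcases h n hn with h1 | h1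
      · rw [h1]; exact hp.out.one_lt.ne' ∘ Nat.dvd_one.mp
      · rw [h1]; exact hpm
    obtain ⟨q, hq⟩ := hPGp.nonempty_fixed_point_of_prime_not_dvd_card
      (G ⧸ centralizer ({n} : Set G)) hidx
    obtain ⟨g₀, rfl⟩ := QuotientGroup.mk_surjective q
    have hconj : ∀ x ∈ PG, x * (g₀ * n * g₀⁻¹) = (g₀ * n * g₀⁻¹) * x := by
      intro x hx
      have h1 := hq ⟨x, hx⟩
      have h2 : ((x * g₀ : G) : G ⧸ centralizer ({n} : Set G)) = (g₀ : G) := h1
      rw [QuotientGroup.eq, Subgroup.mem_centralizer_singleton_iff] at h2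
      -- h2 : (x * g₀)⁻¹ * g₀ * n = n * ((x * g₀)⁻¹ * g₀)
      have h3 : g₀⁻¹ * x⁻¹ * g₀ * n = n * (g₀⁻¹ * x⁻¹ * g₀) := by
        have e : (x * g₀)⁻¹ * g₀ = g₀⁻¹ * x⁻¹ * g₀ := by group
        rw [e] at h2; exact h2
      have h4 : x⁻¹ * (g₀ * n * g₀⁻¹) = (g₀ * n * g₀⁻¹) * x⁻¹ := by
        calc x⁻¹ * (g₀ * n * g₀⁻¹) = g₀ * (g₀⁻¹ * x⁻¹ * g₀ * n) * g₀⁻¹ := by group
          _ = g₀ * (n * (g₀⁻¹ * x⁻¹ * g₀)) * g₀⁻¹ := by rw [h3]
          _ = (g₀ * n * g₀⁻¹) * x⁻¹ := by group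
      calc x * (g₀ * n * g₀⁻¹) = x * ((g₀ * n * g₀⁻¹) * x⁻¹) * x := by group
        _ = x * (x⁻¹ * (g₀ * n * g₀⁻¹)) * x := by rw [h4]
        _ = (g₀ * n * g₀⁻¹) * x := by group
    have hg₀ : g₀ ∈ ((normalizer (PG : Set G) ⊔ N : Subgroup G) : Set G) := by
      rw [hfrat]; exact Set.mem_univ _
    rw [Subgroup.mul_normal] at hg₀
    obtain ⟨ν, hν, n', hn', rfl⟩ := Set.mem_mul.mp hg₀
    refine ⟨n', hn', ?_⟩
    intro x hx
    have hνx : ν * x * ν⁻¹ ∈ PG := (Subgroup.mem_normalizer_iff.mp hν x).mp hx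
    have h5 := hconj _ hνx
    -- (ν x ν⁻¹) (ν n' n n'⁻¹ ν⁻¹) = (ν n' n n'⁻¹ ν⁻¹) (ν x ν⁻¹)
    have h6 : ν * (x * (n' * n * n'⁻¹)) * ν⁻¹ = ν * ((n' * n * n'⁻¹) * x) * ν⁻¹ := by
      calc ν * (x * (n' * n * n'⁻¹)) * ν⁻¹ = (ν * x * ν⁻¹) * (ν * n' * n * (ν * n')⁻¹) := by group
        _ = (ν * n' * n * (ν * n')⁻¹) * (ν * x * ν⁻¹) := h5
        _ = ν * ((n' * n * n'⁻¹) * x) * ν⁻¹ := by group
    exact (mul_left_cancel (mul_right_cancel h6)).symm
  -- the union argument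
  have hM : (centralizer (PG : Set G)).subgroupOf N = ⊤ := by
    apply Cfsg.Agent.Helper67.eq_top_of_forall_exists_conj_mem
    intro x
    obtain ⟨n', hn', hx⟩ := hU1 x x.2
    refine ⟨⟨n', hn'⟩, ?_⟩
    rw [mem_subgroupOf, Subgroup.mem_centralizer_iff]
    intro y hy
    exact (hx y hy).symm
  have hcent : ∀ n ∈ N, ∀ x ∈ PG, x * n = n * x := by
    intro n hn x hx
    have h1 : (⟨n, hn⟩ : N) ∈ (centralizer (PG : Set G)).subgroupOf N := by
      rw [hM]; exact Subgroup.mem_top _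
    rw [mem_subgroupOf, Subgroup.mem_centralizer_iff] at h1
    exact h1 x hx
  -- `P` is normal in `N`, hence contains `z`
  have hPmem : ∀ u : N, u ∈ P → (u : G) ∈ PG := by
    intro u hu
    rw [hPG]
    exact ⟨u, hu, rfl⟩
  haveI : (P : Subgroup N).Normal := by
    constructor
    intro u hu t
    have h1 : (u : G) * t = t * u := hcent t t.2 u (hPmem u hu)
    have h2 : t * u * t⁻¹ = u := by
      apply Subtype.ext
      show (t : G) * u * (t : G)⁻¹ = u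
      rw [← h1, mul_inv_cancel_right]
    rw [h2]; exact hu
  have hzP : (⟨z, hzN⟩ : N) ∈ P := by
    apply Cfsg.Agent.Helper69.mem_sylow_of_normal
    obtain ⟨k, hk⟩ := hz
    exact ⟨k, Subtype.ext (by simpa using hk)⟩
  intro n hn
  exact (hcent n hn z (hPmem _ hzP)).symm

end Cfsg.Agent.Helper69.Nsy
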