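-- helper69: structure of the centralizer of a noncentral element of `N` (towards S4135).
import Mathlib
import Cfsg.Agent.Helper69.Nsy7
import Cfsg.Agent.Helper69.Nsy4

set_option autoImplicit false
set_option linter.unusedVariables false

namespace Cfsg.Agent.Helper69.Nsy

open Subgroup

variable {G : Type*} [Group G]

theorem isPGroup_zpowers {p : ℕ} {v : G} (hv : ∃ k : ℕ, v ^ (p ^ k) = 1) :
    IsPGroup p (zpowers v) := by
  obtain ⟨k, hk⟩ := hv
  rintro ⟨w, hw⟩
  obtain ⟨j, rfl⟩ := Subgroup.mem_zpowers_iff.mp hw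
  refine ⟨k, ?_⟩
  apply Subtype.ext
  change (v ^ j) ^ (p ^ k) = 1
  rw [← zpow_natCast, ← zpow_mul, mul_comm, zpow_mul, zpow_natCast, hk, one_zpow]

theorem pow_eq_one_of_mem_isPGroup {p : ℕ} {T : Subgroup G} (hT : IsPGroup p T) {x : G}
    (hx : x ∈ T) : ∃ k : ℕ, x ^ (p ^ k) = 1 := by
  obtain ⟨k, hk⟩ := hT ⟨x, hx⟩
  exact ⟨k, by simpa using congrArg Subtype.val hk⟩

/-- In a finite group, an element conjugating a subgroup into itself normalizes it. -/
theorem inv_conj_mem_of_conj_mem [Finite G] {H : Subgroup G} {g : G}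
    (h : ∀ x ∈ H, g * x * g⁻¹ ∈ H) : ∀ x ∈ H, g⁻¹ * x * g ∈ H := by
  intro x hx
  have h1 := Cfsg.Agent.Helper54.FA.pow_conj_mem h (orderOf g - 1) x hx
  have h2 : g ^ (orderOf g - 1) = g⁻¹ := by
    have h3 : g ^ (orderOf g - 1) * g = 1 := by
      rw [← pow_succ, Nat.sub_add_cancel (orderOf_pos g), pow_orderOf_eq_one]
    exact (inv_eq_of_mul_eq_one_left h3).symm
  rw [h2, inv_inv] at h1
  exact h1

theorem mem_normalizer_of_conj_mem [Finite G] {H : Subgroup G} {g : G}
    (h : ∀ x ∈ H, g * x * g⁻¹ ∈ H) : g ∈ normalizer (H : Set G) := by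
  rw [Subgroup.mem_normalizer_iff]
  intro x
  refine ⟨h x, fun hx => ?_⟩
  have h1 := inv_conj_mem_of_conj_mem h _ hx
  have e : g⁻¹ * (g * x * g⁻¹) * g = x := by group
  rwa [e] at h1

/-- Structure of `C = C_G(y)` for a noncentral `s`-element `y ∈ N` commuting with a noncentral
`r`-element `a ∈ N`: `C_G(a) = C` and `C ∩ N` is central in `C`. -/
theorem cent_structure [Finite G] {N : Subgroup G} {m : ℕ} (h : TwoSizesOn N m)
    {r s : ℕ} [hr : Fact r.Prime] [hs : Fact s.Prime] (hrs : r ≠ s)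
    {y a : G} (hyN : y ∈ N) (haN : a ∈ N) (hy : y ∉ center G) (ha : a ∉ center G)
    (hys : ∃ k : ℕ, y ^ (s ^ k) = 1) (har : ∃ k : ℕ, a ^ (r ^ k) = 1) (hay : a * y = y * a) :
    centralizer ({a} : Set G) = centralizer ({y} : Set G) ∧
      ∀ d ∈ N, d ∈ centralizer ({y} : Set G) → ∀ c ∈ centralizer ({y} : Set G), c * d = d * c := by
  have hcop : (orderOf y).Coprime (orderOf a) :=
    Cfsg.Agent.Helper69.coprime_orderOf_of_pow (Ne.symm hrs) hys har
  have hle : centralizer ({y} : Set G) ≤ centralizer ({a} : Set G) :=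
    cent_le_of_coprime_on h hyN haN hy hay hcop
  have heq : centralizer ({y} : Set G) = centralizer ({a} : Set G) :=
    cent_eq_of_le_on h hyN haN hy ha hle
  refine ⟨heq.symm, ?_⟩
  intro d hdN hdC c hcC
  obtain ⟨d₁, d₂, hd₁, hd₂, hd, hd₁o, hd₂s⟩ :=
    Cfsg.Agent.Helper67.exists_pprime_ppart s (isOfFinOrder_of_finite d)
  have hzN : zpowers d ≤ N := Subgroup.zpowers_le.mpr hdN
  have hzC : zpowers d ≤ centralizer ({y} : Set G) := Subgroup.zpowers_le.mpr hdC
  -- `d₁`
  have h1 : d₁ * y = y * d₁ := Subgroup.mem_centralizer_singleton_iff.mp (hzC hd₁)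
  have hc1 := cent_le_of_coprime_on h hyN (hzN hd₁) hy h1
    (coprime_orderOf_of_pow_of_coprime hys hd₁o) hcC
  rw [Subgroup.mem_centralizer_singleton_iff] at hc1
  -- `d₂`
  have h2 : d₂ * a = a * d₂ := by
    have := hzC hd₂
    rw [heq] at this
    exact Subgroup.mem_centralizer_singleton_iff.mp this
  have hc2 := cent_le_of_coprime_on h haN (hzN hd₂) ha h2
    (Cfsg.Agent.Helper69.coprime_orderOf_of_pow hrs har hd₂s) (heq ▸ hcC)
  rw [Subgroup.mem_centralizer_singleton_iff] at hc2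
  rw [hd]
  calc c * (d₁ * d₂) = (c * d₁) * d₂ := by group
    _ = (d₁ * c) * d₂ := by rw [hc1]
    _ = d₁ * (c * d₂) := by group
    _ = d₁ * (d₂ * c) := by rw [hc2]
    _ = d₁ * d₂ * c := by group

/-- A Sylow `r`-subgroup of the centralizer of a noncentral element of `N` contains a noncentral
element. -/
theorem exists_noncentral_in_sylow_cent [Finite G] {N : Subgroup G} {m : ℕ} (h : TwoSizesOn N m)
    {r : ℕ} [hr : Fact r.Prime] {x y : G} (hxN : x ∈ N) (hyN : y ∈ N) (hx : x ∉ center G)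
    (hy : y ∉ center G) (hxr : ∃ k : ℕ, x ^ (r ^ k) = 1)
    (T : Sylow r (centralizer ({y} : Set G))) :
    ∃ a : centralizer ({y} : Set G), a ∈ T ∧ (a : G) ∉ center G := by
  by_contra hcon
  push Not at hcon
  obtain ⟨TG, hTG⟩ : ∃ TG : Subgroup G, TG = (T : Subgroup _).map (centralizer ({y} : Set G)).subtype :=
    ⟨_, rfl⟩
  have hTGc : TG ≤ center G := by
    rw [hTG]
    rintro _ ⟨a, ha, rfl⟩
    exact hcon a ha
  have hcardTG : Nat.card TG = Nat.card T := by rw [hTG]; exact Subgroup.card_subtype _ _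
  have hcardC : Nat.card (centralizer ({x} : Set G)) = Nat.card (centralizer ({y} : Set G)) := by
    have h1 := Subgroup.card_mul_index (centralizer ({x} : Set G))
    have h2 := Subgroup.card_mul_index (centralizer ({y} : Set G))
    rw [index_cent_of_not_mem_on h hxN hx] at h1
    rw [index_cent_of_not_mem_on h hyN hy] at h2
    have hm : m ≠ 0 := by
      rw [← index_cent_of_not_mem_on h hxN hx]
      exact Subgroup.index_ne_zero_of_finite
    exact Nat.eq_of_mul_eq_mul_right (Nat.pos_of_ne_zero hm) (h1.trans h2.symm)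
  have hTGle : TG ≤ centralizer ({x} : Set G) := by
    intro t ht
    rw [Subgroup.mem_centralizer_singleton_iff]
    exact (Subgroup.mem_center_iff.mp (hTGc ht) x).symm
  have hcardTx : Nat.card (TG.subgroupOf (centralizer ({x} : Set G))) =
      r ^ (Nat.card (centralizer ({x} : Set G))).factorization r := by
    rw [Cfsg.Agent.Helper69.card_subgroupOf_eq, inf_eq_left.mpr hTGle, hcardTG, hcardC]
    exact T.card_eq_multiplicity
  obtain ⟨Tx, hTx⟩ : ∃ Tx : Sylow r (centralizer ({x} : Set G)),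
      (Tx : Subgroup _) = TG.subgroupOf (centralizer ({x} : Set G)) :=
    ⟨Sylow.ofCard _ hcardTx, Sylow.coe_ofCard _ _⟩
  haveI : (Tx : Subgroup (centralizer ({x} : Set G))).Normal := by
    rw [hTx]
    constructor
    intro u hu t
    rw [mem_subgroupOf] at hu ⊢
    have h1 : ((t * u * t⁻¹ : centralizer ({x} : Set G)) : G) = u := by
      show (t : G) * u * (t : G)⁻¹ = u
      rw [Subgroup.mem_center_iff.mp (hTGc hu) t, mul_inv_cancel_right]
    rw [h1]; exact hu
  have hxT : (⟨x, Subgroup.mem_centralizer_singleton_iff.mpr rfl⟩ : centralizer ({x} : Set G)) ∈ Tx := by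
    apply Cfsg.Agent.Helper69.mem_sylow_of_normal
    obtain ⟨k, hk⟩ := hxr
    exact ⟨k, Subtype.ext (by simpa using hk)⟩
  have hxT' : (⟨x, Subgroup.mem_centralizer_singleton_iff.mpr rfl⟩ : centralizer ({x} : Set G)) ∈
      (Tx : Subgroup _) := hxT
  rw [hTx, mem_subgroupOf] at hxT'
  exact hx (hTGc hxT')

end Cfsg.Agent.Helper69.Nsy
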