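-- helper69: the main contradiction for S4135 (case `r ∣ m` with a noncentral `r'`-element).
import Mathlib
import Cfsg.Agent.Helper69.Nsy8
import Cfsg.Agent.Helper69.Nsy5

set_option autoImplicit false
set_option linter.unusedVariables false

namespace Cfsg.Agent.Helper69.Nsy

open Subgroup

variable {G : Type*} [Group G]

/-- If `t y t⁻¹ y⁻¹` is central for all `t ∈ T`, then `T` normalizes the centralizer of `y`. -/
theorem conj_mem_cent_of_comm_central {T : Subgroup G} {y : G}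
    (hT : ∀ t ∈ T, t * y * t⁻¹ * y⁻¹ ∈ center G) :
    ∀ t ∈ T, ∀ c ∈ centralizer ({y} : Set G), t * c * t⁻¹ ∈ centralizer ({y} : Set G) := by
  intro t ht c hc
  rw [Subgroup.mem_centralizer_singleton_iff] at hc ⊢
  obtain ⟨z, hz⟩ : ∃ z : G, z = t⁻¹ * y * t⁻¹⁻¹ * y⁻¹ := ⟨_, rfl⟩
  have hzc : z ∈ center G := by rw [hz]; exact hT t⁻¹ (T.inv_mem ht)
  have e1 : t⁻¹ * y * t = z * y := by rw [hz]; group
  have hcz : c * z = z * c := (Subgroup.mem_center_iff.mp hzc c)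
  calc t * c * t⁻¹ * y = t * c * (t⁻¹ * y * t) * t⁻¹ := by group
    _ = t * c * (z * y) * t⁻¹ := by rw [e1]
    _ = t * (c * z) * y * t⁻¹ := by group
    _ = t * (z * c) * y * t⁻¹ := by rw [hcz]
    _ = t * z * (c * y) * t⁻¹ := by group
    _ = t * z * (y * c) * t⁻¹ := by rw [hc]
    _ = t * (z * y) * c * t⁻¹ := by group
    _ = t * (t⁻¹ * y * t) * c * t⁻¹ := by rw [e1]
    _ = y * (t * c * t⁻¹) := by group

/-- If `t y t⁻¹ y⁻¹` is central for all `t ∈ T`, then commutators of `T` centralize `y`. -/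
theorem comm_mem_cent_of_comm_central {T : Subgroup G} {y : G}
    (hT : ∀ t ∈ T, t * y * t⁻¹ * y⁻¹ ∈ center G) {u v : G} (hu : u ∈ T) (hv : v ∈ T) :
    (v * u)⁻¹ * (u * v) ∈ centralizer ({y} : Set G) := by
  rw [Subgroup.mem_centralizer_singleton_iff]
  obtain ⟨zu, hzu⟩ : ∃ z : G, z = u * y * u⁻¹ * y⁻¹ := ⟨_, rfl⟩
  obtain ⟨zv, hzv⟩ : ∃ z : G, z = v * y * v⁻¹ * y⁻¹ := ⟨_, rfl⟩
  have hzuc : zu ∈ center G := by rw [hzu]; exact hT u hu
  have hzvc : zv ∈ center G := by rw [hzv]; exact hT v hv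
  have eu : u * y * u⁻¹ = zu * y := by rw [hzu]; group
  have ev : v * y * v⁻¹ = zv * y := by rw [hzv]; group
  have h1 : (u * v) * y * (u * v)⁻¹ = zv * zu * y := by
    calc (u * v) * y * (u * v)⁻¹ = u * (v * y * v⁻¹) * u⁻¹ := by group
      _ = u * (zv * y) * u⁻¹ := by rw [ev]
      _ = (u * zv) * y * u⁻¹ := by group
      _ = (zv * u) * y * u⁻¹ := by rw [Subgroup.mem_center_iff.mp hzvc u]
      _ = zv * (u * y * u⁻¹) := by group
      _ = zv * (zu * y) := by rw [eu]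
      _ = zv * zu * y := by group
  have h2 : (v * u) * y * (v * u)⁻¹ = zv * zu * y := by
    calc (v * u) * y * (v * u)⁻¹ = v * (u * y * u⁻¹) * v⁻¹ := by group
      _ = v * (zu * y) * v⁻¹ := by rw [eu]
      _ = (v * zu) * y * v⁻¹ := by group
      _ = (zu * v) * y * v⁻¹ := by rw [Subgroup.mem_center_iff.mp hzuc v]
      _ = zu * (v * y * v⁻¹) := by group
      _ = zu * (zv * y) := by rw [ev]
      _ = (zu * zv) * y := by group
      _ = zv * zu * y := by rw [Subgroup.mem_center_iff.mp hzuc zv]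
  have h3 : (u * v) * y * (u * v)⁻¹ = (v * u) * y * (v * u)⁻¹ := h1.trans h2.symm
  calc (v * u)⁻¹ * (u * v) * y = (v * u)⁻¹ * ((u * v) * y * (u * v)⁻¹) * (u * v) := by group
    _ = (v * u)⁻¹ * ((v * u) * y * (v * u)⁻¹) * (u * v) := by rw [h3]
    _ = y * ((v * u)⁻¹ * (u * v)) := by group

/-- The main contradiction: `r ∣ m` and `N` has a noncentral `s`-element, `s ≠ r`. -/
theorem case_dvd_false [Finite G] {r : ℕ} [hr : Fact r.Prime] (R : Sylow r G)
    (hR : ¬ (R : Subgroup G) ≤ center G) (N : Subgroup G) [hN : N.Normal]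
    (hRN : (R : Subgroup G) ≤ N) {m : ℕ} (h : TwoSizesOn N m) (hrm : r ∣ m)
    {s : ℕ} [hs : Fact s.Prime] (hrs : r ≠ s) (y₀ : G) (hy₀N : y₀ ∈ N) (hy₀ : y₀ ∉ center G)
    (hy₀s : ∃ k : ℕ, y₀ ^ (s ^ k) = 1) : False := by
  -- Step 1: `s ∣ m`
  have hsm : s ∣ m := by
    by_contra hsm
    exact hy₀ (center_le_of_dvd R hRN h hrm hy₀N (central_of_not_dvd N h hsm hy₀N hy₀s))
  -- Step 2: the second-centre trick in a Sylow `s`-subgroup
  obtain ⟨Sst, hSst⟩ := (isPGroup_zpowers hy₀s).exists_le_sylow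
  have hy₀S : y₀ ∈ (Sst : Subgroup G) := hSst (Subgroup.mem_zpowers y₀)
  obtain ⟨y, hyS, hy, hycomm⟩ := exists_second_center_rel (Sst : Subgroup G) ((Sst : Subgroup G) ⊓ N)
    Sst.2 inf_le_left
    (fun t ht u hu => ⟨Subgroup.mul_mem _ (Subgroup.mul_mem _ ht hu.1) (Subgroup.inv_mem _ ht),
      hN.conj_mem u hu.2 t⟩)
    (fun hle => hy₀ (hle ⟨hy₀S, hy₀N⟩))
  have hyN : y ∈ N := hyS.2
  have hys : ∃ k : ℕ, y ^ (s ^ k) = 1 := pow_eq_one_of_mem_isPGroup Sst.2 hyS.1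
  have hCidx : (centralizer ({y} : Set G)).index = m := index_cent_of_not_mem_on h hyN hy
  have hSnormC := conj_mem_cent_of_comm_central hycomm
  obtain ⟨t₀, ht₀, ht₀y⟩ : ∃ t₀ ∈ (Sst : Subgroup G), t₀ * y ≠ y * t₀ := by
    by_contra hcon
    push Not at hcon
    have hle : (Sst : Subgroup G) ≤ centralizer ({y} : Set G) := by
      intro t ht
      rw [Subgroup.mem_centralizer_singleton_iff]
      exact hcon t ht
    have h1 := Subgroup.index_dvd_of_le hle
    rw [hCidx] at h1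
    exact Sst.not_dvd_index (hsm.trans h1)
  -- Step 3: a noncentral `r`-element of `C`
  obtain ⟨x, hxR, hx⟩ : ∃ x ∈ (R : Subgroup G), x ∉ center G := by
    by_contra hcon
    push Not at hcon
    exact hR hcon
  have hxr : ∃ k : ℕ, x ^ (r ^ k) = 1 := pow_eq_one_of_mem_isPGroup R.2 hxR
  obtain ⟨T⟩ : Nonempty (Sylow r (centralizer ({y} : Set G))) := inferInstance
  obtain ⟨⟨a, haC⟩, haT, ha⟩ := exists_noncentral_in_sylow_cent h (hRN hxR) hyN hx hy hxr T
  have ha : a ∉ center G := ha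
  have har : ∃ k : ℕ, a ^ (r ^ k) = 1 := by
    obtain ⟨k, hk⟩ := T.2 ⟨⟨a, haC⟩, haT⟩
    refine ⟨k, ?_⟩
    have := congrArg (fun u : T => ((u : centralizer ({y} : Set G)) : G)) hk
    simpa using this
  have haN : a ∈ N := mem_of_sylow_le R hRN har
  have hay : a * y = y * a := Subgroup.mem_centralizer_singleton_iff.mp haC
  obtain ⟨hCa, hDcen⟩ := cent_structure h hrs hyN haN hy ha hys har hay
  have hCd : ∀ d ∈ N, d ∈ centralizer ({y} : Set G) → d ∉ center G →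
      centralizer ({d} : Set G) = centralizer ({y} : Set G) := by
    intro d hdN hdC hd
    refine (cent_eq_of_le_on h hyN hdN hy hd ?_).symm
    intro c hc
    rw [Subgroup.mem_centralizer_singleton_iff]
    exact hDcen d hdN hdC c hc
  -- the subgroup `D`
  obtain ⟨D, hD⟩ : ∃ D : Subgroup G, D = centralizer ({y} : Set G) ⊓ N := ⟨_, rfl⟩
  have hDmem : ∀ d : G, d ∈ D ↔ d ∈ centralizer ({y} : Set G) ∧ d ∈ N := by
    intro d; rw [hD]; exact Subgroup.mem_inf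
  have hyC : y ∈ centralizer ({y} : Set G) := Subgroup.mem_centralizer_singleton_iff.mpr rfl
  have hyD : y ∈ D := (hDmem y).mpr ⟨hyC, hyN⟩
  have haD : a ∈ D := (hDmem a).mpr ⟨haC, haN⟩
  have hDab : ∀ u ∈ D, ∀ v ∈ D, u * v = v * u := by
    intro u hu v hv
    exact hDcen v ((hDmem v).mp hv).2 ((hDmem v).mp hv).1 u ((hDmem u).mp hu).1
  have hfree : ∀ γ : G, ∀ d ∈ D, d ∉ center G → γ * d = d * γ → ∀ d' ∈ D, γ * d' = d' * γ := by
    intro γ d hd hdc hγ d' hd'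
    have hγC : γ ∈ centralizer ({y} : Set G) := by
      rw [← hCd d ((hDmem d).mp hd).2 ((hDmem d).mp hd).1 hdc, Subgroup.mem_centralizer_singleton_iff]
      exact hγ
    exact hDcen d' ((hDmem d').mp hd').2 ((hDmem d').mp hd').1 γ hγC
  -- Step 4: the Sylow `s`-subgroup normalizes `D`
  have hSN : (Sst : Subgroup G) ≤ normalizer (D : Set G) := by
    intro t ht
    apply mem_normalizer_of_conj_mem
    intro d hd
    rw [hDmem] at hd ⊢
    exact ⟨hSnormC t ht d hd.1, hN.conj_mem d hd.2 t⟩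
  have hSnc : ∃ u ∈ Sst, ∃ d ∈ D, u * d ≠ d * u := ⟨t₀, ht₀, y, hyD, ht₀y⟩
  have hSab : ∀ u ∈ Sst, ∀ v ∈ Sst, ∀ d ∈ D,
      (u * v) * d * (u * v)⁻¹ = (v * u) * d * (v * u)⁻¹ := by
    intro u hu v hv d hd
    have hw := comm_mem_cent_of_comm_central hycomm hu hv
    have hwd := hDcen d ((hDmem d).mp hd).2 ((hDmem d).mp hd).1 _ hw
    calc (u * v) * d * (u * v)⁻¹
        = (v * u) * (((v * u)⁻¹ * (u * v)) * d) * ((v * u)⁻¹ * (u * v))⁻¹ * (v * u)⁻¹ := by group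
      _ = (v * u) * (d * ((v * u)⁻¹ * (u * v))) * ((v * u)⁻¹ * (u * v))⁻¹ * (v * u)⁻¹ := by rw [hwd]
      _ = (v * u) * d * (v * u)⁻¹ := by group
  -- the `r`-element `g`
  obtain ⟨TG, hTG⟩ : ∃ TG : Subgroup G, TG = (T : Subgroup _).map (centralizer ({y} : Set G)).subtype :=
    ⟨_, rfl⟩
  have hTGmem : ∀ u : G, u ∈ TG ↔ ∃ hu : u ∈ centralizer ({y} : Set G), (⟨u, hu⟩ : centralizer ({y} : Set G)) ∈ T := by
    intro u
    rw [hTG]
    constructor
    · rintro ⟨u', hu', rfl⟩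
      exact ⟨u'.2, hu'⟩
    · rintro ⟨hu, hu'⟩
      exact ⟨⟨u, hu⟩, hu', rfl⟩
  have hTGr : IsPGroup r TG := by rw [hTG]; exact T.2.map _
  have hTGC : TG ≤ centralizer ({y} : Set G) := by
    intro u hu
    obtain ⟨hu', _⟩ := (hTGmem u).mp hu
    exact hu'
  have haTG : a ∈ TG := (hTGmem a).mpr ⟨haC, haT⟩
  obtain ⟨R', hR'⟩ := hTGr.exists_le_sylow
  have hTGne : TG ≠ (R' : Subgroup G) := by
    intro heq
    have h1 := Subgroup.index_dvd_of_le (heq ▸ hTGC : (R' : Subgroup G) ≤ centralizer ({y} : Set G))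
    rw [hCidx] at h1
    exact R'.not_dvd_index (hrm.trans h1)
  haveI : Group.IsNilpotent (R' : Subgroup G) := R'.2.isNilpotent
  have hlt : TG.subgroupOf (R' : Subgroup G) < ⊤ := by
    rw [lt_top_iff_ne_top, Ne, Subgroup.subgroupOf_eq_top]
    intro hle
    exact hTGne (le_antisymm hR' hle)
  have hlt2 := Group.normalizerCondition_of_isNilpotent (G := (R' : Subgroup G)) _ hlt
  obtain ⟨g', hg'N, hg'T⟩ := SetLike.exists_of_lt hlt2
  obtain ⟨g, hg⟩ : ∃ g : G, g = (g' : G) := ⟨_, rfl⟩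
  have hgT : ∀ u ∈ TG, g * u * g⁻¹ ∈ TG := by
    intro u hu
    have h1 := (Subgroup.mem_normalizer_iff.mp hg'N ⟨u, hR' hu⟩).mp (mem_subgroupOf.mpr hu)
    rw [mem_subgroupOf] at h1
    rw [hg]
    exact h1
  have hgnT : g ∉ TG := by
    intro hgT'
    apply hg'T
    rw [mem_subgroupOf, ← hg]
    exact hgT'
  have hgr : ∃ k : ℕ, g ^ (r ^ k) = 1 := by
    rw [hg]; exact pow_eq_one_of_mem_isPGroup R'.2 g'.2
  have hgNn : g ∈ N := mem_of_sylow_le R hRN hgr
  -- `g` normalizes `C`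
  have hgaTG : g * a * g⁻¹ ∈ TG := hgT a haTG
  have hgaC : g * a * g⁻¹ ∈ centralizer ({y} : Set G) := hTGC hgaTG
  have hgaN : g * a * g⁻¹ ∈ N := hN.conj_mem a haN g
  have hgac : g * a * g⁻¹ ∉ center G := by
    intro hc
    apply ha
    have := (inferInstance : (center G).Normal).conj_mem _ hc g⁻¹
    have e : g⁻¹ * (g * a * g⁻¹) * g⁻¹⁻¹ = a := by group
    rwa [e] at this
  have hCga := hCd _ hgaN hgaC hgac
  have hgC : ∀ c ∈ centralizer ({y} : Set G), g * c * g⁻¹ ∈ centralizer ({y} : Set G) := by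
    intro c hc
    rw [← hCga, Subgroup.mem_centralizer_singleton_iff]
    rw [← hCa, Subgroup.mem_centralizer_singleton_iff] at hc
    calc g * c * g⁻¹ * (g * a * g⁻¹) = g * (c * a) * g⁻¹ := by group
      _ = g * (a * c) * g⁻¹ := by rw [hc]
      _ = g * a * g⁻¹ * (g * c * g⁻¹) := by group
  have hgND : g ∈ normalizer (D : Set G) := by
    apply mem_normalizer_of_conj_mem
    intro d hd
    rw [hDmem] at hd ⊢
    exact ⟨hgC d hd.1, hN.conj_mem d hd.2 g⟩
  -- `g ∉ C`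
  have hgnC : g ∉ centralizer ({y} : Set G) := by
    intro hgC'
    apply hgnT
    rw [hTGmem]
    refine ⟨hgC', ?_⟩
    apply mem_sylow_of_mem_normalizer T
    · apply mem_normalizer_of_conj_mem
      intro u hu
      have h1 : ((u : centralizer ({y} : Set G)) : G) ∈ TG := (hTGmem _).mpr ⟨u.2, hu⟩
      obtain ⟨h2, h3⟩ := (hTGmem _).mp (hgT _ h1)
      exact h3
    · obtain ⟨k, hk⟩ := hgr
      exact ⟨k, Subtype.ext (by simpa using hk)⟩
  have hgy : ∃ d ∈ D, g * d ≠ d * g :=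
    ⟨y, hyD, fun h1 => hgnC (Subgroup.mem_centralizer_singleton_iff.mpr h1)⟩
  exact semiregular_false_in D hDab hrs hfree a haD ha har y hyD hy hys Sst hSN hSnc hSab g hgND hgr
    hgy

end Cfsg.Agent.Helper69.Nsy
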