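import Mathlib

/-!
# (O7-L12) for helper43's S2647 (helper69): even-weight sign vectors

A subgroup `X` of `(Fin 7 → ℤˣ)` that is invariant under the even coordinate permutations and
contains a nontrivial vector of product `1` contains every vector of product `1`.
-/

set_option autoImplicit false

namespace Cfsg.Agent.Helper69.O7

/-- the sign vector that is `-1` exactly at `x` and `y` -/
def e2 (x y : Fin 7) : Fin 7 → ℤˣ := fun i => if i = x ∨ i = y then -1 else 1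

theorem e2_perm (x y : Fin 7) (π : Equiv.Perm (Fin 7)) :
    (fun i => e2 x y (π⁻¹ i)) = e2 (π x) (π y) := by
  funext i
  simp only [e2, Equiv.Perm.inv_eq_iff_eq]

theorem e2_comm (x y : Fin 7) : e2 x y = e2 y x := by
  funext i
  simp only [e2, or_comm]

theorem stepA : ∀ a b c : Fin 7, a ≠ b → c ≠ a → c ≠ b → ∀ a0 a1 a2 a3 a4 a5 a6 : ℤˣ,
    ![a0, a1, a2, a3, a4, a5, a6] a = -1 → ![a0, a1, a2, a3, a4, a5, a6] b = 1 →
    (![a0, a1, a2, a3, a4, a5, a6] c = 1 → ∀ i, ![a0, a1, a2, a3, a4, a5, a6] i *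
      ![a0, a1, a2, a3, a4, a5, a6] ((Equiv.swap b c * Equiv.swap a b) i) = e2 a b i) ∧
    (![a0, a1, a2, a3, a4, a5, a6] c = -1 → ∀ i, ![a0, a1, a2, a3, a4, a5, a6] i *
      ![a0, a1, a2, a3, a4, a5, a6] ((Equiv.swap b c * Equiv.swap a b) i) = e2 b c i) := by
  decide +kernel

theorem stepB : ∀ x y x' y' : Fin 7, x ≠ y → x' ≠ y' →
    (Equiv.swap (Equiv.swap x x' y) y' * Equiv.swap x x') x = x' ∧
    (Equiv.swap (Equiv.swap x x' y) y' * Equiv.swap x x') y = y' := by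
  decide +kernel

theorem stepC : ∀ a0 a1 a2 a3 a4 a5 a6 : ℤˣ, a0 * a1 * a2 * a3 * a4 * a5 * a6 = 1 →
    ∀ j, ![a0, a1, a2, a3, a4, a5, a6] j =
      ((if a0 = -1 then e2 0 6 else 1) * (if a1 = -1 then e2 1 6 else 1) *
        (if a2 = -1 then e2 2 6 else 1) * (if a3 = -1 then e2 3 6 else 1) *
        (if a4 = -1 then e2 4 6 else 1) * (if a5 = -1 then e2 5 6 else 1)) j := by
  decide +kernel

theorem third : ∀ a b : Fin 7, ∃ c : Fin 7, c ≠ a ∧ c ≠ b := by decide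

theorem vec_eta (ε : Fin 7 → ℤˣ) : ε = ![ε 0, ε 1, ε 2, ε 3, ε 4, ε 5, ε 6] := by
  funext j
  fin_cases j <;> rfl

theorem exists_e2_mem (X : Subgroup (Fin 7 → ℤˣ))
    (hX : ∀ ε ∈ X, ∀ π : Equiv.Perm (Fin 7), Equiv.Perm.sign π = 1 → (fun i => ε (π⁻¹ i)) ∈ X)
    (hne : ∃ ε ∈ X, ε ≠ 1 ∧ ∏ i, ε i = 1) : ∃ x y : Fin 7, x ≠ y ∧ e2 x y ∈ X := by
  obtain ⟨ε₀, h0X, h0ne, h0prod⟩ := hne
  have hval : ∀ i, ε₀ i = 1 ∨ ε₀ i = -1 := fun i => Int.units_eq_one_or (ε₀ i)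
  obtain ⟨a, ha⟩ : ∃ a, ε₀ a = -1 := by
    by_contra hcon
    push Not at hcon
    apply h0ne
    funext i
    rcases hval i with h | h
    · exact h
    · exact absurd h (hcon i)
  obtain ⟨b, hb⟩ : ∃ b, ε₀ b = 1 := by
    by_contra hcon
    push Not at hcon
    have hall : ∀ i, ε₀ i = -1 := fun i => (hval i).resolve_left (hcon i)
    have h7 : ∏ i, ε₀ i = -1 := by
      rw [Fin.prod_univ_seven]
      simp only [hall]
      decide
    rw [h7] at h0prod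
    exact absurd h0prod (by decide)
  have hab : a ≠ b := by
    rintro rfl
    rw [ha] at hb
    exact absurd hb (by decide)
  obtain ⟨c, hca, hcb⟩ := third a b
  obtain ⟨π, hπdef⟩ : ∃ π : Equiv.Perm (Fin 7), π = Equiv.swap a b * Equiv.swap b c := ⟨_, rfl⟩
  have hπsign : Equiv.Perm.sign π = 1 := by
    rw [hπdef, Equiv.Perm.sign_mul, Equiv.Perm.sign_swap hab, Equiv.Perm.sign_swap hcb.symm]
    decide
  have hπinv : π⁻¹ = Equiv.swap b c * Equiv.swap a b := by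
    rw [hπdef, mul_inv_rev, Equiv.swap_inv, Equiv.swap_inv]
  have hmem := hX ε₀ h0X π hπsign
  have hprodmem := X.mul_mem h0X hmem
  have hA := stepA a b c hab hca hcb (ε₀ 0) (ε₀ 1) (ε₀ 2) (ε₀ 3) (ε₀ 4) (ε₀ 5) (ε₀ 6)
  rw [← vec_eta ε₀] at hA
  obtain ⟨hA1, hA2⟩ := hA ha hb
  rcases hval c with hc | hc
  · refine ⟨a, b, hab, ?_⟩
    have : e2 a b = ε₀ * fun i => ε₀ (π⁻¹ i) := by
      funext i
      rw [Pi.mul_apply, hπinv]
      exact (hA1 hc i).symm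
    rw [this]
    exact hprodmem
  · refine ⟨b, c, hcb.symm, ?_⟩
    have : e2 b c = ε₀ * fun i => ε₀ (π⁻¹ i) := by
      funext i
      rw [Pi.mul_apply, hπinv]
      exact (hA2 hc i).symm
    rw [this]
    exact hprodmem

theorem e2_mem_all (X : Subgroup (Fin 7 → ℤˣ))
    (hX : ∀ ε ∈ X, ∀ π : Equiv.Perm (Fin 7), Equiv.Perm.sign π = 1 → (fun i => ε (π⁻¹ i)) ∈ X)
    (x y : Fin 7) (hxy : x ≠ y) (hmem : e2 x y ∈ X) (x' y' : Fin 7) (hxy' : x' ≠ y') :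
    e2 x' y' ∈ X := by
  obtain ⟨π₀, hπ₀def⟩ : ∃ π₀ : Equiv.Perm (Fin 7),
      π₀ = Equiv.swap (Equiv.swap x x' y) y' * Equiv.swap x x' := ⟨_, rfl⟩
  obtain ⟨h1, h2⟩ := stepB x y x' y' hxy hxy'
  rw [← hπ₀def] at h1 h2
  rcases Int.units_eq_one_or (Equiv.Perm.sign π₀) with hs | hs
  · have := hX _ hmem π₀ hs
    rw [e2_perm, h1, h2] at this
    exact this
  · have hs' : Equiv.Perm.sign (π₀ * Equiv.swap x y) = 1 := by
      rw [Equiv.Perm.sign_mul, hs, Equiv.Perm.sign_swap hxy]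
      decide
    have := hX _ hmem (π₀ * Equiv.swap x y) hs'
    rw [e2_perm, Equiv.Perm.mul_apply, Equiv.Perm.mul_apply, Equiv.swap_apply_left,
      Equiv.swap_apply_right, h1, h2, e2_comm] at this
    exact this

/-- L12 -/
theorem even_weight_gen (X : Subgroup (Fin 7 → ℤˣ))
    (hX : ∀ ε ∈ X, ∀ π : Equiv.Perm (Fin 7), Equiv.Perm.sign π = 1 → (fun i => ε (π⁻¹ i)) ∈ X)
    (hne : ∃ ε ∈ X, ε ≠ 1 ∧ ∏ i, ε i = 1) : ∀ ε : Fin 7 → ℤˣ, ∏ i, ε i = 1 → ε ∈ X := by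
  intro ε hε
  obtain ⟨x, y, hxy, hxyX⟩ := exists_e2_mem X hX hne
  have hall : ∀ x' y' : Fin 7, x' ≠ y' → e2 x' y' ∈ X :=
    fun x' y' h => e2_mem_all X hX x y hxy hxyX x' y' h
  have hprod7 : ε 0 * ε 1 * ε 2 * ε 3 * ε 4 * ε 5 * ε 6 = 1 := by
    rw [← hε, Fin.prod_univ_seven]
  have hC := stepC (ε 0) (ε 1) (ε 2) (ε 3) (ε 4) (ε 5) (ε 6) hprod7
  rw [← vec_eta ε] at hC
  have hfac : ∀ (u : ℤˣ) (i : Fin 7), i ≠ 6 → (if u = -1 then e2 i 6 else 1) ∈ X := by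
    intro u i hi
    split_ifs
    · exact hall i 6 hi
    · exact one_mem X
  have : ε = ((if ε 0 = -1 then e2 0 6 else 1) * (if ε 1 = -1 then e2 1 6 else 1) *
        (if ε 2 = -1 then e2 2 6 else 1) * (if ε 3 = -1 then e2 3 6 else 1) *
        (if ε 4 = -1 then e2 4 6 else 1) * (if ε 5 = -1 then e2 5 6 else 1)) := funext hC
  rw [this]
  exact mul_mem (mul_mem (mul_mem (mul_mem (mul_mem (hfac _ 0 (by decide)) (hfac _ 1 (by decide)))
    (hfac _ 2 (by decide))) (hfac _ 3 (by decide))) (hfac _ 4 (by decide))) (hfac _ 5 (by decide))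

end Cfsg.Agent.Helper69.O7
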