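import Mathlib
import Cfsg.Prelude.Def_FusionSystem
import Cfsg.Agent.Helper87.FusionExtend

set_option autoImplicit false
open Cfsg

namespace Cfsg.Agent.Helper69.OR9

open Cfsg.FusionSystem Cfsg.Agent.Helper87

variable {Ω : Type*} [Group Ω]

/-- A subgroup conjugate to the Sylow `T` inside a fusion system over the finite `T` is `T` itself. -/
theorem eq_of_isConj_self {T : Subgroup Ω} [Finite T] (E : FusionSystem T) {Q : Subgroup Ω}
    (h : E.IsConj T Q) : Q = T := by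
  obtain ⟨φ, hφ, hr⟩ := h
  subst hr
  have hQT : φ.range ≤ T := by
    rintro y ⟨x, rfl⟩
    exact (E.le_of_mem hφ).2 x
  have hinj := E.injective_of_mem hφ
  haveI : Finite φ.range := Finite.of_injective (fun x : φ.range => (⟨x.1, hQT x.2⟩ : T))
    (fun a b hab => Subtype.ext (by simpa using congrArg Subtype.val hab))
  have hcard : Nat.card T ≤ Nat.card φ.range :=
    Nat.card_le_card_of_injective (fun x => (⟨φ x, ⟨x, rfl⟩⟩ : φ.range))
      (fun a b hab => hinj (by simpa using congrArg Subtype.val hab))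
  exact Subgroup.eq_of_le_of_card_ge hQT hcard

theorem exists_conj_of_pow_eq_one {T : Subgroup Ω} [Finite T] (p : ℕ) [Fact p.Prime] (hT : IsPGroup p T)
    (E : FusionSystem T) (hE : E.IsSaturated p) {α : MulAut T} (hα : α ∈ E.autGroup T) {k : ℕ}
    (hk : α ^ p ^ k = 1) : ∃ t ∈ T, ∀ x : T, ((α x : T) : Ω) = t * (x : Ω) * t⁻¹ := by
  obtain ⟨Q, hconj, hfa, -⟩ := hE T le_rfl
  have hQ : Q = T := eq_of_isConj_self E hconj
  subst hQ
  obtain ⟨-, R, hR⟩ := hfa
  haveI : Finite (MulAut Q) := Finite.of_injective (fun a : MulAut Q => (a : Q → Q))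
    (fun a b hab => MulEquiv.ext (fun x => congrFun hab x))
  -- the cyclic group generated by α inside Aut_E(T) is a p-group
  let a : E.autGroup Q := ⟨α, hα⟩
  have ha : a ^ p ^ k = 1 := Subtype.ext (by simpa using hk)
  have hB : IsPGroup p (Subgroup.zpowers a) := by
    rintro ⟨b, hb⟩
    obtain ⟨n, rfl⟩ := Subgroup.mem_zpowers_iff.mp hb
    refine ⟨k, Subtype.ext ?_⟩
    show (a ^ n) ^ p ^ k = 1
    rw [← zpow_natCast, ← zpow_mul, mul_comm, zpow_mul, zpow_natCast, ha, one_zpow]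
  obtain ⟨γ, hγ⟩ := exists_conj_mem_sylow_of_isPGroup R (Subgroup.zpowers a) hB
  have h1 := hγ a (Subgroup.mem_zpowers a)
  rw [hR, Subgroup.mem_subgroupOf] at h1
  obtain ⟨t, ht, htx⟩ := (mem_autInducedBy_iff Q Q _).mp h1
  -- α = γ⁻¹ c_t γ = c_{γ⁻¹ t}
  refine ⟨((γ : MulAut Q)⁻¹ ⟨t, ht⟩ : Q), Subtype.mem _, fun x => ?_⟩
  have h2 := htx ((γ : MulAut Q) x)
  have h3 : ((γ * a * γ⁻¹ : E.autGroup Q) : MulAut Q) ((γ : MulAut Q) x) = (γ : MulAut Q) (α x) := by
    simp [a]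
  rw [h3] at h2
  have h4 : (γ : MulAut Q) (α x) = ⟨t, ht⟩ * (γ : MulAut Q) x * (⟨t, ht⟩ : Q)⁻¹ := Subtype.ext (by simpa using h2)
  have h5 : α x = (γ : MulAut Q)⁻¹ ((γ : MulAut Q) (α x)) := by simp
  rw [h5, h4]
  simp

end Cfsg.Agent.Helper69.OR9
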