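import Mathlib
import Cfsg.Agent.Helper5.OmBN.Defs

/-!
# (MEMSG) for helper5's S2549 farm (#11691): the Siegel elements are isometries
(helper69)
-/

set_option autoImplicit false

namespace Cfsg.Agent.Helper69.OmBN

open Matrix Cfsg.Agent.Helper5.OmBN

variable {F : Type*} [Field F] {m : ℕ} {α β : F}

theorem isO_of_Qm_mulVec (M : Matrix (Fin (2 * m + 2)) (Fin (2 * m + 2)) F)
    (h : ∀ x : Fin (2 * m + 2) → F, Qm α β (M *ᵥ x) = Qm α β x) : IsO α β M := by
  rw [isO_iff]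
  refine ⟨fun s => ?_, fun r s => ?_⟩
  · rw [← Helper5.OmBN.mulVec_single_one, h, Qm_single]
  · rw [← Helper5.OmBN.mulVec_single_one, ← Helper5.OmBN.mulVec_single_one]
    have h1 := h (Pi.single r 1 + Pi.single s 1)
    rw [Matrix.mulVec_add, Qm_add, Qm_add, h, h] at h1
    rw [add_left_cancel h1, Bm_single_single]

theorem sg_mulVec (e : Fin (2 * m + 2)) (w1 w2 : F) (x : Fin (2 * m + 2) → F) (i : Fin (2 * m + 2)) :
    (sgMat α β e w1 w2 *ᵥ x) i = x i
      + (if i = e then (2 * w1 + α * w2) * x c1 + (α * w1 + 2 * β * w2) * x c2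
          - Nf α β w1 w2 * x (Fin.rev e) else 0)
      - (if i = c1 then w1 * x (Fin.rev e) else 0)
      - (if i = c2 then w2 * x (Fin.rev e) else 0) := by
  unfold sgMat
  simp only [Matrix.add_mulVec, Matrix.sub_mulVec, Matrix.smul_mulVec, Matrix.one_mulVec,
    Matrix.single_mulVec, Pi.add_apply, Pi.sub_apply, Pi.smul_apply, Function.update_apply,
    Pi.zero_apply, smul_eq_mul, one_mul]
  split_ifs <;> ring


theorem sg_Qm_mulVec (e : Fin (2 * m + 2)) (he1 : e ≠ c1) (he2 : e ≠ c2) (w1 w2 : F)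
    (x : Fin (2 * m + 2) → F) : Qm α β (sgMat α β e w1 w2 *ᵥ x) = Qm α β x := by
  unfold Qm
  simp only [sg_mulVec]
  rcases pos_cases e with ⟨i0, rfl⟩ | ⟨i0, rfl⟩ | h | h
  · simp only [lo_injective.eq_iff, (lo_ne_hi _ _).symm, lo_ne_c1, lo_ne_c2, hi_ne_c1, hi_ne_c2,
      c1_ne_c2, c1_ne_c2.symm, (lo_ne_c1 _).symm, (lo_ne_c2 _).symm, if_false, if_true, sub_zero,
      add_zero, rev_lo]
    simp only [add_mul, ite_mul, zero_mul, Finset.sum_add_distrib, Finset.sum_ite_eq',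
      Finset.mem_univ, if_true]
    unfold Nf
    ring
  · simp only [hi_injective.eq_iff, lo_ne_hi, lo_ne_c1, lo_ne_c2, hi_ne_c1, hi_ne_c2,
      c1_ne_c2, c1_ne_c2.symm, (hi_ne_c1 _).symm, (hi_ne_c2 _).symm, if_false, if_true, sub_zero,
      add_zero, rev_hi]
    simp only [mul_add, mul_ite, mul_zero, Finset.sum_add_distrib, Finset.sum_ite_eq',
      Finset.mem_univ, if_true]
    unfold Nf
    ring
  · exact absurd h he1
  · exact absurd h he2


/-- (MEMSG) the Siegel elements are isometries -/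
theorem sgMat_isO (e : Fin (2 * m + 2)) (he1 : e ≠ c1) (he2 : e ≠ c2) (w1 w2 : F) :
    IsO α β (sgMat α β e w1 w2) :=
  isO_of_Qm_mulVec _ (sg_Qm_mulVec e he1 he2 w1 w2)

end Cfsg.Agent.Helper69.OmBN
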