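import Mathlib
import Cfsg.Agent.Helper5.OmBN.Defs

/-!
# (SGMUL) + (SGZERO) for helper5's S2549 farm (#11691): products of Siegel elements
(helper69)
-/

set_option autoImplicit false

namespace Cfsg.Agent.Helper69.OmBN

open Matrix Cfsg.Agent.Helper5.OmBN

variable {F : Type*} [Field F] {m : ℕ} {α β : F}

theorem sg_rev_ne_c1 (e : Fin (2 * m + 2)) (he2 : e ≠ c2) : Fin.rev e ≠ c1 := by
  intro h
  apply he2
  rw [← Fin.rev_rev e, h, rev_c1]

theorem sg_rev_ne_c2 (e : Fin (2 * m + 2)) (he1 : e ≠ c1) : Fin.rev e ≠ c2 := by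
  intro h
  apply he1
  rw [← Fin.rev_rev e, h, rev_c2]

theorem sg_rev_ne_self (e : Fin (2 * m + 2)) : Fin.rev e ≠ e := by
  intro h
  have h1 := congrArg Fin.val h
  rw [val_rev] at h1
  have := e.2
  omega

/-- (SGZERO) -/
theorem sgMat_zero (e : Fin (2 * m + 2)) : sgMat α β e 0 0 = 1 := by
  unfold sgMat Nf
  simp

/-- (SGMUL) the Siegel elements `E_{e,w}`, `e` fixed, multiply like the vectors `w` add -/
theorem sgMat_mul (e : Fin (2 * m + 2)) (he1 : e ≠ c1) (he2 : e ≠ c2) (w1 w2 v1 v2 : F) :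
    sgMat α β e w1 w2 * sgMat α β e v1 v2 = sgMat α β e (w1 + v1) (w2 + v2) := by
  have hf1 := sg_rev_ne_c1 e he2
  have hf2 := sg_rev_ne_c2 e he1
  have hfe := sg_rev_ne_self e
  have h12 : (c1 : Fin (2 * m + 2)) ≠ c2 := c1_ne_c2
  unfold sgMat
  simp only [mul_add, add_mul, mul_sub, sub_mul, mul_one, one_mul, Matrix.smul_mul,
    Matrix.mul_smul, Matrix.single_mul_single_same, Matrix.single_mul_single_of_ne, ne_eq,
    he1.symm, he2.symm, hf1, hf2, hfe, h12, h12.symm, not_false_eq_true,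
    smul_zero, sub_zero, add_zero]
  unfold Nf
  module

end Cfsg.Agent.Helper69.OmBN
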