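-- helper69: counting commuting pairs (π-element, element) = (number of π-classes) * |G|.
import Mathlib
import Cfsg.Agent.Helper69.PiElem

set_option autoImplicit false

namespace Cfsg.Agent.Helper69

variable {G : Type*} [Group G]

/-- The property of a conjugacy class used in the statements: all its elements are `π`-elements. -/
def IsPiClass (π : Set ℕ) (C : ConjClasses G) : Prop :=
  ∀ q : ℕ, q.Prime → (∃ g : G, ConjClasses.mk g = C ∧ q ∣ orderOf g) → q ∈ π

theorem isPiClass_mk {π : Set ℕ} (x : G) : IsPiClass π (ConjClasses.mk x) ↔ IsPi π x := by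
  constructor
  · intro h q hq hd
    exact h q hq ⟨x, rfl, hd⟩
  · rintro h q hq ⟨g, hg, hd⟩
    rw [ConjClasses.mk_eq_mk_iff_isConj, isConj_iff] at hg
    obtain ⟨c, rfl⟩ := hg
    exact (isPi_conj c g).mp h q hq hd

/-- Conjugation action of `G` on its `π`-elements. -/
@[reducible] def conjPi (π : Set ℕ) (G : Type*) [Group G] : MulAction G {x : G // IsPi π x} where
  smul g x := ⟨g * x.1 * g⁻¹, (isPi_conj g x.1).mpr x.2⟩
  one_smul x := Subtype.ext (by
    change 1 * x.1 * 1⁻¹ = x.1
    group)
  mul_smul g h x := Subtype.ext (by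
    change (g * h) * x.1 * (g * h)⁻¹ = g * (h * x.1 * h⁻¹) * g⁻¹
    group)

/-- Commuting pairs whose first component is a `π`-element. -/
abbrev PiComm (π : Set ℕ) (G : Type*) [Group G] : Type _ :=
  {p : G × G // IsPi π p.1 ∧ Commute p.1 p.2}

theorem card_piComm (π : Set ℕ) (G : Type*) [Group G] [Finite G] :
    Nat.card (PiComm π G) = Nat.card {C : ConjClasses G // IsPiClass π C} * Nat.card G := by
  letI := conjPi π G
  have hsmul : ∀ (g : G) (x : {x : G // IsPi π x}), ((g • x : {x : G // IsPi π x}) : G) =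
      g * x.1 * g⁻¹ := fun g x => rfl
  -- first equivalence
  have e1 : PiComm π G ≃ Σ g : G, MulAction.fixedBy {x : G // IsPi π x} g :=
    { toFun := fun p => ⟨p.1.2, ⟨⟨p.1.1, p.2.1⟩, by
        rw [MulAction.mem_fixedBy]
        apply Subtype.ext
        rw [hsmul]
        change p.1.2 * p.1.1 * p.1.2⁻¹ = p.1.1
        rw [← p.2.2.eq, mul_inv_cancel_right]⟩⟩
      invFun := fun s => ⟨(s.2.1.1, s.1), s.2.1.2, by
        have h1 := s.2.2
        rw [MulAction.mem_fixedBy] at h1
        have h2 := congrArg Subtype.val h1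
        rw [hsmul] at h2
        change s.2.1.1 * s.1 = s.1 * s.2.1.1
        rw [mul_inv_eq_iff_eq_mul] at h2
        exact h2.symm⟩
      left_inv := fun p => rfl
      right_inv := fun s => rfl }
  -- second equivalence
  let f : Quotient (MulAction.orbitRel G {x : G // IsPi π x}) →
      {C : ConjClasses G // IsPiClass π C} :=
    Quotient.lift (fun x => ⟨ConjClasses.mk x.1, (isPiClass_mk x.1).mpr x.2⟩) (by
      intro a b hab
      apply Subtype.ext
      change ConjClasses.mk a.1 = ConjClasses.mk b.1
      rw [ConjClasses.mk_eq_mk_iff_isConj, isConj_comm, isConj_iff]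
      have hab' : a ∈ MulAction.orbit G b := hab
      obtain ⟨g, hg⟩ := MulAction.mem_orbit_iff.mp hab'
      refine ⟨g, ?_⟩
      rw [← hsmul, hg])
  have hf : Function.Bijective f := by
    constructor
    · intro a b
      refine Quotient.inductionOn₂ a b ?_
      intro a b hab
      have h1 : ConjClasses.mk a.1 = ConjClasses.mk b.1 := congrArg Subtype.val hab
      rw [ConjClasses.mk_eq_mk_iff_isConj, isConj_comm, isConj_iff] at h1
      obtain ⟨c, hc⟩ := h1
      apply Quotient.sound
      change a ∈ MulAction.orbit G b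
      rw [MulAction.mem_orbit_iff]
      exact ⟨c, Subtype.ext (by rw [hsmul, hc])⟩
    · rintro ⟨C, hC⟩
      obtain ⟨x, rfl⟩ := ConjClasses.exists_rep C
      exact ⟨Quotient.mk _ ⟨x, (isPiClass_mk x).mp hC⟩, rfl⟩
  rw [Nat.card_congr e1, Nat.card_congr (MulAction.sigmaFixedByEquivOrbitsProdGroup G _),
    Nat.card_prod, Nat.card_congr (Equiv.ofBijective f hf)]

end Cfsg.Agent.Helper69
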