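-- helper69: c_π(G) ≤ c_π(G/N) c_π(N) by an explicit injection.
import Mathlib
import Cfsg.Agent.Helper69.PiCount

set_option autoImplicit false
set_option linter.unusedSectionVars false

namespace Cfsg.Agent.Helper69

variable {G : Type*} [Group G] (N : Subgroup G) [N.Normal]

open Classical in
/-- An element of the coset `b` commuting with `x`, if there is one. -/
noncomputable def pick (x : G) (b : G ⧸ N) : G :=
  if h : ∃ y : G, (y : G ⧸ N) = b ∧ Commute x y then h.choose else 1

theorem pick_spec {x : G} {b : G ⧸ N} (h : ∃ y : G, (y : G ⧸ N) = b ∧ Commute x y) :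
    ((pick N x b : G) : G ⧸ N) = b ∧ Commute x (pick N x b) := by
  unfold pick
  rw [dif_pos h]
  exact h.choose_spec

variable [Finite G] (π : Set ℕ)

/-- `y` translated into `N`. -/
noncomputable def nPart (x y : G) : G := (pick N x (y : G ⧸ N))⁻¹ * y

/-- π-part of `nPart`. -/
noncomputable def uPart (x y : G) : G := piPart π (nPart N x y)

/-- π'-part of `nPart`. -/
noncomputable def vPart (x y : G) : G := piPart' π (nPart N x y)

/-- `x * vPart` translated into `N`. -/
noncomputable def mPart (x y : G) : G :=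
  (pick N (uPart N π x y) (x : G ⧸ N))⁻¹ * (x * vPart N π x y)

section
variable {N π} {x y : G} (hxy : Commute x y)
include hxy

theorem pick_y : ((pick N x (y : G ⧸ N) : G) : G ⧸ N) = (y : G ⧸ N) ∧
    Commute x (pick N x (y : G ⧸ N)) := pick_spec N ⟨y, rfl, hxy⟩

theorem nPart_mem : nPart N x y ∈ N := by
  unfold nPart
  exact QuotientGroup.eq.mp (pick_y hxy).1

theorem commute_nPart : Commute x (nPart N x y) :=
  (pick_y hxy).2.inv_right.mul_right hxy

theorem pick_mul_nPart : pick N x (y : G ⧸ N) * nPart N x y = y := by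
  unfold nPart
  rw [mul_inv_cancel_left]

theorem uPart_mem_zpowers : uPart N π x y ∈ Subgroup.zpowers (nPart N x y) :=
  (piPart_spec π (nPart N x y)).1

theorem vPart_mem_zpowers : vPart N π x y ∈ Subgroup.zpowers (nPart N x y) :=
  (piPart_spec π (nPart N x y)).2.1

theorem uPart_mem : uPart N π x y ∈ N :=
  Subgroup.zpowers_le.mpr (nPart_mem hxy) (uPart_mem_zpowers hxy)

theorem vPart_mem : vPart N π x y ∈ N :=
  Subgroup.zpowers_le.mpr (nPart_mem hxy) (vPart_mem_zpowers hxy)

theorem uPart_mul_vPart : uPart N π x y * vPart N π x y = nPart N x y :=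
  (piPart_spec π (nPart N x y)).2.2.1.symm

theorem isPi_uPart : IsPi π (uPart N π x y) := (piPart_spec π (nPart N x y)).2.2.2.1

theorem isPi_vPart : IsPi πᶜ (vPart N π x y) := (piPart_spec π (nPart N x y)).2.2.2.2

theorem commute_x_vPart : Commute x (vPart N π x y) :=
  commute_of_mem_zpowers_right (vPart_mem_zpowers hxy) (commute_nPart hxy)

theorem commute_x_uPart : Commute x (uPart N π x y) :=
  commute_of_mem_zpowers_right (uPart_mem_zpowers hxy) (commute_nPart hxy)

theorem commute_uPart_w : Commute (uPart N π x y) (x * vPart N π x y) :=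
  (commute_x_uPart hxy).symm.mul_right
    (commute_of_mem_zpowers (uPart_mem_zpowers hxy) (vPart_mem_zpowers hxy))

theorem mk_w : ((x * vPart N π x y : G) : G ⧸ N) = (x : G ⧸ N) :=
  QuotientGroup.mk_mul_of_mem x (vPart_mem hxy)

theorem pick_w : ((pick N (uPart N π x y) (x : G ⧸ N) : G) : G ⧸ N) = (x : G ⧸ N) ∧
    Commute (uPart N π x y) (pick N (uPart N π x y) (x : G ⧸ N)) :=
  pick_spec N ⟨x * vPart N π x y, mk_w hxy, commute_uPart_w hxy⟩

theorem mPart_mem : mPart N π x y ∈ N := by
  unfold mPart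
  apply QuotientGroup.eq.mp
  rw [(pick_w hxy).1, mk_w hxy]

theorem commute_uPart_mPart : Commute (uPart N π x y) (mPart N π x y) :=
  (pick_w hxy).2.inv_right.mul_right (commute_uPart_w hxy)

theorem pick_mul_mPart :
    pick N (uPart N π x y) (x : G ⧸ N) * mPart N π x y = x * vPart N π x y := by
  unfold mPart
  rw [mul_inv_cancel_left]

end

/-- The key injectivity statement. -/
theorem parts_injective {x y x' y' : G} (hx : IsPi π x) (hx' : IsPi π x') (hxy : Commute x y)
    (hxy' : Commute x' y') (h1 : (x : G ⧸ N) = (x' : G ⧸ N)) (h2 : (y : G ⧸ N) = (y' : G ⧸ N))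
    (hu : uPart N π x y = uPart N π x' y') (hm : mPart N π x y = mPart N π x' y') :
    x = x' ∧ y = y' := by
  have hw : x * vPart N π x y = x' * vPart N π x' y' := by
    rw [← pick_mul_mPart (N := N) (π := π) hxy, ← pick_mul_mPart (N := N) (π := π) hxy', hu, h1, hm]
  obtain ⟨hxx, hvv⟩ := pi_decomp_unique hx hx' (isPi_vPart (N := N) (π := π) hxy)
    (isPi_vPart (N := N) (π := π) hxy')
    (commute_x_vPart (N := N) (π := π) hxy) (commute_x_vPart (N := N) (π := π) hxy') hw
  refine ⟨hxx, ?_⟩
  have hn : nPart N x y = nPart N x' y' := by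
    rw [← uPart_mul_vPart (N := N) (π := π) hxy, ← uPart_mul_vPart (N := N) (π := π) hxy', hu, hvv]
  rw [← pick_mul_nPart (N := N) hxy, ← pick_mul_nPart (N := N) hxy', hn, hxx, h2]

/-- The injection. -/
noncomputable def piInj : PiComm π G → PiComm π (G ⧸ N) × PiComm π N := fun p =>
  (⟨(((p.1.1 : G) : G ⧸ N), ((p.1.2 : G) : G ⧸ N)),
      IsPi.map (QuotientGroup.mk' N) p.2.1, p.2.2.map (QuotientGroup.mk' N)⟩,
   ⟨(⟨uPart N π p.1.1 p.1.2, uPart_mem p.2.2⟩, ⟨mPart N π p.1.1 p.1.2, mPart_mem p.2.2⟩),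
      by
        intro q hq hd
        rw [Subgroup.orderOf_mk] at hd
        exact isPi_uPart p.2.2 q hq hd,
      Subtype.ext (commute_uPart_mPart p.2.2).eq⟩)

theorem piInj_injective : Function.Injective (piInj N π) := by
  rintro ⟨⟨x, y⟩, hx, hxy⟩ ⟨⟨x', y'⟩, hx', hxy'⟩ h
  have h1 := congrArg (fun t => t.1.1.1) h
  have h2 := congrArg (fun t => t.1.1.2) h
  have h3 := congrArg (fun t => (t.2.1.1 : G)) h
  have h4 := congrArg (fun t => (t.2.1.2 : G)) h
  obtain ⟨hxx, hyy⟩ := parts_injective N π hx hx' hxy hxy' h1 h2 h3 h4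
  apply Subtype.ext
  exact Prod.ext hxx hyy

theorem card_piComm_le : Nat.card (PiComm π G) ≤
    Nat.card (PiComm π (G ⧸ N)) * Nat.card (PiComm π N) := by
  rw [← Nat.card_prod]
  exact Nat.card_le_card_of_injective _ (piInj_injective N π)

/-- `k_π(G) ≤ k_π(N) k_π(G/N)`. -/
theorem card_piClass_le : Nat.card {C : ConjClasses G // IsPiClass π C} ≤
    Nat.card {C : ConjClasses N // IsPiClass π C} *
      Nat.card {C : ConjClasses (G ⧸ N) // IsPiClass π C} := by
  have h1 := card_piComm π G
  have h2 := card_piComm π N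
  have h3 := card_piComm π (G ⧸ N)
  have h4 := card_piComm_le N π
  have h5 : Nat.card G = Nat.card (G ⧸ N) * Nat.card N :=
    Subgroup.card_eq_card_quotient_mul_card_subgroup N
  have hpos : 0 < Nat.card G := Nat.card_pos
  rw [h1, h2, h3] at h4
  have h6 : Nat.card {C : ConjClasses G // IsPiClass π C} * Nat.card G ≤
      (Nat.card {C : ConjClasses N // IsPiClass π C} *
        Nat.card {C : ConjClasses (G ⧸ N) // IsPiClass π C}) * Nat.card G := by
    calc Nat.card {C : ConjClasses G // IsPiClass π C} * Nat.card G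
        ≤ Nat.card {C : ConjClasses (G ⧸ N) // IsPiClass π C} * Nat.card (G ⧸ N) *
          (Nat.card {C : ConjClasses N // IsPiClass π C} * Nat.card N) := h4
      _ = (Nat.card {C : ConjClasses N // IsPiClass π C} *
        Nat.card {C : ConjClasses (G ⧸ N) // IsPiClass π C}) * Nat.card G := by
          rw [h5]; ring
  exact Nat.le_of_mul_le_mul_right h6 hpos

end Cfsg.Agent.Helper69
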