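import Cfsg.Agent.Helper23.PsuOs.Q2Defs

/-!
# S2089 odd specials, helper23 farm OSQ2 (#15666): piece (QC1) `lc_eq_cT_mul_zt`

Port of helper5's `Cfsg.Agent.Helper5.PsuE2.lc_eq_cT_mul_zt` to the abstract root data `D`.
-/

set_option autoImplicit false
set_option linter.unusedSectionVars false
set_option linter.unusedVariables false

namespace Cfsg.Agent.Helper69.PsuOs

open scoped commutatorElement
open Cfsg.Agent.Helper96.StLift
open Cfsg.Agent.Helper5.PsuE2 (F4Facts f4Facts)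
open Cfsg.Agent.Helper23.PsuOs

universe u

section group

variable {K : Type u} [Field K] {σ : K →+* K} {G : Type u} [Group G] {m : ℕ} (D : RootData G K m)
  {Γ : Type u} [Group Γ] [Finite Γ] (τ : Γ →* G) (hτ : Function.Surjective τ)

/-- (C1) Take `h` from `R.T_ab a b hab t ht` and a lift `ĥ`.  `ĥ * zt a b * ĥ⁻¹ = zt a b` (`L.torus_z`,
`map_zt`).  On the other hand `ĥ * lc (x_1) (z_b) * ĥ⁻¹ = lc (x_t) (z_b)` (`lc_conj`, `R.T_z`) and
`ĥ * cT a b 1 * ĥ⁻¹ = cT a b t` (`csh_conj`, `cT_unique` with `L.csh_inf`).  So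
`lc (x_t) (z_b) * (cT a b t)⁻¹ = zt a b`; commute the factors (`E.comm`; `cT ∈ Csh D τ ≤ Q̂` by `csh_le`). -/
theorem lc_eq_cT_mul_zt (E : Ext2 D τ hτ) (F : F4Facts σ) (R : RootFacts σ D) (hm : 2 ≤ m)
    (L : LiftFacts D τ hτ) (a b : Fin m) (hab : a ≠ b) (t : K) (ht : t ≠ 0) :
    lc hτ (D.x a b t) (D.z b 1) = cT D τ a b t * zt D τ hτ a b := by
  obtain ⟨h, hT, hx, hcc⟩ := R.T_ab a b hab t ht
  obtain ⟨g, rfl⟩ := hτ h
  have h1 : g * zt D τ hτ a b * g⁻¹ = zt D τ hτ a b := by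
    have := L.torus_z g (zt D τ hτ a b) a hT (map_zt D τ hτ R hab)
    rw [this.eq, mul_inv_cancel_right]
  have h2 : g * lc hτ (D.x a b 1) (D.z b 1) * g⁻¹ = lc hτ (D.x a b t) (D.z b 1) := by
    rw [lc_conj hτ E.central, hx]
    have := R.T_z _ hT b
    rw [this.eq, mul_inv_cancel_right]
  have h3 : g * cT D τ a b 1 * g⁻¹ = cT D τ a b t := by
    apply cT_unique D τ hτ R L.csh_inf hab
    · exact csh_conj D τ R.T_norm g hT _ (cT_mem D τ hτ R hab 1)
    · rw [map_mul, map_mul, map_inv, map_cT D τ hτ R hab, hcc]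
  have h4 : lc hτ (D.x a b t) (D.z b 1) * (cT D τ a b t)⁻¹ = zt D τ hτ a b := by
    rw [← h2, ← h3]
    conv_rhs => rw [← h1]
    unfold zt
    group
  have h5 : lc hτ (D.x a b t) (D.z b 1) = zt D τ hτ a b * cT D τ a b t := by
    rw [← h4, inv_mul_cancel_right]
  rw [h5]
  apply (E.comm _ _ ?_ ?_).eq
  · rw [map_zt D τ hτ R hab]
    exact R.z_mem a
  · rw [map_cT D τ hτ R hab]
    exact R.c_mem a b hab t

end group

end Cfsg.Agent.Helper69.PsuOs
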