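import Cfsg.Agent.Helper23.PsuOs.Q2Defs

/-!
# S2089 odd specials, helper23 farm OSQ2 (#15666): piece (QCLE) `Cq_le`

Port of helper5's `Cfsg.Agent.Helper5.PsuE2.Cq_le` to the abstract root data `D`.
-/

set_option autoImplicit false
set_option linter.unusedSectionVars false
set_option linter.unusedVariables false

namespace Cfsg.Agent.Helper69.PsuOs

open scoped commutatorElement
open Cfsg.Agent.Helper96.StLift
open Cfsg.Agent.Helper5.PsuE2 (F4Facts f4Facts)
open Cfsg.Agent.Helper23.PsuOs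

universe u

section group

variable {K : Type u} [Field K] {σ : K →+* K} {G : Type u} [Group G] {m : ℕ} (D : RootData G K m)
  {Γ : Type u} [Group Γ] [Finite Γ] (τ : Γ →* G) (hτ : Function.Surjective τ)

/-- (CLE) `csh_le τ R.T_norm`, and `τ (zT a) = D.z a 1 ∈ D.Q` (`Z.map_zT`, `R.z_mem`). -/
theorem Cq_le (E : Ext2 D τ hτ) (F : F4Facts σ) (R : RootFacts σ D) (hm : 2 ≤ m)
    (L : LiftFacts D τ hτ) (zT : Fin m → Γ) (Z : ZFacts D τ hτ zT) :
    Cq D τ zT ≤ (D.Q).comap τ := by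
  unfold Cq
  apply sup_le (csh_le D τ R.T_norm)
  rw [Subgroup.closure_le]
  rintro _ ⟨a, rfl⟩
  change τ (zT a) ∈ D.Q
  rw [Z.map_zT]
  exact R.z_mem a

end group

end Cfsg.Agent.Helper69.PsuOs
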