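import Mathlib
import Cfsg.Agent.Helper77.Res.Defs
import Cfsg.Agent.S0126
import Cfsg.Agent.S0128
import Cfsg.Agent.Helper79.BlkIDX

/-!
# S5289 swarm (architect helper77), piece (OM): `omega_cases`

`R = Ω₁(P)` for a nontrivial `p`-group `P` of rank `≤ 2`, `p ≥ 5`: exponent `p` and `|R| ∈ {p, p², p³}`, nonabelian if `p³`.
-/

set_option autoImplicit false

universe u

namespace Cfsg.Agent.Helper69.Res

open Subgroup Cfsg.Agent.Helper77.Res

variable {Ω : Type u} [Group Ω] {p : ℕ} [hp : Fact p.Prime]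

omit hp in
/-- rank hypothesis transported to a subgroup `K ≤ P`, viewed as a group -/
theorem om_rank_sub (P : Subgroup Ω)
    (hrk : ∀ E : Subgroup Ω, E ≤ P → (∀ a ∈ E, ∀ b ∈ E, a * b = b * a) → (∀ e ∈ E, e ^ p = 1) → Nat.card E ≤ p ^ 2)
    (K : Subgroup Ω) (hK : K ≤ P) (E : Subgroup K) (hE : Cfsg.IsElementaryAbelian p E) : Nat.card E ≤ p ^ 2 := by
  obtain ⟨hcomm, hexp⟩ := hE
  have hcard : Nat.card (E.map K.subtype) = Nat.card E :=
    Subgroup.card_map_of_injective K.subtype_injective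
  rw [← hcard]
  apply hrk
  · rintro _ ⟨x, _, rfl⟩
    exact hK x.2
  · rintro _ ⟨x, hx, rfl⟩ _ ⟨y, hy, rfl⟩
    have h := setLike_mul_comm (s := E) hx hy
    rw [← map_mul, ← map_mul, h]
  · rintro _ ⟨x, hx, rfl⟩
    rw [← map_pow, hexp x hx, map_one]

/-- exponent `p` of `Ω₁(P)` -/
theorem om_exp (h5 : 5 ≤ p) (P : Subgroup Ω) [Finite P] (hP : IsPGroup p P)
    (hrk : ∀ E : Subgroup Ω, E ≤ P → (∀ a ∈ E, ∀ b ∈ E, a * b = b * a) → (∀ e ∈ E, e ^ p = 1) → Nat.card E ≤ p ^ 2) :
    ∀ r ∈ Cfsg.omegaOne p P, r ^ p = 1 := by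
  intro r hr
  have himg : {x : Ω | x ∈ P ∧ x ^ p = 1} = P.subtype '' {x : P | x ^ p = 1} := by
    ext x
    constructor
    · rintro ⟨hx, hxp⟩
      exact ⟨⟨x, hx⟩, by
        show (⟨x, hx⟩ : P) ^ p = 1
        apply Subtype.ext
        simpa using hxp, rfl⟩
    · rintro ⟨y, hy, rfl⟩
      refine ⟨y.2, ?_⟩
      have : (y : P) ^ p = 1 := hy
      show ((y : P) : Ω) ^ p = 1
      rw [← Subgroup.coe_pow, this, Subgroup.coe_one]
  have hr' : r ∈ (Subgroup.closure {x : P | x ^ p = 1}).map P.subtype := by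
    rw [MonoidHom.map_closure, ← himg]
    exact hr
  obtain ⟨y, hy, rfl⟩ := hr'
  have h3 : 3 < p := by omega
  have := Cfsg.Agent.S0128.result (R := P) h3 hP (fun E hE => om_rank_sub P hrk P le_rfl E hE) y hy
  rw [← map_pow, this, map_one]

theorem omega_cases (h5 : 5 ≤ p) (P : Subgroup Ω) [Finite P] (hP : IsPGroup p P) (hne : P ≠ ⊥)
    (hrk : ∀ E : Subgroup Ω, E ≤ P → (∀ a ∈ E, ∀ b ∈ E, a * b = b * a) → (∀ e ∈ E, e ^ p = 1) → Nat.card E ≤ p ^ 2) :
    (∀ r ∈ Cfsg.omegaOne p P, r ^ p = 1) ∧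
    (Nat.card (Cfsg.omegaOne p P) = p ∨ Nat.card (Cfsg.omegaOne p P) = p ^ 2 ∨
      (Nat.card (Cfsg.omegaOne p P) = p ^ 3 ∧
        ∃ a ∈ Cfsg.omegaOne p P, ∃ b ∈ Cfsg.omegaOne p P, a * b ≠ b * a)) := by
  classical
  have hpp : p.Prime := hp.out
  have hexp := om_exp h5 P hP hrk
  refine ⟨hexp, ?_⟩
  set R : Subgroup Ω := Cfsg.omegaOne p P with hRdef
  have hRP : R ≤ P := by
    rw [hRdef, Cfsg.omegaOne, Subgroup.closure_le]
    rintro x ⟨hx, _⟩
    exact hx
  have hRfin : Finite R := Finite.of_injective (Subgroup.inclusion hRP) (Subgroup.inclusion_injective hRP)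
  have hRp : IsPGroup p R := hP.to_le hRP
  obtain ⟨k, hk⟩ := IsPGroup.iff_card.mp hRp
  -- `R ≠ ⊥`
  have hk0 : k ≠ 0 := by
    intro h0
    rw [h0, pow_zero] at hk
    have hRbot : R = ⊥ := Subgroup.card_eq_one.mp hk
    obtain ⟨n, hn⟩ := IsPGroup.iff_card.mp hP
    have hn0 : n ≠ 0 := by
      intro h
      rw [h, pow_zero] at hn
      exact hne (Subgroup.card_eq_one.mp hn)
    have hdvd : p ∣ Nat.card P := by
      rw [hn]
      exact dvd_pow_self p hn0
    obtain ⟨x, hx⟩ := exists_prime_orderOf_dvd_card' p hdvd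
    have hx1 : (x : Ω) ∈ R := by
      rw [hRdef, Cfsg.omegaOne]
      apply Subgroup.subset_closure
      refine ⟨x.2, ?_⟩
      rw [← Subgroup.coe_pow, ← hx, pow_orderOf_eq_one, Subgroup.coe_one]
    rw [hRbot, Subgroup.mem_bot] at hx1
    have : x = 1 := Subtype.ext hx1
    rw [this, orderOf_one] at hx
    exact hpp.one_lt.ne' hx.symm
  by_cases hab : ∀ a ∈ R, ∀ b ∈ R, a * b = b * a
  · have hle : Nat.card R ≤ p ^ 2 := hrk R hRP hab hexp
    rw [hk] at hle
    have hk2 : k ≤ 2 := (Nat.pow_le_pow_iff_right hpp.one_lt).mp hle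
    rcases (by omega : k = 1 ∨ k = 2) with h | h
    · left; rw [hk, h, pow_one]
    · right; left; rw [hk, h]
  · right; right
    push Not at hab
    obtain ⟨a, ha, b, hb, hne'⟩ := hab
    refine ⟨?_, a, ha, b, hb, hne'⟩
    -- `↥R` is not cyclic
    have hnc : ¬ IsCyclic R := by
      intro hc
      have hcm : IsMulCommutative R := IsCyclic.isMulCommutative
      have h := isMulCommutative_iff.mp hcm ⟨a, ha⟩ ⟨b, hb⟩
      exact hne' (congrArg Subtype.val h)
    have hp2 : p ≠ 2 := by omega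
    obtain ⟨A0, hA0n, ⟨hA0c, hA0e⟩, hA0card⟩ := Cfsg.Agent.S0126.result (R := R) hp2 hRp hnc
    have hidx := Cfsg.Agent.Helper79.Blk.index_centralizer_dvd hRp A0 hA0card
    -- `C_R(A0) = A0`
    have hCA : centralizer (A0 : Set R) = A0 := by
      apply le_antisymm
      · intro c hc
        set E : Subgroup R := Subgroup.closure ((A0 : Set R) ∪ {c}) with hE
        have hEc : IsMulCommutative E := by
          apply Subgroup.isMulCommutative_closure
          rintro x (hx | hx) y (hy | hy)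
          · exact setLike_mul_comm (s := A0) hx hy
          · rw [Set.mem_singleton_iff] at hy
            rw [hy]
            exact (Subgroup.mem_centralizer_iff.mp hc x hx)
          · rw [Set.mem_singleton_iff] at hx
            rw [hx]
            exact (Subgroup.mem_centralizer_iff.mp hc y hy).symm
          · rw [Set.mem_singleton_iff] at hx hy
            rw [hx, hy]
        have hEe : ∀ e ∈ E, e ^ p = 1 := by
          intro e _
          apply Subtype.ext
          rw [Subgroup.coe_pow, Subgroup.coe_one]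
          exact hexp e e.2
        have hEle : Nat.card E ≤ p ^ 2 := om_rank_sub P hrk R hRP E ⟨hEc, hEe⟩
        have hA0E : A0 ≤ E := by
          intro x hx
          exact Subgroup.subset_closure (Or.inl hx)
        have hEq : A0 = E := Subgroup.eq_of_le_of_card_ge hA0E (by rw [hA0card]; exact hEle)
        rw [hEq]
        exact Subgroup.subset_closure (Or.inr rfl)
      · intro x hx
        rw [Subgroup.mem_centralizer_iff]
        intro y hy
        exact setLike_mul_comm (s := A0) hy hx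
    rw [hCA] at hidx
    have hmul : Nat.card A0 * A0.index = Nat.card R := Subgroup.card_mul_index A0
    rcases (Nat.dvd_prime hpp).mp hidx with h1 | h1
    · exfalso
      have htop : A0 = ⊤ := Subgroup.index_eq_one.mp h1
      have hA : (⟨a, ha⟩ : R) ∈ A0 := by rw [htop]; trivial
      have hB : (⟨b, hb⟩ : R) ∈ A0 := by rw [htop]; trivial
      have h := setLike_mul_comm (s := A0) hA hB
      exact hne' (congrArg Subtype.val h)
    · rw [← hmul, hA0card, h1]
      ring

end Cfsg.Agent.Helper69.Res
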