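import Mathlib
import Cfsg.Agent.Helper88.SimsD.Defs

/-!
# S2772 farm (helper88 #13205), leaf (Q3F) `faithful_quotient` (helper69)
-/

set_option autoImplicit false

namespace Cfsg.Agent.Helper69.SimsD

open Cfsg.Agent.Helper88.SimsD

/-- (Q3F) the action of a simple group on the cosets of a proper subgroup is faithful. -/
theorem faithful_quotient {H : Type*} [Group H] [IsSimpleGroup H] (G : Subgroup H) (hG : G ≠ ⊤) :
    FaithfulSMul H (H ⧸ G) := by
  have hker : (MulAction.toPermHom H (H ⧸ G)).ker = ⊥ := by
    rcases (MulAction.toPermHom H (H ⧸ G)).normal_ker.eq_bot_or_eq_top with h | h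
    · exact h
    · exfalso
      apply hG
      rw [← Subgroup.normalCore_eq_ker] at h
      exact top_le_iff.mp (h ▸ Subgroup.normalCore_le G)
  refine ⟨fun {a b} hab => ?_⟩
  have : MulAction.toPermHom H (H ⧸ G) a = MulAction.toPermHom H (H ⧸ G) b := by
    ext x
    exact hab x
  exact (MonoidHom.ker_eq_bot_iff _).mp hker this

end Cfsg.Agent.Helper69.SimsD
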