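import Mathlib
import Cfsg.Agent.Helper88.SimsD.Defs

/-!
# S2772 farm (helper88 #13205), leaf (Q3P) `preprimitive_quotient` (helper69)
-/

set_option autoImplicit false

namespace Cfsg.Agent.Helper69.SimsD

open Cfsg.Agent.Helper88.SimsD

/-- (Q3P) the action on the cosets of a maximal subgroup is primitive. -/
theorem preprimitive_quotient {H : Type*} [Group H] (G : Subgroup H) (hG : IsCoatom G) :
    MulAction.IsPreprimitive H (H ⧸ G) := by
  have hpt : MulAction.IsPretransitive H (H ⧸ G) := MulAction.isPretransitive_quotient H G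
  have hnt : Nontrivial (H ⧸ G) := by
    by_contra hcon
    rw [not_nontrivial_iff_subsingleton] at hcon
    exact hG.1 (QuotientGroup.subgroup_eq_top_of_subsingleton G hcon)
  rw [← MulAction.isCoatom_stabilizer_iff_preprimitive H ((1 : H) : H ⧸ G)]
  rwa [MulAction.stabilizer_quotient]

end Cfsg.Agent.Helper69.SimsD
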