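import Mathlib
import Cfsg.Agent.S3742
import Cfsg.Agent.Helper61.S3tAbsC

set_option autoImplicit false
open Cfsg

namespace Cfsg.Agent.Helper69.TIHallAut2

open Subgroup
open scoped commutatorElement

/-- If the conjugation automorphisms of `T` induced by `x, y ∈ N(T)` commute then `[x, y]` centralizes `T`. -/
theorem commutator_mem_centralizer_of_commute {G : Type*} [Group G] (T : Subgroup G) {x y : G}
    (hx : x ∈ normalizer (T : Set G)) (hy : y ∈ normalizer (T : Set G))
    (h : T.normalizerMonoidHom ⟨x, hx⟩ * T.normalizerMonoidHom ⟨y, hy⟩ =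
      T.normalizerMonoidHom ⟨y, hy⟩ * T.normalizerMonoidHom ⟨x, hx⟩) :
    ⁅x, y⁆ ∈ centralizer (T : Set G) := by
  rw [Subgroup.mem_centralizer_iff]
  intro t ht
  have h1 := congrArg (fun ψ : MulAut T => ((ψ ⟨x⁻¹ * (y⁻¹ * t * y) * x, by
    have h2 : y⁻¹ * t * y ∈ T := by
      have := (Subgroup.mem_normalizer_iff'').mp hy t
      exact this.mp ht
    have := (Subgroup.mem_normalizer_iff'').mp hx (y⁻¹ * t * y)
    exact this.mp h2⟩ : T) : G)) h
  simp only [MulAut.mul_apply, Subgroup.normalizerMonoidHom_apply_apply_coe] at h1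
  -- h1 : x * (y * (x⁻¹ * (y⁻¹ * t * y) * x) * y⁻¹) * x⁻¹ = y * (x * (x⁻¹ * (y⁻¹ * t * y) * x) * x⁻¹) * y⁻¹
  have h2 : x * y * x⁻¹ * y⁻¹ * t * (x * y * x⁻¹ * y⁻¹)⁻¹ = t := by
    have e1 : x * y * x⁻¹ * y⁻¹ * t * (x * y * x⁻¹ * y⁻¹)⁻¹
        = x * (y * (x⁻¹ * (y⁻¹ * t * y) * x) * y⁻¹) * x⁻¹ := by group
    have e2 : y * (x * (x⁻¹ * (y⁻¹ * t * y) * x) * x⁻¹) * y⁻¹ = t := by group
    rw [e1, h1, e2]
  rw [commutatorElement_def]
  calc t * (x * y * x⁻¹ * y⁻¹) = (x * y * x⁻¹ * y⁻¹ * t * (x * y * x⁻¹ * y⁻¹)⁻¹) * (x * y * x⁻¹ * y⁻¹) := by rw [h2]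
    _ = x * y * x⁻¹ * y⁻¹ * t := by group

/-- `Q ≤ N(T)` whose induced automorphisms of `T` commute pairwise has `[Q, Q] ≤ C(T)`. -/
theorem commutator_le_centralizer_of_forall_commute {G : Type*} [Group G] (T Q : Subgroup G)
    (hQ : Q ≤ normalizer (T : Set G))
    (h : ∀ (x y : G) (hx : x ∈ Q) (hy : y ∈ Q),
      T.normalizerMonoidHom ⟨x, hQ hx⟩ * T.normalizerMonoidHom ⟨y, hQ hy⟩ =
      T.normalizerMonoidHom ⟨y, hQ hy⟩ * T.normalizerMonoidHom ⟨x, hQ hx⟩) :
    ⁅Q, Q⁆ ≤ centralizer (T : Set G) := by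
  rw [Subgroup.commutator_le]
  intro x hx y hy
  exact commutator_mem_centralizer_of_commute T (hQ hx) (hQ hy) (h x y hx hy)

theorem commutator_le_centralizer_of_quaternion {G : Type*} [Group G] [Finite G] (T Q : Subgroup G) (n : ℕ)
    (e : T ≃* QuaternionGroup (2 ^ n)) (hQ : Q ≤ normalizer (T : Set G)) (hodd : Odd (Nat.card Q)) :
    ⁅Q, Q⁆ ≤ centralizer (T : Set G) := by
  -- the conjugation action of `Q` on `T`
  let ρ : Q →* MulAut T := (T.normalizerMonoidHom).comp (Subgroup.inclusion hQ)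
  have hρ : ∀ (x : G) (hx : x ∈ Q), T.normalizerMonoidHom ⟨x, hQ hx⟩ = ρ ⟨x, hx⟩ := fun x hx => rfl
  apply commutator_le_centralizer_of_forall_commute T Q hQ
  intro x y hx hy
  rw [hρ x hx, hρ y hy]
  have hpow : ∀ q : Q, (ρ q) ^ Nat.card Q = 1 := fun q => by
    rw [← map_pow, pow_card_eq_one', map_one]
  rcases Nat.lt_or_ge n 2 with hn | hn
  · interval_cases n
    · -- `T` cyclic of order 4
      haveI : IsCyclic (QuaternionGroup (2 ^ 0)) := QuaternionGroup.quaternionGroup_one_isCyclic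
      haveI : IsCyclic T := isCyclic_of_surjective e.symm.toMonoidHom e.symm.surjective
      apply (IsCyclic.mulAutMulEquiv T).injective
      rw [map_mul, map_mul, mul_comm]
    · -- `T ≅ Q₈`, `Aut T ≅ S₄`
      obtain ⟨φ⟩ := Cfsg.Agent.S3742.result
      let e' : T ≃* QuaternionGroup 2 := e
      let f : Q →* Equiv.Perm (Fin 4) := (φ.toMonoidHom.comp (MulAut.congr e').toMonoidHom).comp ρ
      have hf : ∀ q : Q, f q = φ (MulAut.congr e' (ρ q)) := fun q => rfl
      have hinj : Function.Injective (fun ψ : MulAut T => φ (MulAut.congr e' ψ)) :=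
        φ.injective.comp (MulAut.congr e').injective
      apply hinj
      show φ (MulAut.congr e' (ρ ⟨x, hx⟩ * ρ ⟨y, hy⟩)) = φ (MulAut.congr e' (ρ ⟨y, hy⟩ * ρ ⟨x, hx⟩))
      rw [map_mul, map_mul, map_mul, map_mul, ← hf, ← hf]
      -- the range of `f` has order dividing `gcd(|Q|, 24)`, hence 1 or 3
      have h1 : Nat.card f.range ∣ Nat.card Q := Subgroup.card_range_dvd f
      have h2 : Nat.card f.range ∣ 24 := by
        have := Subgroup.card_subgroup_dvd_card f.range
        rwa [Nat.card_eq_fintype_card (α := Equiv.Perm (Fin 4)), Fintype.card_perm, Fintype.card_fin] at this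
      have h3 : Odd (Nat.card f.range) := by
        obtain ⟨k, hk⟩ := h1
        rw [hk] at hodd
        exact (Nat.odd_mul.mp hodd).1
      have h4 : Nat.card f.range ∣ 3 := by
        have hc : (Nat.card f.range).Coprime 8 := by
          have : (Nat.card f.range).Coprime 2 := Nat.coprime_two_right.mpr h3
          exact Nat.Coprime.pow_right 3 this
        have : Nat.card f.range ∣ 8 * 3 := h2
        exact hc.dvd_of_dvd_mul_left this
      have hcomm : ∀ u v : f.range, u * v = v * u := by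
        rcases (Nat.dvd_prime Nat.prime_three).mp h4 with h5 | h5
        · haveI : Subsingleton f.range := (Nat.card_eq_one_iff_unique.mp h5).1
          intro u v
          exact Subsingleton.elim _ _
        · haveI : Fact (Nat.Prime 3) := ⟨Nat.prime_three⟩
          haveI : IsCyclic f.range := isCyclic_of_prime_card h5
          intro u v
          exact IsCyclic.commGroup.mul_comm u v
      have := hcomm ⟨f ⟨x, hx⟩, ⟨_, rfl⟩⟩ ⟨f ⟨y, hy⟩, ⟨_, rfl⟩⟩
      exact congrArg Subtype.val this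
  · -- generalized quaternion of order ≥ 16: odd-order automorphisms are trivial
    have htriv : ∀ q : Q, ρ q = 1 := by
      intro q
      have h1 : (MulAut.congr e (ρ q)) ^ Nat.card Q = 1 := by
        rw [← map_pow, hpow, map_one]
      have h2 := Cfsg.Agent.Helper61.S3t.quat_aut_odd hn (MulAut.congr e (ρ q)) hodd h1
      exact (MulAut.congr e).injective (by rw [h2, map_one])
    rw [htriv, htriv]

end Cfsg.Agent.Helper69.TIHallAut2
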