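import Mathlib
import Cfsg.Agent.Helper89.TT59Defs

/-!
# (RS) for S5559 (helper89 skeleton): restriction of an action to an invariant subgroup
-/

set_option autoImplicit false

namespace Cfsg.Agent.Helper69.TT59

open Cfsg.Agent.Helper89.TT59

/-- (RS) restriction of an action to an invariant subgroup -/
theorem exists_restrict {K : Type*} [Group K] {W : Type*} [Group W] (ρ : K →* MulAut W)
    (W' : Subgroup W) (hW' : ∀ k : K, ∀ w ∈ W', ρ k w ∈ W') :
    ∃ ρ' : K →* MulAut ↥W', ∀ (k : K) (w : ↥W'), ((ρ' k w : ↥W') : W) = ρ k (w : W) := by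
  let f : K → MulAut ↥W' := fun k =>
    { toFun := fun w => ⟨ρ k w, hW' k w w.2⟩
      invFun := fun w => ⟨ρ k⁻¹ w, hW' k⁻¹ w w.2⟩
      left_inv := fun w => by
        apply Subtype.ext
        simp [map_inv]
      right_inv := fun w => by
        apply Subtype.ext
        simp [map_inv]
      map_mul' := fun a b => by
        apply Subtype.ext
        simp }
  have hf : ∀ a b : K, f (a * b) = f a * f b := by
    intro a b
    ext w
    simp [f]
  exact ⟨MonoidHom.mk' f hf, fun k w => rfl⟩

end Cfsg.Agent.Helper69.TT59
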