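import Mathlib
import Cfsg.Prelude.Def_SporadicB
import Cfsg.Agent.Helper70.FrattiniAction
import Cfsg.Agent.Helper50.E8Frat
import Cfsg.Agent.Helper89.TT59Defs

/-!
# (ST) for S5559 (helper89 skeleton): the 3-transposition property on the Frattini quotient
-/

set_option autoImplicit false

namespace Cfsg.Agent.Helper69.TT59

open Cfsg.Agent.Helper89.TT59

/-- (ST) the 3-transposition property in `H` gives `C_W(ab) ≤ C_W(b)` on `W = Q/Φ(Q)` -/
theorem star_frattini {H : Type*} [Group H] [Finite H] {E : Set H}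
    (hE : Cfsg.IsThreeTranspositionClass E) (Q : Subgroup H) [Q.Normal] (hQ : IsPGroup 2 Q)
    (a b : H) (ha : a ∈ E) (hb : b ∈ E) (hab : a * b ∉ Q) (hab3 : (a * b) ^ 3 = 1)
    (w : ↥Q ⧸ frattini ↥Q)
    (hw : Cfsg.Agent.Helper70.frattiniAct Q (a * b) w = w) :
    Cfsg.Agent.Helper70.frattiniAct Q b w = w := by
  haveI : Fact (Nat.Prime 2) := ⟨Nat.prime_two⟩
  obtain ⟨⟨hord, h23⟩, ⟨d0, hd0, hEq⟩, -⟩ := hE
  induction w using QuotientGroup.induction_on with | _ u => ?_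
  have hb2 : b * b = 1 := by
    have := hord b hb
    rw [← pow_two, ← this]; exact pow_orderOf_eq_one b
  have ha2 : a * a = 1 := by
    have := hord a ha
    rw [← pow_two, ← this]; exact pow_orderOf_eq_one a
  have hbinv : b⁻¹ = b := inv_eq_of_mul_eq_one_left hb2
  have hainv : a⁻¹ = a := inv_eq_of_mul_eq_one_left ha2
  obtain ⟨y, hy⟩ : ∃ y : H, y = a * b := ⟨_, rfl⟩
  rw [← hy] at hab hab3 hw
  -- the conjugate `u⁻¹ b u` lies in `E`
  have he' : (u : H)⁻¹ * b * u ∈ E := by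
    rw [hEq] at hb ⊢
    change IsConj d0 b at hb
    change IsConj d0 ((u : H)⁻¹ * b * u)
    refine hb.trans ?_
    rw [isConj_iff]
    exact ⟨(u : H)⁻¹, by rw [inv_inv]⟩
  obtain ⟨c, hc⟩ : ∃ c : H, c = b⁻¹ * (u : H)⁻¹ * b * u := ⟨_, rfl⟩
  have hcQ : c ∈ Q := by
    rw [hc]
    have h1 : b⁻¹ * (u : H)⁻¹ * b ∈ Q := by
      have := ‹Q.Normal›.conj_mem _ (Q.inv_mem u.2) b⁻¹
      simpa using this
    exact Q.mul_mem h1 u.2
  have hyc : a * ((u : H)⁻¹ * b * u) = y * c := by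
    rw [hy, hc]; group
  have h3 : (y * c) ^ 3 = 1 := by
    rcases h23 a ha _ he' with h | h
    · exfalso
      rw [hyc] at h
      apply hab
      have h1 : ((y * c : H) : H ⧸ Q) = (y : H ⧸ Q) := by
        rw [QuotientGroup.mk_mul, (QuotientGroup.eq_one_iff c).mpr hcQ, mul_one]
      have h2 : ((y : H) : H ⧸ Q) ^ 2 = 1 := by
        rw [← h1, ← QuotientGroup.mk_pow, h]; rfl
      have h3' : ((y : H) : H ⧸ Q) ^ 3 = 1 := by
        rw [← QuotientGroup.mk_pow, hab3]; rfl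
      have h4 : ((y : H) : H ⧸ Q) = 1 := by
        calc ((y : H) : H ⧸ Q) = (y : H ⧸ Q) ^ 3 * ((y : H ⧸ Q) ^ 2)⁻¹ := by group
          _ = 1 := by rw [h2, h3']; simp
      exact (QuotientGroup.eq_one_iff y).mp h4
    · rw [hyc] at h; exact h
  -- now compute in `W`
  obtain ⟨A, hA⟩ : ∃ A : H →* MulAut (↥Q ⧸ frattini ↥Q),
      A = Cfsg.Agent.Helper70.frattiniAct Q := ⟨_, rfl⟩
  rw [← hA] at hw ⊢
  have hAmk : ∀ (g : H) (x : ↥Q), A g ((x : ↥Q) : ↥Q ⧸ frattini ↥Q) =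
      ((⟨g * x * g⁻¹, ‹Q.Normal›.conj_mem x x.2 g⟩ : ↥Q) : ↥Q ⧸ frattini ↥Q) := by
    intro g x
    rw [hA]
    exact Cfsg.Agent.Helper70.frattiniAct_mk Q g x
  obtain ⟨ub, hub⟩ : ∃ ub : ↥Q ⧸ frattini ↥Q, ub = ((u : ↥Q) : ↥Q ⧸ frattini ↥Q) := ⟨_, rfl⟩
  rw [← hub] at hw ⊢
  obtain ⟨cb, hcb⟩ : ∃ cb : ↥Q ⧸ frattini ↥Q,
      cb = ((⟨c, hcQ⟩ : ↥Q) : ↥Q ⧸ frattini ↥Q) := ⟨_, rfl⟩
  have hcbar : cb = (A b ub)⁻¹ * ub := by
    rw [hcb, hub, hAmk, ← QuotientGroup.mk_inv, ← QuotientGroup.mk_mul]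
    congr 1
    apply Subtype.ext
    simp only [Subgroup.coe_mul, Subgroup.coe_inv]
    have h1 : b⁻¹ * (u : H)⁻¹ * b = b * (u : H)⁻¹ * b⁻¹ := by rw [hbinv]
    rw [hc, h1]
    group
  have hyinv : A y⁻¹ ub = ub := by
    calc A y⁻¹ ub = (A y)⁻¹ (A y ub) := by rw [hw, map_inv]
      _ = ub := MulAut.inv_apply_self _ _ _
  have hAa : A (y * b) ub = A b ub := by
    have h1 : y * b = b * y⁻¹ := by
      rw [hy, mul_inv_rev, hainv, hbinv, mul_assoc, hb2, mul_one, ← mul_assoc, hb2, one_mul]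
    rw [h1, map_mul, MulAut.mul_apply, hyinv]
  have hAyc : A y cb = cb := by
    rw [hcbar, map_mul, map_inv, hw, ← MulAut.mul_apply, ← map_mul, hAa]
  have hy2 : (y * y)⁻¹ = y := by
    apply inv_eq_of_mul_eq_one_right
    rw [← hab3, pow_succ, pow_two]
  have hrel : A y cb * A y (A y cb) * cb = 1 := by
    rw [← MulAut.mul_apply, ← map_mul, hcb, hAmk, hAmk, ← QuotientGroup.mk_mul,
      ← QuotientGroup.mk_mul]
    have h1 : (⟨y * c * y⁻¹, ‹Q.Normal›.conj_mem c hcQ y⟩ : ↥Q) *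
        ⟨y * y * c * (y * y)⁻¹, ‹Q.Normal›.conj_mem c hcQ (y * y)⟩ * ⟨c, hcQ⟩ = 1 := by
      apply Subtype.ext
      simp only [Subgroup.coe_mul, Subgroup.coe_one]
      rw [hy2]
      calc y * c * y⁻¹ * (y * y * c * y) * c = (y * c) ^ 3 := by
            rw [pow_succ, pow_two]; group
        _ = 1 := h3
    rw [h1]
    rfl
  rw [hAyc, hAyc] at hrel
  have hc2 : cb * cb = 1 := by
    have := Cfsg.Agent.Helper50.fq_pow hQ cb
    rwa [pow_two] at this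
  rw [hc2, one_mul] at hrel
  rw [hcbar, inv_mul_eq_one] at hrel
  exact hrel

end Cfsg.Agent.Helper69.TT59
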