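import Mathlib
import Cfsg.Agent.Helper63.Frattini
import Cfsg.Agent.Helper70.FrattiniAction

set_option autoImplicit false

/-!
# Two-generator `p`-groups modulo a normal subgroup not inside the Frattini subgroup (helper69)
-/

namespace Cfsg.Agent.Helper69.Tgp

variable {Q : Type*} [Group Q] [Finite Q] {p : ℕ} [hp : Fact p.Prime]

theorem card_lt_card_of_lt' {X : Type*} [Group X] [Finite X] {H K : Subgroup X} (h : H < K) :
    Nat.card H < Nat.card K := by
  by_contra hcon
  push Not at hcon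
  exact h.ne (Subgroup.eq_of_le_of_card_ge h.le hcon)

/-- In a finite `p`-group with Frattini quotient of order `p²`, modulo a normal subgroup not inside
the Frattini subgroup the group is generated by one element. -/
theorem exists_gen_mod (hQ : IsPGroup p Q) (hidx : (frattini Q).index = p ^ 2)
    (A : Subgroup Q) [A.Normal] (hA : ¬ A ≤ frattini Q) :
    ∃ y : Q, ∀ x : Q, ∃ k : ℕ, ∃ a ∈ A, x = a * y ^ k := by
  have hpp : p.Prime := hp.out
  obtain ⟨a, haA, haF⟩ : ∃ a ∈ A, a ∉ frattini Q := by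
    by_contra hcon
    push Not at hcon
    exact hA hcon
  have hcardR : Nat.card (Q ⧸ frattini Q) = p ^ 2 := by
    rw [← Subgroup.index_eq_card, hidx]
  have hane : ((a : Q) : Q ⧸ frattini Q) ≠ 1 := by
    intro h
    exact haF ((QuotientGroup.eq_one_iff a).1 h)
  have hapow : ((a : Q) : Q ⧸ frattini Q) ^ p = 1 := by
    rw [← QuotientGroup.mk_pow, QuotientGroup.eq_one_iff]
    exact Cfsg.Agent.Helper63.pow_prime_mem_frattini hQ a
  have hord : orderOf ((a : Q) : Q ⧸ frattini Q) = p := orderOf_eq_prime hapow hane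
  have hcardZ : Nat.card (Subgroup.zpowers ((a : Q) : Q ⧸ frattini Q)) = p := by
    rw [Nat.card_zpowers, hord]
  obtain ⟨yb, hyb⟩ : ∃ yb : Q ⧸ frattini Q, yb ∉ Subgroup.zpowers ((a : Q) : Q ⧸ frattini Q) := by
    by_contra hcon
    push Not at hcon
    have htop : Subgroup.zpowers ((a : Q) : Q ⧸ frattini Q) = ⊤ := by
      rw [eq_top_iff]
      intro x _
      exact hcon x
    rw [htop, Subgroup.card_top, hcardR] at hcardZ
    have h2 : p ^ 2 = p ^ 1 := by rw [pow_one]; exact hcardZ
    have := Nat.pow_right_injective hpp.two_le h2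
    omega
  obtain ⟨y, rfl⟩ := QuotientGroup.mk_surjective yb
  refine ⟨y, ?_⟩
  -- the subgroup generated by `a` and `y`
  obtain ⟨H, hH⟩ : ∃ H : Subgroup Q, H = Subgroup.closure {a, y} := ⟨_, rfl⟩
  have haH : a ∈ H := by rw [hH]; exact Subgroup.subset_closure (by simp)
  have hyH : y ∈ H := by rw [hH]; exact Subgroup.subset_closure (by simp)
  have hHtop : H = ⊤ := by
    apply frattini_nongenerating
    have hmap : H.map (QuotientGroup.mk' (frattini Q)) = ⊤ := by
      have hlt : Subgroup.zpowers ((a : Q) : Q ⧸ frattini Q) < H.map (QuotientGroup.mk' (frattini Q)) := by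
        refine lt_of_le_of_ne ?_ ?_
        · rw [Subgroup.zpowers_le]
          exact ⟨a, haH, rfl⟩
        · intro heq
          apply hyb
          rw [heq]
          exact ⟨y, hyH, rfl⟩
      have hlt2 := card_lt_card_of_lt' hlt
      rw [hcardZ] at hlt2
      have hdvd : Nat.card (H.map (QuotientGroup.mk' (frattini Q))) ∣ p ^ 2 := by
        rw [← hcardR]
        exact Subgroup.card_subgroup_dvd_card _
      obtain ⟨j, hj, hjeq⟩ := (Nat.dvd_prime_pow hpp).1 hdvd
      have hj2 : j = 2 := by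
        rw [hjeq] at hlt2
        have : p ^ 1 < p ^ j := by rw [pow_one]; exact hlt2
        have := (Nat.pow_lt_pow_iff_right hpp.one_lt).1 this
        omega
      apply Subgroup.eq_top_of_card_eq
      rw [hjeq, hj2, hcardR]
    have h2 := Subgroup.comap_map_eq (QuotientGroup.mk' (frattini Q)) H
    rw [hmap, Subgroup.comap_top, QuotientGroup.ker_mk'] at h2
    exact h2.symm
  intro x
  have hx : x ∈ A ⊔ Subgroup.zpowers y := by
    have hle : H ≤ A ⊔ Subgroup.zpowers y := by
      rw [hH, Subgroup.closure_le]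
      intro z hz
      rcases hz with rfl | hz
      · exact Subgroup.mem_sup_left haA
      · rw [Set.mem_singleton_iff] at hz
        rw [hz]
        exact Subgroup.mem_sup_right (Subgroup.mem_zpowers y)
    apply hle
    rw [hHtop]
    exact Subgroup.mem_top x
  rw [Subgroup.mem_sup_of_normal_left] at hx
  obtain ⟨a', ha', z, hz, rfl⟩ := hx
  have hz' : z ∈ Submonoid.powers y := (isOfFinOrder_of_finite y).mem_powers_iff_mem_zpowers.2 hz
  obtain ⟨k, rfl⟩ := (Submonoid.mem_powers_iff z y).1 hz'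
  exact ⟨k, a', ha', rfl⟩

/-- Under the same hypotheses, all commutators lie in `A`. -/
theorem commutator_mem_of_not_le (hQ : IsPGroup p Q) (hidx : (frattini Q).index = p ^ 2)
    (A : Subgroup Q) [A.Normal] (hA : ¬ A ≤ frattini Q) (u v : Q) :
    u * v * u⁻¹ * v⁻¹ ∈ A := by
  obtain ⟨y, hy⟩ := exists_gen_mod hQ hidx A hA
  obtain ⟨i, a, ha, rfl⟩ := hy u
  obtain ⟨j, b, hb, rfl⟩ := hy v
  rw [← QuotientGroup.eq_one_iff]
  have h1 : ((a : Q) : Q ⧸ A) = 1 := (QuotientGroup.eq_one_iff a).2 ha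
  have h2 : ((b : Q) : Q ⧸ A) = 1 := (QuotientGroup.eq_one_iff b).2 hb
  simp only [QuotientGroup.mk_mul, QuotientGroup.mk_inv, QuotientGroup.mk_pow, h1, h2, one_mul]
  have hc : Commute ((y : Q ⧸ A) ^ i) ((y : Q ⧸ A) ^ j) := (Commute.refl _).pow_pow i j
  rw [hc.eq]
  group

/-- Two normal subgroups with trivial intersection, neither inside the Frattini subgroup: the group is
commutative. -/
theorem comm_of_two (hQ : IsPGroup p Q) (hidx : (frattini Q).index = p ^ 2)
    (A₁ A₂ : Subgroup Q) [A₁.Normal] [A₂.Normal] (h₁ : ¬ A₁ ≤ frattini Q) (h₂ : ¬ A₂ ≤ frattini Q)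
    (hdisj : A₁ ⊓ A₂ = ⊥) (u v : Q) : u * v = v * u := by
  have h3 : u * v * u⁻¹ * v⁻¹ ∈ A₁ ⊓ A₂ := by
    rw [Subgroup.mem_inf]
    exact ⟨commutator_mem_of_not_le hQ hidx A₁ h₁ u v, commutator_mem_of_not_le hQ hidx A₂ h₂ u v⟩
  rw [hdisj, Subgroup.mem_bot] at h3
  have : u * v = (u * v * u⁻¹ * v⁻¹) * (v * u) := by group
  rw [this, h3, one_mul]

end Cfsg.Agent.Helper69.Tgp
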