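import Mathlib
import Cfsg.Agent.Helper69.Tgp1
import Cfsg.Agent.S0081
import Cfsg.Agent.Helper64.PNilp
import Cfsg.Agent.Helper22.PComponent3
import Cfsg.Agent.Helper32.FStarQuot
import Cfsg.Agent.Lib.Cores

set_option autoImplicit false

/-!
# Sylow `p`-subgroups with two generators: consequences of Tate's theorem (helper69)
-/

namespace Cfsg.Agent.Helper69.Tgp

open Cfsg

variable {G : Type*} [Group G] [Finite G] {p : ℕ} [hp : Fact p.Prime]

/-- The Frattini subgroup of the Sylow subgroup, as a subgroup of `G`. -/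
def Phi (P : Sylow p G) : Subgroup G := (frattini ↥(P : Subgroup G)).map (P : Subgroup G).subtype

theorem Phi_le (P : Sylow p G) : Phi P ≤ (P : Subgroup G) := Subgroup.map_subtype_le _

/-- The standing hypotheses. -/
structure Hyp (P : Sylow p G) : Prop where
  hna : ¬ ∀ a ∈ (P : Subgroup G), ∀ b ∈ (P : Subgroup G), a * b = b * a
  hgen : (frattini ↥(P : Subgroup G)).index = p ^ 2
  hcore : Cfsg.pPrimeCore p G = ⊥
  hfrat : (Phi P).normalCore = ⊥

theorem not_subgroupOf_le_frattini (P : Sylow p G) {K : Subgroup G}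
    (h : ¬ K ⊓ (P : Subgroup G) ≤ Phi P) :
    ¬ K.subgroupOf (P : Subgroup G) ≤ frattini ↥(P : Subgroup G) := by
  intro hle
  apply h
  intro x hx
  rw [Subgroup.mem_inf] at hx
  exact ⟨⟨x, hx.2⟩, hle (Subgroup.mem_subgroupOf.2 hx.1), rfl⟩

/-- A subnormal subgroup with a normal `p`-complement is a `p`-group when `O_{p'}(G) = 1`. -/
theorem isPGroup_of_hasNormalPComplement (hcore : Cfsg.pPrimeCore p G = ⊥) {S : Subgroup G}
    (hS : S.IsSubnormal) (h : Cfsg.HasNormalPComplement p ↥S) : IsPGroup p ↥S := by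
  obtain ⟨N, hNn, hNc, k, hk⟩ := Cfsg.Agent.Helper64.hasNormalPComplement_iff_exists.1 h
  have h1 : N ≤ Cfsg.pPrimeCore p ↥S := Cfsg.Agent.Lib.le_pPrimeCore hNn hNc
  have h2 : Cfsg.pPrimeCore p ↥S = ⊥ := by
    have := Cfsg.Agent.Helper22.map_pPrimeCore_subtype_of_isSubnormal p hS
    rw [hcore, bot_inf_eq, Subgroup.map_eq_bot_iff_of_injective _ S.subtype_injective] at this
    exact this
  have h3 : N = ⊥ := by rw [← le_bot_iff, ← h2]; exact h1
  rw [h3, Subgroup.index_bot] at hk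
  exact IsPGroup.of_card hk

/-- Local form of Tate's theorem. -/
theorem not_inf_le_Phi (P : Sylow p G) (hcore : Cfsg.pPrimeCore p G = ⊥) (D : Subgroup G)
    (hPD : (P : Subgroup G) ≤ Subgroup.normalizer (D : Set G)) (K : Subgroup G) (hKD : K ≤ D)
    (hKsn : K.IsSubnormal) (hKnp : ¬ IsPGroup p ↥K) : ¬ D ⊓ (P : Subgroup G) ≤ Phi P := by
  intro hle
  obtain ⟨X, hX⟩ : ∃ X : Subgroup G, X = Subgroup.normalizer (D : Set G) := ⟨_, rfl⟩
  have hDX : D ≤ X := hX ▸ Subgroup.le_normalizer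
  have hPX : (P : Subgroup G) ≤ X := hX ▸ hPD
  haveI hN : (D.subgroupOf X).Normal := by
    rw [Subgroup.normal_subgroupOf_iff_le_normalizer hDX, hX]
  have hT : Cfsg.HasNormalPComplement p ↥(D.subgroupOf X) := by
    apply Cfsg.Agent.S0081.result (P.subtype hPX) (D.subgroupOf X)
    intro z hz
    rw [Subgroup.mem_inf] at hz
    have hzD : (z : G) ∈ D := Subgroup.mem_subgroupOf.1 hz.1
    have hzP : (z : G) ∈ (P : Subgroup G) := Subgroup.mem_subgroupOf.1 hz.2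
    have hzPhi : (z : G) ∈ Phi P := hle (Subgroup.mem_inf.2 ⟨hzD, hzP⟩)
    have htr := Cfsg.Agent.Helper32.map_frattini_subgroupOf hPX
    unfold Phi at hzPhi
    rw [← htr] at hzPhi
    obtain ⟨z', hz', hzz'⟩ := hzPhi
    have : z' = z := Subtype.ext hzz'
    rw [← this]
    exact hz'
  have hT2 : Cfsg.HasNormalPComplement p ↥D :=
    Cfsg.Agent.Helper64.hasNormalPComplement_of_mulEquiv (Subgroup.subgroupOfEquivOfLe hDX) hT
  have hT3 : Cfsg.HasNormalPComplement p ↥K := Cfsg.Agent.Helper64.hasNormalPComplement_mono hKD hT2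
  exact hKnp (isPGroup_of_hasNormalPComplement hcore hKsn hT3)

variable {P : Sylow p G}

/-- A nontrivial normal subgroup does not meet `P` inside `Φ(P)`. -/
theorem Hyp.not_le_Phi (h : Hyp P) {K : Subgroup G} (hK : K.Normal) (hne : K ≠ ⊥) :
    ¬ K ⊓ (P : Subgroup G) ≤ Phi P := by
  by_cases hKp : IsPGroup p ↥K
  · intro hle
    have h1 : K ≤ (P : Subgroup G) := Cfsg.Agent.Lib.normal_pGroup_le_sylow hK hKp P
    have h2 : K ≤ Phi P := by
      intro x hx
      exact hle (Subgroup.mem_inf.2 ⟨hx, h1 hx⟩)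
    have h3 : K ≤ (Phi P).normalCore := (Subgroup.normal_le_normalCore).2 h2
    rw [h.hfrat, le_bot_iff] at h3
    exact hne h3
  · exact not_inf_le_Phi P h.hcore K (by
      rw [Subgroup.normalizer_eq_top]; exact le_top) K le_rfl hK.isSubnormal hKp

theorem Hyp.isPGroup (_h : Hyp P) : IsPGroup p ↥(P : Subgroup G) := P.2

/-- Two subgroups normalized by `P`, with trivial intersection: one of them meets `P` inside `Φ(P)`. -/
theorem Hyp.le_Phi_of_disjoint (h : Hyp P) (D₁ D₂ : Subgroup G)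
    (h₁ : (P : Subgroup G) ≤ Subgroup.normalizer (D₁ : Set G))
    (h₂ : (P : Subgroup G) ≤ Subgroup.normalizer (D₂ : Set G)) (hd : D₁ ⊓ D₂ = ⊥) :
    D₁ ⊓ (P : Subgroup G) ≤ Phi P ∨ D₂ ⊓ (P : Subgroup G) ≤ Phi P := by
  by_contra hcon
  push Not at hcon
  obtain ⟨hc1, hc2⟩ := hcon
  haveI n1 : (D₁.subgroupOf (P : Subgroup G)).Normal := by
    rw [← Subgroup.inf_subgroupOf_right, Subgroup.normal_subgroupOf_iff_le_normalizer inf_le_right]
    intro x hx
    have hx1 := h₁ hx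
    rw [Subgroup.mem_normalizer_iff] at hx1 ⊢
    intro y
    rw [Subgroup.mem_inf, Subgroup.mem_inf, ← hx1 y]
    constructor
    · rintro ⟨a, b⟩
      exact ⟨a, (P : Subgroup G).mul_mem ((P : Subgroup G).mul_mem hx b) ((P : Subgroup G).inv_mem hx)⟩
    · rintro ⟨a, b⟩
      refine ⟨a, ?_⟩
      have : y = x⁻¹ * (x * y * x⁻¹) * x := by group
      rw [this]
      exact (P : Subgroup G).mul_mem ((P : Subgroup G).mul_mem ((P : Subgroup G).inv_mem hx) b) hx
  haveI n2 : (D₂.subgroupOf (P : Subgroup G)).Normal := by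
    rw [← Subgroup.inf_subgroupOf_right, Subgroup.normal_subgroupOf_iff_le_normalizer inf_le_right]
    intro x hx
    have hx1 := h₂ hx
    rw [Subgroup.mem_normalizer_iff] at hx1 ⊢
    intro y
    rw [Subgroup.mem_inf, Subgroup.mem_inf, ← hx1 y]
    constructor
    · rintro ⟨a, b⟩
      exact ⟨a, (P : Subgroup G).mul_mem ((P : Subgroup G).mul_mem hx b) ((P : Subgroup G).inv_mem hx)⟩
    · rintro ⟨a, b⟩
      refine ⟨a, ?_⟩
      have : y = x⁻¹ * (x * y * x⁻¹) * x := by group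
      rw [this]
      exact (P : Subgroup G).mul_mem ((P : Subgroup G).mul_mem ((P : Subgroup G).inv_mem hx) b) hx
  have hdisj : D₁.subgroupOf (P : Subgroup G) ⊓ D₂.subgroupOf (P : Subgroup G) = ⊥ := by
    rw [eq_bot_iff]
    intro x hx
    rw [Subgroup.mem_inf, Subgroup.mem_subgroupOf, Subgroup.mem_subgroupOf] at hx
    have : (x : G) ∈ D₁ ⊓ D₂ := Subgroup.mem_inf.2 hx
    rw [hd, Subgroup.mem_bot] at this
    rw [Subgroup.mem_bot]
    exact Subtype.ext this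
  apply h.hna
  intro a ha b hb
  have := comm_of_two h.isPGroup h.hgen _ _ (not_subgroupOf_le_frattini P hc1)
    (not_subgroupOf_le_frattini P hc2) hdisj ⟨a, ha⟩ ⟨b, hb⟩
  exact congrArg Subtype.val this

/-- Two nontrivial normal subgroups meet nontrivially. -/
theorem Hyp.inf_ne_bot (h : Hyp P) {K₁ K₂ : Subgroup G} (hK₁ : K₁.Normal) (hK₂ : K₂.Normal)
    (hne₁ : K₁ ≠ ⊥) (hne₂ : K₂ ≠ ⊥) : K₁ ⊓ K₂ ≠ ⊥ := by
  intro hd
  have hn : ∀ K : Subgroup G, K.Normal → (P : Subgroup G) ≤ Subgroup.normalizer (K : Set G) := by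
    intro K hK
    rw [Subgroup.normalizer_eq_top]
    exact le_top
  rcases h.le_Phi_of_disjoint K₁ K₂ (hn K₁ hK₁) (hn K₂ hK₂) hd with h1 | h1
  · exact h.not_le_Phi hK₁ hne₁ h1
  · exact h.not_le_Phi hK₂ hne₂ h1

theorem Hyp.top_ne_bot (h : Hyp P) : (⊤ : Subgroup G) ≠ ⊥ := by
  intro htb
  apply h.hna
  intro a _ b _
  have ha : a ∈ (⊤ : Subgroup G) := Subgroup.mem_top a
  have hb : b ∈ (⊤ : Subgroup G) := Subgroup.mem_top b
  rw [htb, Subgroup.mem_bot] at ha hb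
  rw [ha, hb]

/-- There is a least nontrivial normal subgroup. -/
theorem Hyp.exists_least (h : Hyp P) :
    ∃ M : Subgroup G, M.Normal ∧ M ≠ ⊥ ∧ ∀ K : Subgroup G, K.Normal → K ≠ ⊥ → M ≤ K := by
  classical
  have hex : ∃ n, ∃ K : Subgroup G, K.Normal ∧ K ≠ ⊥ ∧ Nat.card K = n :=
    ⟨_, ⊤, inferInstance, h.top_ne_bot, rfl⟩
  obtain ⟨K₀, hn0, hne0, hc0⟩ := Nat.find_spec hex
  refine ⟨K₀, hn0, hne0, ?_⟩
  intro K hK hne
  have h1 : (K₀ ⊓ K).Normal := by haveI := hn0; haveI := hK; infer_instance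
  have h2 : K₀ ⊓ K ≠ ⊥ := h.inf_ne_bot hn0 hK hne0 hne
  have h3 : Nat.find hex ≤ Nat.card ↥(K₀ ⊓ K) := Nat.find_min' hex ⟨K₀ ⊓ K, h1, h2, rfl⟩
  rw [← hc0] at h3
  have h4 : K₀ ⊓ K = K₀ := Subgroup.eq_of_le_of_card_ge inf_le_left h3
  rw [← h4]
  exact inf_le_right

/-- The image of `P` modulo a nontrivial normal subgroup is cyclic. -/
theorem Hyp.isCyclic_map (h : Hyp P) {K : Subgroup G} [hK : K.Normal] (hne : K ≠ ⊥) :
    IsCyclic ↥((P : Subgroup G).map (QuotientGroup.mk' K)) := by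
  have h1 := not_subgroupOf_le_frattini P (h.not_le_Phi hK hne)
  obtain ⟨y, hy⟩ := exists_gen_mod h.isPGroup h.hgen (K.subgroupOf (P : Subgroup G)) h1
  refine ⟨⟨⟨QuotientGroup.mk' K (y : G), ⟨(y : G), y.2, rfl⟩⟩, ?_⟩⟩
  rintro ⟨z, x, hx, rfl⟩
  obtain ⟨k, a, ha, hxa⟩ := hy ⟨x, hx⟩
  refine ⟨(k : ℤ), ?_⟩
  apply Subtype.ext
  have hx2 : x = (a : G) * (y : G) ^ k := by
    have := congrArg Subtype.val hxa
    simpa using this
  have ha2 : (a : G) ∈ K := Subgroup.mem_subgroupOf.1 ha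
  show ((⟨QuotientGroup.mk' K (y : G), _⟩ : ↥((P : Subgroup G).map (QuotientGroup.mk' K))) ^ (k : ℤ)).1
    = QuotientGroup.mk' K x
  rw [zpow_natCast, Subgroup.coe_pow, hx2, map_mul, map_pow]
  have : QuotientGroup.mk' K (a : G) = 1 := by
    rw [QuotientGroup.mk'_apply, QuotientGroup.eq_one_iff]
    exact ha2
  rw [this, one_mul]

end Cfsg.Agent.Helper69.Tgp
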