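import Mathlib
import Cfsg.Agent.Helper69.Tgp2
import Cfsg.Agent.Helper21.Radical
import Cfsg.Agent.Helper21.Components
import Cfsg.Agent.Helper21.Layer
import Cfsg.Agent.Helper22.Layer
import Cfsg.Agent.Helper22.PConstrained
import Cfsg.Agent.Helper33.TransferCentral
import Cfsg.Agent.Helper47.Frattini

set_option autoImplicit false

/-!
# The least normal subgroup and `F*(G)` (helper69)
-/

namespace Cfsg.Agent.Helper69.Tgp

open Cfsg
open scoped Pointwise

variable {G : Type*} [Group G] [Finite G] {p : ℕ} [hp : Fact p.Prime] {P : Sylow p G}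

theorem pow_mem_Phi (P : Sylow p G) {x : G} (hx : x ∈ (P : Subgroup G)) : x ^ p ∈ Phi P :=
  ⟨⟨x, hx⟩ ^ p, Cfsg.Agent.Helper63.pow_prime_mem_frattini P.2 ⟨x, hx⟩, rfl⟩

theorem comm_mem_Phi (P : Sylow p G) {x y : G} (hx : x ∈ (P : Subgroup G))
    (hy : y ∈ (P : Subgroup G)) : x * y * x⁻¹ * y⁻¹ ∈ Phi P := by
  have hmem : (⟨x, hx⟩ * ⟨y, hy⟩ * ⟨x, hx⟩⁻¹ * ⟨y, hy⟩⁻¹ : ↥(P : Subgroup G)) ∈
      frattini ↥(P : Subgroup G) := by
    rw [← QuotientGroup.eq_one_iff]
    have h1 := Cfsg.Agent.Helper70.frattiniQuot_comm P.2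
      ((⟨x, hx⟩ : ↥(P : Subgroup G)) : ↥(P : Subgroup G) ⧸ frattini ↥(P : Subgroup G))
      ((⟨y, hy⟩ : ↥(P : Subgroup G)) : ↥(P : Subgroup G) ⧸ frattini ↥(P : Subgroup G))
    simp only [QuotientGroup.mk_mul, QuotientGroup.mk_inv]
    rw [h1]
    group
  exact ⟨_, hmem, rfl⟩

theorem commutator_le_Phi (P : Sylow p G) : ⁅(P : Subgroup G), (P : Subgroup G)⁆ ≤ Phi P := by
  rw [Subgroup.commutator_le]
  intro x hx y hy
  rw [commutatorElement_def]
  exact comm_mem_Phi P hx hy

/-- The non-commutative case. -/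
theorem Hyp.noncomm_case (h : Hyp P) {M : Subgroup G} (hMn : M.Normal) (hMne : M ≠ ⊥)
    (hleast : ∀ K : Subgroup G, K.Normal → K ≠ ⊥ → M ≤ K)
    (hnc : ¬ ∀ a ∈ M, ∀ b ∈ M, a * b = b * a) :
    Subgroup.centralizer (M : Set G) = ⊥ ∧ fittingSubgroup G = ⊥ ∧
      ∀ K : Subgroup G, IsComponent K → K ≤ M := by
  haveI := hMn
  have hCn : (Subgroup.centralizer (M : Set G)).Normal := Subgroup.normal_centralizer
  have hCM : Subgroup.centralizer (M : Set G) ⊓ M = ⊥ := by
    by_contra hcon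
    have h1 : (Subgroup.centralizer (M : Set G) ⊓ M).Normal := by
      haveI := hCn; infer_instance
    have h2 := hleast _ h1 hcon
    apply hnc
    intro a ha b hb
    have ha' := (Subgroup.mem_inf.1 (h2 ha)).1
    rw [Subgroup.mem_centralizer_iff] at ha'
    exact (ha' b hb).symm
  have hC : Subgroup.centralizer (M : Set G) = ⊥ := by
    by_contra hcon
    exact h.inf_ne_bot hCn hMn hcon hMne hCM
  have hF : fittingSubgroup G = ⊥ := by
    by_contra hcon
    have hFn : (fittingSubgroup G).Normal := Cfsg.Agent.Lib.fittingSubgroup_normal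
    have hMF : M ≤ fittingSubgroup G := hleast _ hFn hcon
    have hFp : IsPGroup p ↥(fittingSubgroup G) :=
      Cfsg.Agent.Helper22.isPGroup_fittingSubgroup_of_pPrimeCore_eq_bot p h.hcore
    have hMp : IsPGroup p ↥M := hFp.to_le hMF
    haveI : Nontrivial ↥M := (Subgroup.nontrivial_iff_ne_bot M).2 hMne
    have hcn : Nontrivial ↥(Subgroup.center ↥M) := hMp.center_nontrivial
    obtain ⟨z, hz, hz1⟩ := (Subgroup.nontrivial_iff_exists_ne_one _).1 hcn
    have hzC : (z : G) ∈ Subgroup.centralizer (M : Set G) := by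
      rw [Subgroup.mem_centralizer_iff]
      intro m hm
      rw [Subgroup.mem_center_iff] at hz
      have := hz ⟨m, hm⟩
      exact congrArg Subtype.val this
    rw [hC, Subgroup.mem_bot] at hzC
    exact hz1 (Subtype.ext hzC)
  refine ⟨hC, hF, ?_⟩
  intro K hK
  have hKN : K ≤ Subgroup.normalizer (M : Set G) := by
    rw [Subgroup.normalizer_eq_top]; exact le_top
  rcases Cfsg.Agent.Helper21.IsComponent.le_or_commutator_eq_bot hK M hKN with h1 | h1
  · exact h1
  · exfalso
    rw [Subgroup.commutator_eq_bot_iff_le_centralizer, hC, le_bot_iff] at h1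
    exact Cfsg.Agent.Helper21.IsComponent.ne_bot hK h1

/-- In the non-commutative case, `F*(G) ≤ M`. -/
theorem Hyp.fstar_le_of_noncomm (h : Hyp P) {M : Subgroup G} (hMn : M.Normal) (hMne : M ≠ ⊥)
    (hleast : ∀ K : Subgroup G, K.Normal → K ≠ ⊥ → M ≤ K)
    (hnc : ¬ ∀ a ∈ M, ∀ b ∈ M, a * b = b * a) : generalizedFittingSubgroup G ≤ M := by
  obtain ⟨_, hF, hK⟩ := h.noncomm_case hMn hMne hleast hnc
  unfold generalizedFittingSubgroup
  rw [hF, sup_bot_eq]
  exact Cfsg.Agent.Helper22.layer_le_iff.2 hK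

/-- The commutative case, part 1: the Fitting subgroup is elementary abelian. -/
theorem Hyp.fitting_elementary (h : Hyp P) :
    fittingSubgroup G ≤ (P : Subgroup G) ∧ (∀ a ∈ fittingSubgroup G, a ^ p = 1) ∧
      ∀ a ∈ fittingSubgroup G, ∀ b ∈ fittingSubgroup G, a * b = b * a := by
  haveI hFn : (fittingSubgroup G).Normal := Cfsg.Agent.Lib.fittingSubgroup_normal
  have hFp : IsPGroup p ↥(fittingSubgroup G) :=
    Cfsg.Agent.Helper22.isPGroup_fittingSubgroup_of_pPrimeCore_eq_bot p h.hcore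
  have hFP : fittingSubgroup G ≤ (P : Subgroup G) := Cfsg.Agent.Lib.normal_pGroup_le_sylow hFn hFp P
  have h1 : frattini ↥(fittingSubgroup G) ≤ (Phi P).subgroupOf (fittingSubgroup G) := by
    apply Cfsg.Agent.Helper47.frattini_le_of_commutator_pow_mem (p := p)
    · intro a b
      rw [Subgroup.mem_subgroupOf, commutatorElement_def]
      exact comm_mem_Phi P (hFP a.2) (hFP b.2)
    · intro a
      rw [Subgroup.mem_subgroupOf]
      exact pow_mem_Phi P (hFP a.2)
  have h2 : (frattini ↥(fittingSubgroup G)).map (fittingSubgroup G).subtype ≤ Phi P := by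
    rintro _ ⟨x, hx, rfl⟩
    exact Subgroup.mem_subgroupOf.1 (h1 hx)
  have h3 : ((frattini ↥(fittingSubgroup G)).map (fittingSubgroup G).subtype).Normal :=
    ConjAct.normal_of_characteristic_of_normal
  have h4 : (frattini ↥(fittingSubgroup G)).map (fittingSubgroup G).subtype ≤ (Phi P).normalCore := by
    haveI := h3
    exact (Subgroup.normal_le_normalCore).2 h2
  rw [h.hfrat, le_bot_iff, Subgroup.map_eq_bot_iff_of_injective _ (fittingSubgroup G).subtype_injective]
    at h4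
  refine ⟨hFP, ?_, ?_⟩
  · intro a ha
    have := Cfsg.Agent.Helper63.pow_prime_mem_frattini hFp ⟨a, ha⟩
    rw [h4, Subgroup.mem_bot] at this
    exact congrArg Subtype.val this
  · intro a ha b hb
    have h5 := Cfsg.Agent.Helper70.frattiniQuot_comm hFp
      ((⟨a, ha⟩ : ↥(fittingSubgroup G)) : ↥(fittingSubgroup G) ⧸ frattini ↥(fittingSubgroup G))
      ((⟨b, hb⟩ : ↥(fittingSubgroup G)) : ↥(fittingSubgroup G) ⧸ frattini ↥(fittingSubgroup G))
    rw [← QuotientGroup.mk_mul, ← QuotientGroup.mk_mul, QuotientGroup.eq, h4, Subgroup.mem_bot] at h5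
    have h6 := congrArg Subtype.val h5
    simp only [Subgroup.coe_mul, Subgroup.coe_inv, Subgroup.coe_one] at h6
    have : b * a = (a * b) * ((a * b)⁻¹ * (b * a)) := by group
    rw [this, h6, mul_one]

/-- The commutative case, part 2: `M ≤ F(G)` and the layer is trivial. -/
theorem Hyp.layer_eq_bot_of_comm (h : Hyp P) {M : Subgroup G} (hMn : M.Normal) (hMne : M ≠ ⊥)
    (hleast : ∀ K : Subgroup G, K.Normal → K ≠ ⊥ → M ≤ K)
    (hc : ∀ a ∈ M, ∀ b ∈ M, a * b = b * a) :
    M ≤ fittingSubgroup G ∧ layer G = ⊥ := by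
  haveI := hMn
  have hMF : M ≤ fittingSubgroup G := by
    apply Cfsg.Agent.Lib.le_fittingSubgroup hMn
    letI : CommGroup ↥M :=
      { (inferInstance : Group ↥M) with mul_comm := fun a b => Subtype.ext (hc a a.2 b b.2) }
    exact CommGroup.isNilpotent
  refine ⟨hMF, ?_⟩
  by_contra hE
  obtain ⟨E, hEdef⟩ : ∃ E : Subgroup G, E = layer G := ⟨_, rfl⟩
  rw [← hEdef] at hE
  haveI hEn : E.Normal := hEdef ▸ Cfsg.Agent.Helper21.layer_normal
  have hME : M ≤ E := hleast E hEn hE
  have hFp : IsPGroup p ↥(fittingSubgroup G) :=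
    Cfsg.Agent.Helper22.isPGroup_fittingSubgroup_of_pPrimeCore_eq_bot p h.hcore
  have hMp : IsPGroup p ↥M := hFp.to_le hMF
  -- `M` centralizes `E`
  have hMC : ∀ m ∈ M, ∀ e ∈ E, e * m = m * e := by
    intro m hm e he
    have h1 : ⁅E, fittingSubgroup G⁆ = ⊥ := hEdef ▸ Cfsg.Agent.Helper22.layer_commutator_fittingSubgroup
    rw [Subgroup.commutator_eq_bot_iff_le_centralizer] at h1
    have h2 := h1 he
    rw [Subgroup.mem_centralizer_iff] at h2
    exact (h2 m (hMF hm)).symm
  -- `E` is perfect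
  have hperf : commutator ↥E = ⊤ := by
    apply Subgroup.map_injective E.subtype_injective
    rw [commutator_def, Subgroup.map_commutator, ← MonoidHom.range_eq_map, Subgroup.range_subtype, hEdef]
    exact Cfsg.Agent.Helper22.layer_commutator_self
  obtain S : Sylow p ↥E := default
  have hQn : (M.subgroupOf E).Normal := inferInstance
  have hQp : IsPGroup p ↥(M.subgroupOf E) := hMp.comap_subtype
  have hQS : M.subgroupOf E ≤ (S : Subgroup ↥E) := Cfsg.Agent.Lib.normal_pGroup_le_sylow hQn hQp S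
  have hkey := Cfsg.Agent.Helper33.inf_commutator_le_commutator_sylow S (M.subgroupOf E) hQS (by
    intro g
    refine ⟨g, ?_, 1, Subgroup.one_mem _, (mul_one g).symm⟩
    rw [Subgroup.mem_centralizer_iff]
    intro q hq
    apply Subtype.ext
    exact (hMC (q : G) (Subgroup.mem_subgroupOf.1 hq) (g : G) g.2).symm)
  rw [hperf, inf_top_eq] at hkey
  -- transport to `G`
  have hS'p : IsPGroup p ↥((S : Subgroup ↥E).map E.subtype) := S.2.map E.subtype
  obtain ⟨Q, hQ⟩ := hS'p.exists_le_sylow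
  obtain ⟨g, hg⟩ := MulAction.exists_smul_eq G Q P
  have hM1 : ∀ m ∈ M, m ∈ ⁅(Q : Subgroup G), (Q : Subgroup G)⁆ := by
    intro m hm
    have h1 : (⟨m, hME hm⟩ : ↥E) ∈ ⁅(S : Subgroup ↥E), (S : Subgroup ↥E)⁆ :=
      hkey (Subgroup.mem_subgroupOf.2 hm)
    have h2 : m ∈ (⁅(S : Subgroup ↥E), (S : Subgroup ↥E)⁆).map E.subtype := ⟨_, h1, rfl⟩
    rw [Subgroup.map_commutator] at h2
    exact Subgroup.commutator_mono hQ hQ h2
  have hM2 : ∀ m ∈ M, g * m * g⁻¹ ∈ ⁅(P : Subgroup G), (P : Subgroup G)⁆ := by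
    intro m hm
    have h1 : g * m * g⁻¹ ∈ (⁅(Q : Subgroup G), (Q : Subgroup G)⁆).map (MulAut.conj g).toMonoidHom :=
      ⟨m, hM1 m hm, by simp [MulAut.conj_apply]⟩
    rw [Subgroup.map_commutator] at h1
    have h2 : (Q : Subgroup G).map (MulAut.conj g).toMonoidHom = (P : Subgroup G) := by
      rw [← hg]
      rfl
    rw [h2] at h1
    exact h1
  have hM3 : M ≤ Phi P := by
    intro m hm
    have h1 : g⁻¹ * m * g ∈ M := by
      have := hMn.conj_mem m hm g⁻¹
      simpa using this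
    have h2 := commutator_le_Phi P (hM2 _ h1)
    have h3 : g * (g⁻¹ * m * g) * g⁻¹ = m := by group
    rw [h3] at h2
    exact h2
  have hM4 : M ≤ (Phi P).normalCore := (Subgroup.normal_le_normalCore).2 hM3
  rw [h.hfrat, le_bot_iff] at hM4
  exact hMne hM4

end Cfsg.Agent.Helper69.Tgp
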