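import Mathlib
import Cfsg.Agent.Helper69.Tgp3
import Cfsg.Agent.Helper34.Gaschutz
import Cfsg.Agent.Helper22.Bender

set_option autoImplicit false

/-!
# The commutative case: `F(G)` is the least normal subgroup (helper69)
-/

namespace Cfsg.Agent.Helper69.Tgp

open Cfsg

variable {G : Type*} [Group G] [Finite G] {p : ℕ} [hp : Fact p.Prime] {P : Sylow p G}

/-- An arithmetic lemma: in a finite `p`-group, if `y ^ k` has order dividing `p`, and `n = p ^ j`
divides `k * p` but not `k`, then `y ^ n = 1`. -/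
theorem pow_eq_one_of_aux {Q : Type*} [Group Q] [Finite Q] (hQ : IsPGroup p Q) (y : Q) (k j : ℕ)
    (h1 : (y ^ k) ^ p = 1) (h2 : p ^ j ∣ k * p) (h3 : ¬ p ^ j ∣ k) : y ^ (p ^ j) = 1 := by
  have hpp : p.Prime := hp.out
  have hj : j ≠ 0 := by
    intro h0
    apply h3
    rw [h0, pow_zero]
    exact one_dvd k
  obtain ⟨i, rfl⟩ := Nat.exists_eq_succ_of_ne_zero hj
  have h4 : p ^ i ∣ k := by
    rw [pow_succ] at h2
    exact Nat.dvd_of_mul_dvd_mul_right hpp.pos h2
  obtain ⟨k', rfl⟩ := h4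
  have h5 : ¬ p ∣ k' := by
    intro h
    apply h3
    rw [pow_succ]
    exact Nat.mul_dvd_mul_left _ h
  have h6 : (y ^ p ^ (i + 1)) ^ k' = 1 := by
    rw [← pow_mul, ← h1, ← pow_mul]
    congr 1
    rw [pow_succ]
    ring
  have h7 : orderOf (y ^ p ^ (i + 1)) ∣ k' := orderOf_dvd_of_pow_eq_one h6
  have h8 : (orderOf (y ^ p ^ (i + 1))).Coprime k' :=
    hQ.orderOf_coprime ((Nat.Prime.coprime_iff_not_dvd hpp).2 h5) _
  have h9 : orderOf (y ^ p ^ (i + 1)) = 1 := Nat.Coprime.eq_one_of_dvd h8 h7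
  exact orderOf_eq_one_iff.1 h9

/-- The commutative case, part 3: `F(G) ≤ M`. -/
theorem Hyp.fitting_le_of_comm (h : Hyp P) {M : Subgroup G} (hMn : M.Normal) (hMne : M ≠ ⊥)
    (hleast : ∀ K : Subgroup G, K.Normal → K ≠ ⊥ → M ≤ K)
    (hc : ∀ a ∈ M, ∀ b ∈ M, a * b = b * a) : fittingSubgroup G ≤ M := by
  classical
  haveI := hMn
  have hpp : p.Prime := hp.out
  obtain ⟨hFP, hFexp, hFcomm⟩ := h.fitting_elementary
  obtain ⟨hMF, -⟩ := h.layer_eq_bot_of_comm hMn hMne hleast hc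
  have hMP : M ≤ (P : Subgroup G) := hMF.trans hFP
  haveI hFn : (fittingSubgroup G).Normal := Cfsg.Agent.Lib.fittingSubgroup_normal
  by_contra hcon
  obtain ⟨f, hfF, hfM⟩ : ∃ f ∈ fittingSubgroup G, f ∉ M := by
    by_contra h'
    push Not at h'
    exact hcon h'
  have h1 := not_subgroupOf_le_frattini P (h.not_le_Phi hMn hMne)
  obtain ⟨y, hy⟩ := exists_gen_mod h.isPGroup h.hgen (M.subgroupOf (P : Subgroup G)) h1
  obtain ⟨k, a, ha, hfa⟩ := hy ⟨f, hFP hfF⟩
  have ha2 : (a : G) ∈ M := Subgroup.mem_subgroupOf.1 ha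
  have hfa2 : f = (a : G) * (y : G) ^ k := by
    have := congrArg Subtype.val hfa
    simpa using this
  -- `u = y ^ k` lies in `F` and not in `M`
  have huF : (y : G) ^ k ∈ fittingSubgroup G := by
    have : (y : G) ^ k = (a : G)⁻¹ * f := by rw [hfa2]; group
    rw [this]
    exact (fittingSubgroup G).mul_mem ((fittingSubgroup G).inv_mem (hMF ha2)) hfF
  have huM : (y : G) ^ k ∉ M := by
    intro hu
    apply hfM
    rw [hfa2]
    exact M.mul_mem ha2 hu
  -- the order of `y` modulo `M`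
  obtain ⟨n, hn⟩ : ∃ n : ℕ, n = orderOf ((y : ↥(P : Subgroup G)) :
      ↥(P : Subgroup G) ⧸ M.subgroupOf (P : Subgroup G)) := ⟨_, rfl⟩
  have hmem : ∀ i : ℕ, (y : G) ^ i ∈ M ↔ n ∣ i := by
    intro i
    rw [hn, orderOf_dvd_iff_pow_eq_one, ← QuotientGroup.mk_pow, QuotientGroup.eq_one_iff,
      Subgroup.mem_subgroupOf]
    simp
  obtain ⟨j, hj⟩ : ∃ j, n = p ^ j := by
    rw [hn]
    exact (h.isPGroup.to_quotient _).exists_orderOf_eq_pow _
  have hyn : y ^ n = 1 := by
    rw [hj]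
    apply pow_eq_one_of_aux h.isPGroup y k j
    · apply Subtype.ext
      simp only [Subgroup.coe_pow, Subgroup.coe_one]
      exact hFexp _ huF
    · rw [← hj, ← hmem, pow_mul, hFexp _ huF]
      exact M.one_mem
    · rw [← hj, ← hmem]
      exact huM
  have hyn' : (y : G) ^ n = 1 := by
    have := congrArg Subtype.val hyn
    simpa using this
  -- `⟨y⟩` is a complement of `M` in `P`
  have hAM : Subgroup.zpowers (y : G) ⊓ M = ⊥ := by
    rw [eq_bot_iff]
    intro z hz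
    rw [Subgroup.mem_inf] at hz
    have hz' : z ∈ Submonoid.powers (y : G) :=
      (isOfFinOrder_of_finite (y : G)).mem_powers_iff_mem_zpowers.2 hz.1
    obtain ⟨i, rfl⟩ := (Submonoid.mem_powers_iff z (y : G)).1 hz'
    obtain ⟨c, rfl⟩ := (hmem i).1 hz.2
    rw [Subgroup.mem_bot, pow_mul, hyn', one_pow]
  have hAP : Subgroup.zpowers (y : G) ≤ (P : Subgroup G) := by
    rw [Subgroup.zpowers_le]; exact y.2
  have hMA : M ⊔ Subgroup.zpowers (y : G) = (P : Subgroup G) := by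
    apply le_antisymm (sup_le hMP hAP)
    intro x hx
    obtain ⟨k', a', ha', hxa⟩ := hy ⟨x, hx⟩
    have hxa2 : x = (a' : G) * (y : G) ^ k' := by
      have := congrArg Subtype.val hxa
      simpa using this
    rw [hxa2]
    exact Subgroup.mul_mem_sup (Subgroup.mem_subgroupOf.1 ha')
      (Subgroup.pow_mem _ (Subgroup.mem_zpowers _) _)
  haveI : IsMulCommutative ↥M := ⟨⟨fun a b => Subtype.ext (hc a a.2 b b.2)⟩⟩
  have hFp : IsPGroup p ↥(fittingSubgroup G) :=
    Cfsg.Agent.Helper22.isPGroup_fittingSubgroup_of_pPrimeCore_eq_bot p h.hcore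
  have hMp : IsPGroup p ↥M := hFp.to_le hMF
  have hcop : (Nat.card ↥M).Coprime (P : Subgroup G).index := by
    obtain ⟨e, he⟩ := IsPGroup.iff_card.1 hMp
    rw [he]
    apply Nat.Coprime.pow_left
    exact (Nat.Prime.coprime_iff_not_dvd hpp).2 P.not_dvd_index
  obtain ⟨H, hH⟩ := Cfsg.Agent.Helper34.gaschutz_exists M (P : Subgroup G) hMP hcop
    (Subgroup.zpowers (y : G)) hAP hAM hMA
  -- the normal subgroup `H ⊓ F`
  have hdec : ∀ g : G, ∃ m ∈ M, ∃ t ∈ H, g = m * t := by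
    intro g
    obtain ⟨⟨m, t⟩, hmt⟩ := hH.2 g
    exact ⟨m, m.2, t, t.2, hmt.symm⟩
  have hLn : (H ⊓ fittingSubgroup G).Normal := by
    constructor
    intro l hl g
    rw [Subgroup.mem_inf] at hl
    obtain ⟨m, hm, t, ht, rfl⟩ := hdec g
    have h2 : t * l * t⁻¹ ∈ H := H.mul_mem (H.mul_mem ht hl.1) (H.inv_mem ht)
    have h3 : t * l * t⁻¹ ∈ fittingSubgroup G := hFn.conj_mem l hl.2 t
    have h4 : m * t * l * (m * t)⁻¹ = t * l * t⁻¹ := by
      have h5 := hFcomm m (hMF hm) (t * l * t⁻¹) h3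
      have : m * t * l * (m * t)⁻¹ = (m * (t * l * t⁻¹)) * m⁻¹ := by group
      rw [this, h5]
      group
    rw [h4, Subgroup.mem_inf]
    exact ⟨h2, h3⟩
  have hLne : H ⊓ fittingSubgroup G ≠ ⊥ := by
    intro hbot
    obtain ⟨m, hm, t, ht, rfl⟩ := hdec f
    have htF : t ∈ fittingSubgroup G := by
      have : t = m⁻¹ * (m * t) := by group
      rw [this]
      exact (fittingSubgroup G).mul_mem ((fittingSubgroup G).inv_mem (hMF hm)) hfF
    have : t ∈ H ⊓ fittingSubgroup G := Subgroup.mem_inf.2 ⟨ht, htF⟩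
    rw [hbot, Subgroup.mem_bot] at this
    apply hfM
    rw [this, mul_one]
    exact hm
  have hLM : (H ⊓ fittingSubgroup G) ⊓ M = ⊥ := by
    rw [eq_bot_iff]
    intro z hz
    rw [Subgroup.mem_inf, Subgroup.mem_inf] at hz
    have hd := hH.disjoint
    rw [disjoint_iff] at hd
    have : z ∈ M ⊓ H := Subgroup.mem_inf.2 ⟨hz.2, hz.1.1⟩
    rw [hd] at this
    exact this
  exact h.inf_ne_bot hLn hMn hLne hMne hLM

/-- In the commutative case, `F*(G) ≤ M`. -/
theorem Hyp.fstar_le_of_comm (h : Hyp P) {M : Subgroup G} (hMn : M.Normal) (hMne : M ≠ ⊥)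
    (hleast : ∀ K : Subgroup G, K.Normal → K ≠ ⊥ → M ≤ K)
    (hc : ∀ a ∈ M, ∀ b ∈ M, a * b = b * a) : generalizedFittingSubgroup G ≤ M := by
  obtain ⟨_, hE⟩ := h.layer_eq_bot_of_comm hMn hMne hleast hc
  unfold generalizedFittingSubgroup
  rw [hE, bot_sup_eq]
  exact h.fitting_le_of_comm hMn hMne hleast hc

/-- `F*(G)` is the least nontrivial normal subgroup. -/
theorem Hyp.fstar_least (h : Hyp P) :
    generalizedFittingSubgroup G ≠ ⊥ ∧
      ∀ K : Subgroup G, K.Normal → K ≠ ⊥ → generalizedFittingSubgroup G ≤ K := by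
  obtain ⟨M, hMn, hMne, hleast⟩ := h.exists_least
  have hle : generalizedFittingSubgroup G ≤ M := by
    by_cases hc : ∀ a ∈ M, ∀ b ∈ M, a * b = b * a
    · exact h.fstar_le_of_comm hMn hMne hleast hc
    · exact h.fstar_le_of_noncomm hMn hMne hleast hc
  constructor
  · intro hbot
    have h1 := Cfsg.Agent.Helper22.centralizer_generalizedFittingSubgroup_le (G := G)
    rw [hbot] at h1
    have h2 : (⊤ : Subgroup G) ≤ ⊥ := by
      refine le_trans ?_ h1
      intro x _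
      rw [Subgroup.mem_centralizer_iff]
      intro y hy
      rw [Subgroup.coe_bot, Set.mem_singleton_iff] at hy
      rw [hy, one_mul, mul_one]
    exact h.top_ne_bot (le_bot_iff.1 h2)
  · intro K hK hne
    exact hle.trans (hleast K hK hne)

end Cfsg.Agent.Helper69.Tgp
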