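import Mathlib
import Cfsg.Agent.Helper69.Tgp4
import Cfsg.Agent.Helper29.Fitting
import Cfsg.Agent.Helper21.Quasisimple

set_option autoImplicit false

/-!
# Transitivity of `P` on the components (helper69)
-/

namespace Cfsg.Agent.Helper69.Tgp

open Cfsg

variable {G : Type*} [Group G]

theorem conj_comp (z x : G) :
    (MulAut.conj z).toMonoidHom.comp (MulAut.conj x).toMonoidHom = (MulAut.conj (z * x)).toMonoidHom := by
  ext g
  simp [MulAut.conj_apply, mul_assoc]

theorem map_conj_map_conj (S : Subgroup G) (z x : G) :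
    (S.map (MulAut.conj x).toMonoidHom).map (MulAut.conj z).toMonoidHom =
      S.map (MulAut.conj (z * x)).toMonoidHom := by
  rw [Subgroup.map_map, conj_comp]

theorem map_conj_one (S : Subgroup G) : S.map (MulAut.conj (1 : G)).toMonoidHom = S := by
  have : (MulAut.conj (1 : G)).toMonoidHom = MonoidHom.id G := by
    ext g
    simp
  rw [this, Subgroup.map_id]

/-- A family of subgroups stable under conjugation by `z` and `z⁻¹`: `z` normalizes the join. -/
theorem mem_normalizer_sSup (𝒮 : Set (Subgroup G)) (z : G)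
    (hz : ∀ S ∈ 𝒮, S.map (MulAut.conj z).toMonoidHom ∈ 𝒮)
    (hz' : ∀ S ∈ 𝒮, S.map (MulAut.conj z⁻¹).toMonoidHom ∈ 𝒮) :
    z ∈ Subgroup.normalizer ((sSup 𝒮 : Subgroup G) : Set G) := by
  have key : ∀ w : G, (∀ S ∈ 𝒮, S.map (MulAut.conj w).toMonoidHom ∈ 𝒮) →
      ∀ g ∈ sSup 𝒮, w * g * w⁻¹ ∈ sSup 𝒮 := by
    intro w hw g hg
    have h1 : (sSup 𝒮).map (MulAut.conj w).toMonoidHom ≤ sSup 𝒮 := by
      rw [Subgroup.map_le_iff_le_comap]
      apply sSup_le
      intro S hS
      rw [← Subgroup.map_le_iff_le_comap]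
      exact le_sSup (hw S hS)
    exact h1 ⟨g, hg, by simp [MulAut.conj_apply]⟩
  rw [Subgroup.mem_normalizer_iff]
  intro g
  constructor
  · exact key z hz g
  · intro hg
    have := key z⁻¹ hz' _ hg
    have h2 : z⁻¹ * (z * g * z⁻¹) * z⁻¹⁻¹ = g := by group
    rw [h2] at this
    exact this

variable [Finite G] {p : ℕ} [hp : Fact p.Prime] {P : Sylow p G}

theorem not_isPGroup_of_isComponent {K : Subgroup G} (hK : IsComponent K) : ¬ IsPGroup p ↥K := by
  intro hp'
  haveI : Group.IsNilpotent ↥K := hp'.isNilpotent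
  exact Cfsg.Agent.Helper21.IsQuasisimple.not_isSolvable hK.2 inferInstance

/-- `P` permutes the components transitively when `F*(G)` is not commutative. -/
theorem Hyp.transitive (h : Hyp P)
    (hnc : ¬ ∀ a ∈ generalizedFittingSubgroup G, ∀ b ∈ generalizedFittingSubgroup G, a * b = b * a)
    (K L : Subgroup G) (hK : IsComponent K) (hL : IsComponent L) :
    ∃ x ∈ (P : Subgroup G), L = K.map (MulAut.conj x).toMonoidHom := by
  obtain ⟨M, hMn, hMne, hleast⟩ := h.exists_least
  obtain ⟨hFne, hFleast⟩ := h.fstar_least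
  have hFM : generalizedFittingSubgroup G ≤ M := hFleast M hMn hMne
  have hMnc : ¬ ∀ a ∈ M, ∀ b ∈ M, a * b = b * a := by
    intro hc
    apply hnc
    intro a ha b hb
    exact hc a (hFM ha) b (hFM hb)
  obtain ⟨hC, hF, hKM⟩ := h.noncomm_case hMn hMne hleast hMnc
  have hFsn : (generalizedFittingSubgroup G).Normal := by
    unfold generalizedFittingSubgroup
    haveI : (layer G).Normal := Cfsg.Agent.Helper21.layer_normal
    haveI : (fittingSubgroup G).Normal := Cfsg.Agent.Lib.fittingSubgroup_normal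
    infer_instance
  have hMlayer : M ≤ layer G := by
    have h1 : M ≤ generalizedFittingSubgroup G := hleast _ hFsn hFne
    unfold generalizedFittingSubgroup at h1
    rw [hF, sup_bot_eq] at h1
    exact h1
  by_contra hcon
  push Not at hcon
  obtain ⟨𝒜, h𝒜⟩ : ∃ 𝒜 : Set (Subgroup G),
      𝒜 = {K' | ∃ x ∈ (P : Subgroup G), K' = K.map (MulAut.conj x).toMonoidHom} := ⟨_, rfl⟩
  obtain ⟨ℬ, hℬ⟩ : ∃ ℬ : Set (Subgroup G), ℬ = {L' | IsComponent L' ∧ L' ∉ 𝒜} := ⟨_, rfl⟩
  have hAcomp : ∀ K' ∈ 𝒜, IsComponent K' := by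
    intro K' hK'
    rw [h𝒜] at hK'
    obtain ⟨x, _, rfl⟩ := hK'
    exact Cfsg.Agent.Helper29.isComponent_map_mulEquiv (MulAut.conj x) hK
  have hcomm : ∀ K' ∈ 𝒜, ∀ L' ∈ ℬ, ⁅K', L'⁆ = ⊥ := by
    intro K' hK' L' hL'
    rw [hℬ] at hL'
    apply Cfsg.Agent.Helper21.IsComponent.commutator_eq_bot_of_ne (hAcomp K' hK') hL'.1
    intro heq
    apply hL'.2
    rw [← heq]
    exact hK'
  have hBA : sSup ℬ ≤ Subgroup.centralizer ((sSup 𝒜 : Subgroup G) : Set G) := by
    apply sSup_le
    intro L' hL'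
    rw [Subgroup.le_centralizer_iff]
    apply sSup_le
    intro K' hK'
    rw [← Subgroup.commutator_eq_bot_iff_le_centralizer]
    exact hcomm K' hK' L' hL'
  have hcommel : ∀ a ∈ sSup 𝒜, ∀ b ∈ sSup ℬ, a * b = b * a := by
    intro a ha b hb
    have := hBA hb
    rw [Subgroup.mem_centralizer_iff] at this
    exact this a ha
  -- `P` normalizes both joins
  have hAstab : ∀ z ∈ (P : Subgroup G), ∀ S ∈ 𝒜, S.map (MulAut.conj z).toMonoidHom ∈ 𝒜 := by
    intro z hz S hS
    rw [h𝒜] at hS ⊢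
    obtain ⟨x, hx, rfl⟩ := hS
    exact ⟨z * x, (P : Subgroup G).mul_mem hz hx, map_conj_map_conj K z x⟩
  have hBstab : ∀ z ∈ (P : Subgroup G), ∀ S ∈ ℬ, S.map (MulAut.conj z).toMonoidHom ∈ ℬ := by
    intro z hz S hS
    rw [hℬ] at hS ⊢
    refine ⟨Cfsg.Agent.Helper29.isComponent_map_mulEquiv (MulAut.conj z) hS.1, ?_⟩
    intro hmem
    apply hS.2
    have h1 := hAstab z⁻¹ ((P : Subgroup G).inv_mem hz) _ hmem
    rw [map_conj_map_conj, inv_mul_cancel, map_conj_one] at h1
    exact h1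
  have hPA : (P : Subgroup G) ≤ Subgroup.normalizer ((sSup 𝒜 : Subgroup G) : Set G) := by
    intro z hz
    exact mem_normalizer_sSup 𝒜 z (hAstab z hz) (hAstab z⁻¹ ((P : Subgroup G).inv_mem hz))
  have hPB : (P : Subgroup G) ≤ Subgroup.normalizer ((sSup ℬ : Subgroup G) : Set G) := by
    intro z hz
    exact mem_normalizer_sSup ℬ z (hBstab z hz) (hBstab z⁻¹ ((P : Subgroup G).inv_mem hz))
  have hKA : K ≤ sSup 𝒜 := by
    apply le_sSup
    rw [h𝒜]
    exact ⟨1, (P : Subgroup G).one_mem, (map_conj_one K).symm⟩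
  have hLB : L ≤ sSup ℬ := by
    apply le_sSup
    rw [hℬ]
    refine ⟨hL, ?_⟩
    intro hmem
    rw [h𝒜] at hmem
    obtain ⟨x, hx, hLx⟩ := hmem
    exact hcon x hx hLx
  -- the joins meet trivially
  have hdisj : sSup 𝒜 ⊓ sSup ℬ = ⊥ := by
    rw [eq_bot_iff]
    intro x hx
    rw [Subgroup.mem_inf] at hx
    have hlayer : layer G ≤ Subgroup.centralizer ({x} : Set G) := by
      rw [Cfsg.Agent.Helper22.layer_le_iff]
      intro K' hK'
      by_cases hmem : K' ∈ 𝒜
      · intro k hk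
        rw [Subgroup.mem_centralizer_iff]
        intro y hy
        rw [Set.mem_singleton_iff] at hy
        rw [hy]
        exact (hcommel k (le_sSup hmem hk) x hx.2).symm
      · intro k hk
        rw [Subgroup.mem_centralizer_iff]
        intro y hy
        rw [Set.mem_singleton_iff] at hy
        rw [hy]
        have hK'B : K' ∈ ℬ := by rw [hℬ]; exact ⟨hK', hmem⟩
        exact hcommel x hx.1 k (le_sSup hK'B hk)
    have hxC : x ∈ Subgroup.centralizer (M : Set G) := by
      rw [Subgroup.mem_centralizer_iff]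
      intro m hm
      have := hlayer (hMlayer hm)
      rw [Subgroup.mem_centralizer_iff] at this
      exact (this x rfl).symm
    rw [hC] at hxC
    exact hxC
  rcases h.le_Phi_of_disjoint _ _ hPA hPB hdisj with h1 | h1
  · exact not_inf_le_Phi P h.hcore _ hPA K hKA hK.1 (not_isPGroup_of_isComponent hK) h1
  · exact not_inf_le_Phi P h.hcore _ hPB L hLB hL.1 (not_isPGroup_of_isComponent hL) h1

end Cfsg.Agent.Helper69.Tgp
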