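import Cfsg.Agent.Helper80.Tor.Defs

/-!
# S2372/S2375 torus farm (helper80 #13336), piece (VAL) `factorization_pow_sub_one` (helper69)
-/

set_option autoImplicit false

namespace Cfsg.Agent.Helper69.Tor

open Cfsg.Agent.Helper18 (zact)
open Polynomial

/-- (VAL) -/
theorem factorization_pow_sub_one {r Q i : ℕ} (hr : r.Prime) (hQ : 2 ≤ Q) (hQr : r ∣ Q - 1) (hi : 0 < i)
    (hir : i < r) : (Q ^ i - 1).factorization r = (Q - 1).factorization r := by
  have : Fact r.Prime := ⟨hr⟩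
  have hgs : (∑ j ∈ Finset.range i, Q ^ j) * (Q - 1) + 1 = Q ^ i := by
    have := geom_sum_mul_add (Q - 1) i
    rwa [Nat.sub_add_cancel (by omega : 1 ≤ Q)] at this
  have hEq : Q ^ i - 1 = (∑ j ∈ Finset.range i, Q ^ j) * (Q - 1) := by omega
  -- the sum is ≡ i mod r
  have hQ1 : ((Q : ℕ) : ZMod r) = 1 := by
    have h0 : (((Q - 1 : ℕ)) : ZMod r) = 0 := (ZMod.natCast_eq_zero_iff _ _).mpr hQr
    have hcast : ((Q - 1 : ℕ) : ZMod r) = (Q : ZMod r) - 1 := by
      rw [Nat.cast_sub (by omega : 1 ≤ Q), Nat.cast_one]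
    rw [hcast] at h0
    exact sub_eq_zero.mp h0
  have hS : ((∑ j ∈ Finset.range i, Q ^ j : ℕ) : ZMod r) = (i : ZMod r) := by
    push_cast
    simp [hQ1]
  have hSnd : ¬ r ∣ ∑ j ∈ Finset.range i, Q ^ j := by
    intro hd
    have h0 := (ZMod.natCast_eq_zero_iff _ _).mpr hd
    rw [hS, ZMod.natCast_eq_zero_iff] at h0
    exact absurd (Nat.le_of_dvd hi h0) (by omega)
  have hS0 : (∑ j ∈ Finset.range i, Q ^ j) ≠ 0 := by
    intro h0; apply hSnd; rw [h0]; exact dvd_zero r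
  have hQ0 : Q - 1 ≠ 0 := by omega
  rw [hEq, Nat.factorization_mul hS0 hQ0, Finsupp.add_apply,
    Nat.factorization_eq_zero_of_not_dvd hSnd, zero_add]

end Cfsg.Agent.Helper69.Tor
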