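import Mathlib
import Cfsg.Agent.Helper56.CarmichaelA

/-!
# S2149 (helper56) FARM-2 #14563, piece (A7C): Carmichael generators give a subgroup of index 50

The statement of (A7C) as posted cannot be proved along the posted route: `lcm(126, 5, 4) = 1260`, not `2520`
(`126 = 2 * 3^2 * 7`), so `126 ∣ |Hm|`, an element of order `5` and an element of order `4` only give `1260 ∣ |Hm| ≤ 2520`.
This file gives the version with `504 ∣ |Hm|` (`lcm(504, 5) = 2520`) and the lemma producing `n * m ∣ |H|` from a transitive
subgroup `H` on `Fin n` containing an element of order `m` which fixes the base point (`126 * 4 = 504`).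
-/

set_option autoImplicit false

namespace Cfsg.Agent.Helper69.U35

open Cfsg.Agent.Helper56.Carmichael

/-- (ORB+) a subgroup transitive on `Fin n` which contains an element `b` fixing the base point has order divisible by
`n * orderOf b` -/
theorem mul_dvd_card_of_trans_fix {K : Type*} [Group K] [Finite K] {n : ℕ} [MulAction K (Fin n)]
    (H : Subgroup K) (o : Fin n) (h : ∀ i : Fin n, ∃ g ∈ H, g • o = i) (b : K) (hb : b ∈ H) (hbo : b • o = o) :
    n * orderOf b ∣ Nat.card H := by
  have horb : MulAction.orbit H o = Set.univ := by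
    rw [Set.eq_univ_iff_forall]
    intro i
    obtain ⟨g, hg, hgi⟩ := h i
    exact ⟨⟨g, hg⟩, hgi⟩
  have hidx : (MulAction.stabilizer H o).index = n := by
    rw [MulAction.index_stabilizer, horb, Set.ncard_univ, Nat.card_eq_fintype_card, Fintype.card_fin]
  have hmem : (⟨b, hb⟩ : H) ∈ MulAction.stabilizer H o := by
    rw [MulAction.mem_stabilizer_iff]
    exact hbo
  have hord : orderOf b ∣ Nat.card (MulAction.stabilizer H o) := by
    have h1 := orderOf_dvd_natCard (⟨⟨b, hb⟩, hmem⟩ : MulAction.stabilizer H o)
    rwa [Subgroup.orderOf_mk, Subgroup.orderOf_mk] at h1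
  have hmul : Nat.card (MulAction.stabilizer H o) * (MulAction.stabilizer H o).index = Nat.card H :=
    Subgroup.card_mul_index _
  rw [← hmul, hidx, Nat.mul_comm n]
  exact Nat.mul_dvd_mul_right hord n

/-- (A7C') five elements satisfying Carmichael's relations generate a subgroup of index 50 in a group of
order 126000, as soon as 504 and 5 divide its order -/
theorem index_Hm_eq_of_504 {K : Type*} [Group K] (hK : Nat.card K = 126000) (x : ℕ → K) (hR : CarRel 5 x)
    (h504 : 504 ∣ Nat.card (Hm x 5)) (a : K) (ha : a ∈ Hm x 5) (hoa : orderOf a = 5) :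
    (Hm x 5).index = 50 := by
  obtain ⟨hfin, hle⟩ := card_bound x 5 hR
  have hF : Finite (Hm x 5) := hfin
  have hle' : Nat.card (Hm x 5) ≤ 2520 := by
    have : (5 + 2).factorial = 5040 := by decide
    omega
  have h5 : 5 ∣ Nat.card (Hm x 5) := by
    have := orderOf_dvd_natCard (⟨a, ha⟩ : Hm x 5)
    rwa [Subgroup.orderOf_mk, hoa] at this
  have hpos : 0 < Nat.card (Hm x 5) := Nat.card_pos
  have hcard : Nat.card (Hm x 5) = 2520 := by
    have h2520 : 2520 ∣ Nat.card (Hm x 5) := by
      have h1 : Nat.lcm 504 5 ∣ Nat.card (Hm x 5) := Nat.lcm_dvd h504 h5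
      have : Nat.lcm 504 5 = 2520 := by decide
      rwa [this] at h1
    exact le_antisymm hle' (Nat.le_of_dvd hpos h2520)
  have hmul : Nat.card (Hm x 5) * (Hm x 5).index = Nat.card K := Subgroup.card_mul_index _
  rw [hcard, hK] at hmul
  omega

end Cfsg.Agent.Helper69.U35
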