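import Mathlib
import Cfsg.Agent.Helper56.CarmichaelA

/-!
# S2149 (helper56) FARM-2 #14563, piece (ORB): a subgroup transitive on `Fin n` has order divisible by `n`
-/

set_option autoImplicit false

namespace Cfsg.Agent.Helper69.U35

open Cfsg.Agent.Helper56.Carmichael

/-- (ORB) a subgroup transitive on `Fin n` has order divisible by `n` -/
theorem dvd_card_of_trans {K : Type*} [Group K] [Finite K] {n : ℕ} [MulAction K (Fin n)]
    (H : Subgroup K) (o : Fin n) (h : ∀ i : Fin n, ∃ g ∈ H, g • o = i) : n ∣ Nat.card H := by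
  have horb : MulAction.orbit H o = Set.univ := by
    rw [Set.eq_univ_iff_forall]
    intro i
    obtain ⟨g, hg, hgi⟩ := h i
    exact ⟨⟨g, hg⟩, hgi⟩
  have hidx : (MulAction.stabilizer H o).index = n := by
    rw [MulAction.index_stabilizer, horb, Set.ncard_univ, Nat.card_eq_fintype_card, Fintype.card_fin]
  rw [← hidx]
  exact Subgroup.index_dvd_card _

end Cfsg.Agent.Helper69.U35
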