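import Cfsg.Agent.Helper99.UNdDefs

/-!
# (M1c) for helper99's S5954 (helper69): the partition condition in characteristic two
-/

set_option autoImplicit false

namespace Cfsg.Agent.Helper69.UNdM1c

open Cfsg.Agent.Helper99.UNd

/-- (M1c) the partition condition in characteristic two -/
theorem partCond_two_iff {n m : ℕ} (hmn : m ≤ n) : PartCond 2 n m ↔ (Odd n ∨ Even m) := by
  constructor
  · intro h
    by_contra hcon
    push Not at hcon
    obtain ⟨hn, hm⟩ := hcon
    rw [Nat.not_odd_iff_even] at hn
    obtain ⟨k, hk⟩ := hn
    obtain ⟨ν, hν, hνs⟩ := h (Multiset.replicate k 2)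
      (by
        intro a ha
        rw [Multiset.mem_replicate] at ha
        omega)
      (by rw [Multiset.sum_replicate, smul_eq_mul]; omega)
    rw [Multiset.le_replicate_iff] at hν
    obtain ⟨j, -, rfl⟩ := hν
    rw [Multiset.sum_replicate, smul_eq_mul] at hνs
    exact hm ⟨j, by omega⟩
  · intro h μ hμ hsum
    obtain ⟨s, hs⟩ : ∃ s, s = Multiset.count 2 μ := ⟨_, rfl⟩
    obtain ⟨t, ht⟩ : ∃ t, t = Multiset.count 1 μ := ⟨_, rfl⟩
    have hsub : μ.toFinset ⊆ ({1, 2} : Finset ℕ) := by
      intro a ha
      rw [Multiset.mem_toFinset] at ha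
      have := hμ a ha
      simp only [Finset.mem_insert, Finset.mem_singleton]
      omega
    have hn : n = t + 2 * s := by
      rw [← hsum, Finset.sum_multiset_count_of_subset μ _ hsub,
        Finset.sum_pair (by norm_num : (1 : ℕ) ≠ 2), ← hs, ← ht]
      simp only [smul_eq_mul]
      omega
    have key : ∃ a b : ℕ, a ≤ s ∧ b ≤ t ∧ 2 * a + b = m := by
      by_cases hk : m / 2 ≤ s
      · refine ⟨m / 2, m % 2, hk, ?_, Nat.div_add_mod m 2⟩
        rcases Nat.mod_two_eq_zero_or_one m with h0 | h1
        · omega
        · have hmodd : ¬ Even m := by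
            rw [Nat.even_iff]; omega
          have hnodd : Odd n := h.resolve_right hmodd
          rw [Nat.odd_iff] at hnodd
          omega
      · refine ⟨s, m - 2 * s, le_refl _, ?_, ?_⟩
        · omega
        · have : s + 1 ≤ m / 2 := by omega
          have : 2 * (s + 1) ≤ m := by
            have := Nat.div_mul_le_self m 2
            omega
          omega
    obtain ⟨a, b, has, hbt, hab⟩ := key
    refine ⟨Multiset.replicate a 2 + Multiset.replicate b 1, ?_, ?_⟩
    · rw [Multiset.le_iff_count]
      intro x
      rw [Multiset.count_add, Multiset.count_replicate, Multiset.count_replicate]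
      by_cases hx2 : x = 2
      · subst hx2
        simp only [if_true]
        rw [if_neg (by norm_num)]
        omega
      · by_cases hx1 : x = 1
        · subst hx1
          rw [if_neg (by norm_num), if_pos rfl]
          omega
        · rw [if_neg (fun h => hx2 h.symm), if_neg (fun h => hx1 h.symm)]
          omega
    · rw [Multiset.sum_add, Multiset.sum_replicate, Multiset.sum_replicate, smul_eq_mul,
        smul_eq_mul]
      omega

end Cfsg.Agent.Helper69.UNdM1c
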