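import Mathlib

/-!
# (ULTE) for helper13's S5982 (helper69): `r`-adic valuation of `(q₀²)^j - 1`, `r` odd

`(q₀²)^j - 1 = (q₀^j - 1)(q₀^j + 1)` and an odd prime divides at most one of the two factors.
-/

set_option autoImplicit false

namespace Cfsg.Agent.Helper69.USubULTE

/-- (ULTE) -/
theorem padicValNat_sq_pow_sub_one_eq (r q₀ : ℕ) [Fact r.Prime] (hr2 : r ≠ 2) (hq₀ : 1 < q₀)
    (hA : ∀ j, 0 < j → r ∣ (q₀ ^ 2) ^ j - 1 → r ∣ (if Even j then q₀ ^ j - 1 else q₀ ^ j + 1))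
    (j : ℕ) (hj : 0 < j) :
    padicValNat r ((q₀ ^ 2) ^ j - 1) =
      padicValNat r (if Even j then q₀ ^ j - 1 else q₀ ^ j + 1) := by
  have hr : r.Prime := Fact.out
  obtain ⟨a, ha⟩ : ∃ a, a = q₀ ^ j := ⟨_, rfl⟩
  have ha2 : 2 ≤ a := by
    rw [ha]
    calc 2 ≤ q₀ := hq₀
      _ = q₀ ^ 1 := (pow_one _).symm
      _ ≤ q₀ ^ j := Nat.pow_le_pow_right (by omega) hj
  have hfac : (q₀ ^ 2) ^ j - 1 = (a - 1) * (a + 1) := by
    rw [← pow_mul, mul_comm 2 j, pow_mul, ← ha]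
    obtain ⟨b, rfl⟩ : ∃ b, a = b + 1 := ⟨a - 1, by omega⟩
    apply Nat.sub_eq_of_eq_add
    simp only [Nat.add_sub_cancel]
    ring
  have hA0 : a - 1 ≠ 0 := by omega
  have hB0 : a + 1 ≠ 0 := by omega
  have hnotboth : r ∣ a - 1 → r ∣ a + 1 → False := by
    intro h1 h2
    have h3 : r ∣ (a + 1) - (a - 1) := Nat.dvd_sub h2 h1
    have h4 : (a + 1) - (a - 1) = 2 := by omega
    rw [h4] at h3
    have h5 : r ≤ 2 := Nat.le_of_dvd (by norm_num) h3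
    have h6 : 2 ≤ r := hr.two_le
    exact hr2 (le_antisymm h5 h6)
  have hAj := hA j hj
  rw [hfac, padicValNat.mul hA0 hB0]
  rw [hfac, ← ha] at hAj
  rw [← ha]
  by_cases hev : Even j
  · rw [if_pos hev] at hAj ⊢
    have hB : ¬ r ∣ a + 1 := by
      intro h2
      exact hnotboth (hAj (Dvd.dvd.mul_left h2 _)) h2
    rw [padicValNat.eq_zero_of_not_dvd hB, add_zero]
  · rw [if_neg hev] at hAj ⊢
    have hA' : ¬ r ∣ a - 1 := by
      intro h1
      exact hnotboth h1 (hAj (Dvd.dvd.mul_right h1 _))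
    rw [padicValNat.eq_zero_of_not_dvd hA', zero_add]

end Cfsg.Agent.Helper69.USubULTE
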