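import Mathlib

set_option autoImplicit false

namespace Cfsg.Agent.Helper69

open Equiv

theorem exists_generator_sign_neg_one (p : ℕ) [Fact p.Prime] (hp2 : p ≠ 2) :
    ∃ u : (ZMod p)ˣ, (∀ v : (ZMod p)ˣ, v ∈ Subgroup.zpowers u) ∧
      Perm.sign (Units.mulLeft u : Perm (ZMod p)) = -1 := by
  have hp : p.Prime := Fact.out
  obtain ⟨u, hu⟩ := IsCyclic.exists_generator (α := (ZMod p)ˣ)
  refine ⟨u, hu, ?_⟩
  have hcard : Fintype.card (ZMod p)ˣ = p - 1 := ZMod.card_units p
  have hp3 : 3 ≤ p := by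
    have := hp.two_le
    omega
  -- `u ≠ 1`
  have hu1 : u ≠ 1 := by
    rintro rfl
    have : ∀ v : (ZMod p)ˣ, v = 1 := fun v => by
      have := hu v
      rwa [Subgroup.zpowers_one_eq_bot, Subgroup.mem_bot] at this
    have h1 : Fintype.card (ZMod p)ˣ ≤ 1 := Fintype.card_le_one_iff.mpr (fun a b => by rw [this a, this b])
    omega
  have hsupp : ∀ y : ZMod p, (Units.mulLeft u : Perm (ZMod p)) y ≠ y ↔ y ≠ 0 := by
    intro y
    constructor
    · rintro h rfl
      exact h (by simp)
    · intro hy h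
      have h2 : (u : ZMod p) * y = y := h
      have h3 : ((u : ZMod p) - 1) * y = 0 := by rw [sub_mul, h2, one_mul, sub_self]
      rcases mul_eq_zero.mp h3 with h4 | h4
      · exact hu1 (Units.ext (by simpa using sub_eq_zero.mp h4))
      · exact hy h4
  have hcyc : (Units.mulLeft u : Perm (ZMod p)).IsCycle := by
    refine ⟨1, (hsupp 1).mpr one_ne_zero, fun y hy => ?_⟩
    have hy0 : y ≠ 0 := (hsupp y).mp hy
    obtain ⟨k, hk⟩ := Subgroup.mem_zpowers_iff.mp (hu (Units.mk0 y hy0))
    refine ⟨k, ?_⟩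
    have key : ∀ (n : ℤ) (z : ZMod p), ((Units.mulLeft u : Perm (ZMod p)) ^ n) z = ((u ^ n : (ZMod p)ˣ) : ZMod p) * z := by
      intro n z
      induction n using Int.induction_on generalizing z with
      | zero => simp
      | succ i ih =>
        rw [zpow_add_one, zpow_add_one, Perm.mul_apply, ih, Units.val_mul, mul_assoc]
        rfl
      | pred i ih =>
        rw [zpow_sub_one, zpow_sub_one, Perm.mul_apply, ih, Units.val_mul, mul_assoc]
        rfl
    rw [key, hk]
    simp
  rw [hcyc.sign]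
  have hs : (Units.mulLeft u : Perm (ZMod p)).support = Finset.univ.erase 0 := by
    ext y
    rw [Perm.mem_support, hsupp]
    simp
  rw [hs, Finset.card_erase_of_mem (Finset.mem_univ _), Finset.card_univ, ZMod.card]
  have hodd : Odd p := hp.odd_of_ne_two hp2
  obtain ⟨m, hm⟩ := hodd
  have : p - 1 = 2 * m := by omega
  rw [this, pow_mul]
  simp

end Cfsg.Agent.Helper69
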