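import Mathlib
import Cfsg.Agent.Helper86.WEDefs

/-!
# Piece (B) of board post #5473 (helper86, S5271): minimal strongly closed subgroups
-/

set_option autoImplicit false

namespace Cfsg.Agent.Helper69.WE

open Cfsg Cfsg.FusionSystem Cfsg.Agent.Helper86.WE

variable {Ω : Type*} [Group Ω] {S : Subgroup Ω}

theorem finite_of_le [Finite S] {T : Subgroup Ω} (hT : T ≤ S) : Finite T :=
  Finite.of_injective (Subgroup.inclusion hT) (Subgroup.inclusion_injective hT)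

theorem stronglyClosed_inf (F : FusionSystem S) {A B : Subgroup Ω} (hA : F.StronglyClosed A)
    (hB : F.StronglyClosed B) : F.StronglyClosed (A ⊓ B) :=
  ⟨inf_le_left.trans hA.1, fun R hR φ hφ x =>
    ⟨hA.2 R (hR.trans inf_le_left) φ hφ x, hB.2 R (hR.trans inf_le_right) φ hφ x⟩⟩

/-- a strongly closed subgroup is normalized by `S`. -/
theorem conj_mem_of_stronglyClosed (F : FusionSystem S) {P : Subgroup Ω} (hP : F.StronglyClosed P)
    {s : Ω} (hs : s ∈ S) {x : Ω} (hx : x ∈ P) : s * x * s⁻¹ ∈ P :=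
  hP.2 P le_rfl (conjHom P s) (F.conj_mem hP.1 hs) ⟨x, hx⟩

/-- if `Q` normalizes `P` then every element of `Q ⊔ P` is a product `q * x`. -/
theorem exists_mul_of_mem_sup {Q P : Subgroup Ω} (h : ∀ q ∈ Q, ∀ x ∈ P, q * x * q⁻¹ ∈ P) {t : Ω}
    (ht : t ∈ Q ⊔ P) : ∃ q ∈ Q, ∃ x ∈ P, t = q * x := by
  let M : Subgroup Ω :=
    { carrier := {t | ∃ q ∈ Q, ∃ x ∈ P, t = q * x}
      one_mem' := ⟨1, Q.one_mem, 1, P.one_mem, by simp⟩
      mul_mem' := by
        rintro _ _ ⟨q, hq, x, hx, rfl⟩ ⟨q', hq', x', hx', rfl⟩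
        refine ⟨q * q', Q.mul_mem hq hq', (q'⁻¹ * x * q'⁻¹⁻¹) * x', P.mul_mem ?_ hx', ?_⟩
        · exact h q'⁻¹ (Q.inv_mem hq') x hx
        · group
      inv_mem' := by
        rintro _ ⟨q, hq, x, hx, rfl⟩
        refine ⟨q⁻¹, Q.inv_mem hq, q * x⁻¹ * q⁻¹, h q hq x⁻¹ (P.inv_mem hx), ?_⟩
        group }
  have hle : Q ⊔ P ≤ M := by
    apply sup_le
    · intro q hq
      exact ⟨q, hq, 1, P.one_mem, by simp⟩
    · intro x hx
      exact ⟨1, Q.one_mem, x, hx, by simp⟩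
  exact hle ht

theorem exists_minSC_le [Finite S] (F : FusionSystem S) {X : Subgroup Ω}
    (hX : F.StronglyClosed X) (hX1 : X ≠ ⊥) : ∃ T : Subgroup Ω, MinSC F T ∧ T ≤ X := by
  classical
  have hP : ∃ n : ℕ, ∃ Y : Subgroup Ω, F.StronglyClosed Y ∧ Y ≠ ⊥ ∧ Y ≤ X ∧ Nat.card Y = n :=
    ⟨Nat.card X, X, hX, hX1, le_rfl, rfl⟩
  obtain ⟨T, hT, hT1, hTX, hTc⟩ := Nat.find_spec hP
  refine ⟨T, ⟨hT, hT1, fun Z hZ hZT => ?_⟩, hTX⟩
  by_cases hZ1 : Z = ⊥
  · exact Or.inl hZ1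
  right
  have hmin : Nat.find hP ≤ Nat.card Z := Nat.find_min' hP ⟨Z, hZ, hZ1, hZT.trans hTX, rfl⟩
  haveI : Finite T := finite_of_le hT.1
  exact Subgroup.eq_of_le_of_card_ge hZT (by rw [hTc]; exact hmin)

theorem card_minSC_le [Finite S] {p : ℕ} [Fact p.Prime] (hS : IsPGroup p S) (F : FusionSystem S)
    (k : ℕ) (hk : 1 ≤ k) (hWE : WEmb p F k) {T : Subgroup Ω} (hT : MinSC F T) :
    Nat.card T ≤ p ^ k := by
  by_contra hcon
  push Not at hcon
  obtain ⟨hTsc, hT1, hTmin⟩ := hT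
  have hTS : T ≤ S := hTsc.1
  haveI : Finite T := finite_of_le hTS
  have hp : p.Prime := Fact.out
  -- `T` is a `p`-group
  have hTp : IsPGroup p T :=
    hS.of_injective (Subgroup.inclusion hTS) (Subgroup.inclusion_injective hTS)
  obtain ⟨H, hH⟩ := Sylow.exists_subgroup_card_pow_prime_of_le_card hp hTp hcon.le
  obtain ⟨Q, hQdef⟩ : ∃ Q : Subgroup Ω, Q = H.map T.subtype := ⟨_, rfl⟩
  have hQc : Nat.card Q = p ^ k := by
    rw [hQdef, Subgroup.card_map_of_injective T.subtype_injective, hH]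
  have hQT : Q ≤ T := by
    rw [hQdef]
    exact Subgroup.map_subtype_le H
  have hQS : Q ≤ S := hQT.trans hTS
  have hQ1 : Q ≠ ⊥ := by
    intro h
    rw [h, Subgroup.card_bot] at hQc
    have : 1 < p ^ k := Nat.one_lt_pow (by omega) hp.one_lt
    omega
  haveI : Finite Q := finite_of_le hQS
  have hTQ : ¬ T ≤ Q := by
    intro h
    have := Subgroup.card_le_of_le h
    omega
  obtain ⟨P, hP, hQP, hQiP⟩ := hWE Q hQS hQc
  -- `Q ⊓ P = ⊥`
  have h1 : Q ⊓ P = ⊥ := by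
    rcases hTmin (Q ⊓ P) hQiP (inf_le_left.trans hQT) with h | h
    · exact h
    · exact absurd (h ▸ inf_le_left : T ≤ Q) hTQ
  -- `T ⊓ P = ⊥`
  have h2 : T ⊓ P = ⊥ := by
    rcases hTmin (T ⊓ P) (stronglyClosed_inf F hTsc hP) inf_le_left with h | h
    · exact h
    · exfalso
      have hTP : T ≤ P := h ▸ inf_le_right
      have : Q ≤ Q ⊓ P := le_inf le_rfl (hQT.trans hTP)
      rw [h1] at this
      exact hQ1 (le_bot_iff.1 this)
  -- `T ≤ Q ⊔ P`
  have h3 : T ≤ Q ⊔ P := by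
    rcases hTmin (T ⊓ (Q ⊔ P)) (stronglyClosed_inf F hTsc hQP) inf_le_left with h | h
    · exfalso
      have : Q ≤ T ⊓ (Q ⊔ P) := le_inf hQT le_sup_left
      rw [h] at this
      exact hQ1 (le_bot_iff.1 this)
    · exact h ▸ inf_le_right
  apply hTQ
  intro t ht
  obtain ⟨q, hq, x, hx, rfl⟩ := exists_mul_of_mem_sup
    (fun q hq x hx => conj_mem_of_stronglyClosed F hP (hQS hq) hx) (h3 ht)
  have hxT : x ∈ T := by
    have : x = q⁻¹ * (q * x) := by group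
    rw [this]
    exact T.mul_mem (T.inv_mem (hQT hq)) ht
  have hx1 : x ∈ T ⊓ P := ⟨hxT, hx⟩
  rw [h2, Subgroup.mem_bot] at hx1
  rw [hx1, mul_one]
  exact hq

end Cfsg.Agent.Helper69.WE
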